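import Cfsg.Agent.SymBlocks.Relation

/-!
Cores of exponent vectors, and values of the alternant coefficients at several cycles of length `p`.
-/

set_option autoImplicit false
set_option linter.unusedSectionVars false

namespace CfsgLib.SymBlocks

open Finset

variable {N : ℕ} {p : ℕ}

/-- The multiset of residues of a vector. -/
def resid (p : ℕ) (a : Fin N → ℕ) : Multiset ℕ := univ.val.map fun i => a i % p

/-- The place of an entry among those of the same residue. -/
def rank (p : ℕ) (a : Fin N → ℕ) (i : Fin N) : ℕ :=
  (univ.filter fun j => a j % p = a i % p ∧ a j < a i).card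

/-- The core of a vector: every entry pushed down within its residue class. -/
def core (p : ℕ) (a : Fin N → ℕ) : Fin N → ℕ := fun i => a i % p + p * rank p a i

/-- The weight of a vector. -/
def weight (p : ℕ) (a : Fin N → ℕ) : ℕ := ∑ i, (a i / p - rank p a i)

theorem resid_comp (a : Fin N → ℕ) (π : Equiv.Perm (Fin N)) : resid p (a ∘ π) = resid p a := by
  have h : (univ : Finset (Fin N)).val.map ⇑π = (univ : Finset (Fin N)).val := by
    rw [← Equiv.coe_toEmbedding, ← Finset.map_val, Finset.map_univ_equiv]
  conv_rhs => rw [resid, ← h, Multiset.map_map]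
  rfl

theorem resid_raise (b : Fin N → ℕ) {i : Fin N} {m : ℕ} (h : p ∣ m) :
    resid p (raise b i m) = resid p b := by
  refine Multiset.map_congr rfl fun k _ => ?_
  obtain ⟨c, rfl⟩ := h
  by_cases hk : k = i
  · subst hk; rw [raise_self, Nat.add_mul_mod_self_left]
  · rw [raise_ne _ hk]

theorem card_class (a : Fin N → ℕ) (r : ℕ) :
    (univ.filter fun i => a i % p = r).card = (resid p a).count r := by
  rw [resid, Multiset.count_map, Finset.card_def, Finset.filter_val]
  simp only [eq_comm]

theorem rank_lt_rank {a : Fin N → ℕ} {i j : Fin N} (hr : a i % p = a j % p) (h : a i < a j) :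
    rank p a i < rank p a j := by
  refine Finset.card_lt_card ⟨fun k hk => ?_, fun hsub => ?_⟩
  · simp only [Finset.mem_filter, Finset.mem_univ, true_and] at hk ⊢
    exact ⟨hk.1.trans hr, hk.2.trans h⟩
  · have := hsub (show i ∈ univ.filter fun k => a k % p = a j % p ∧ a k < a j by simp [hr, h])
    simp at this

theorem rank_inj {a : Fin N → ℕ} (hinj : Function.Injective a) {i j : Fin N}
    (hr : a i % p = a j % p) (h : rank p a i = rank p a j) : i = j := by
  rcases lt_trichotomy (a i) (a j) with h1 | h1 | h1
  · exact absurd h (rank_lt_rank hr h1).ne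
  · exact hinj h1
  · exact absurd h (rank_lt_rank hr.symm h1).ne'

theorem eq_of_mod_div {x y : ℕ} (h1 : x % p = y % p) (h2 : x / p = y / p) : x = y := by
  rw [← Nat.div_add_mod x p, ← Nat.div_add_mod y p, h1, h2]

theorem rank_le_div {a : Fin N → ℕ} (hp : 0 < p) (hinj : Function.Injective a) (i : Fin N) :
    rank p a i ≤ a i / p := by
  conv_rhs => rw [← Finset.card_range (a i / p)]
  refine Finset.card_le_card_of_injOn (fun j => a j / p) (fun j hj => ?_) (fun j hj k hk h => ?_)
  · simp only [Finset.coe_filter, Set.mem_ofPred_eq, Finset.mem_univ, true_and] at hj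
    rw [Finset.mem_coe, Finset.mem_range]
    rcases lt_or_ge (a j / p) (a i / p) with h | h
    · exact h
    exact absurd (eq_of_mod_div hj.1 (le_antisymm (Nat.div_le_div_right hj.2.le) h)) hj.2.ne
  · simp only [Finset.coe_filter, Set.mem_ofPred_eq, Finset.mem_univ, true_and] at hj hk
    exact hinj (eq_of_mod_div (hj.1.trans hk.1.symm) h)

theorem core_injective {a : Fin N → ℕ} (hp : 0 < p) (hinj : Function.Injective a) :
    Function.Injective (core p a) := by
  intro i j h
  have hmod := congrArg (· % p) h
  simp only [core, Nat.add_mul_mod_self_left, Nat.mod_mod] at hmod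
  simp only [core, hmod, Nat.add_left_cancel_iff] at h
  exact rank_inj hinj hmod (Nat.eq_of_mul_eq_mul_left hp h)

theorem sum_eq_core_add {a : Fin N → ℕ} (hp : 0 < p) (hinj : Function.Injective a) :
    ∑ i, a i = ∑ i, core p a i + p * weight p a := by
  rw [weight, Finset.mul_sum, ← Finset.sum_add_distrib]
  refine Finset.sum_congr rfl fun i _ => ?_
  have := Nat.div_add_mod (a i) p
  have h := Nat.mul_le_mul_left p (rank_le_div hp hinj i)
  rw [core, Nat.mul_sub]
  omega

theorem weight_mul_le {n : ℕ} {a : Fin N → ℕ} (hp : 0 < p) (hinj : Function.Injective a)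
    (ha : ∑ i, a i = n + N.choose 2) : p * weight p a ≤ n := by
  have := choose_add_le_sum (core_injective hp hinj)
  have := sum_eq_core_add hp hinj
  omega

theorem sum_rank {a : Fin N → ℕ} (hp : 0 < p) (hinj : Function.Injective a) :
    ∑ i, rank p a i = ∑ r ∈ Finset.range p, ((resid p a).count r).choose 2 := by
  rw [← Finset.sum_fiberwise_of_maps_to (g := fun i => a i % p) (t := Finset.range p)
    fun i _ => Finset.mem_range.mpr (Nat.mod_lt _ hp)]
  refine Finset.sum_congr rfl fun r _ => ?_
  rw [Nat.choose_two_right, ← Finset.sum_range_id]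
  have hinjOn : Set.InjOn (rank p a) (univ.filter fun i => a i % p = r : Finset (Fin N)) := by
    intro i hi j hj h
    simp only [Finset.coe_filter, Set.mem_ofPred_eq, Finset.mem_univ, true_and] at hi hj
    exact rank_inj hinj (hi.trans hj.symm) h
  have him : (univ.filter fun i => a i % p = r).image (rank p a) =
      Finset.range ((resid p a).count r) := by
    refine Finset.eq_of_subset_of_card_le (fun x hx => ?_) ?_
    · obtain ⟨i, hi, rfl⟩ := Finset.mem_image.mp hx
      simp only [Finset.mem_filter, Finset.mem_univ, true_and] at hi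
      rw [Finset.mem_range, ← card_class]
      refine Finset.card_lt_card ⟨fun k hk => ?_, fun hsub => ?_⟩
      · simp only [Finset.mem_filter, Finset.mem_univ, true_and] at hk ⊢
        exact hk.1.trans hi
      · have := hsub (show i ∈ univ.filter fun k => a k % p = r by simp [hi])
        simp at this
    · rw [Finset.card_range, Finset.card_image_of_injOn hinjOn, card_class]
  rw [← him, Finset.sum_image hinjOn]

/-- The weight depends only on the residues and the sum. -/
theorem weight_congr {a b : Fin N → ℕ} (hp : 0 < p) (ha : Function.Injective a)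
    (hb : Function.Injective b) (hr : resid p a = resid p b) (hs : ∑ i, a i = ∑ i, b i) :
    weight p a = weight p b := by
  have h1 := sum_eq_core_add hp ha
  have h2 := sum_eq_core_add hp hb
  have e : ∀ c : Fin N → ℕ, ∑ i, core p c i = (resid p c).sum + p * ∑ i, rank p c i := fun c => by
    rw [Finset.mul_sum, resid, show (Multiset.map (fun i => c i % p) univ.val).sum = ∑ i, c i % p
      from rfl, ← Finset.sum_add_distrib]
    rfl
  rw [e, sum_rank hp ha] at h1
  rw [e, sum_rank hp hb, ← hr] at h2
  exact Nat.eq_of_mul_eq_mul_left hp (by omega)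

theorem exists_vacant {a : Fin N → ℕ} (hp : 0 < p) (hinj : Function.Injective a)
    (hw : 0 < weight p a) : ∃ i, p ≤ a i ∧ ∀ j, a j ≠ a i - p := by
  by_contra h
  push Not at h
  have key : ∀ x i, a i = x → a i / p ≤ rank p a i := by
    intro x
    induction x using Nat.strong_induction_on with
    | _ x ih =>
      intro i hi
      rcases lt_or_ge (a i) p with h1 | h1
      · rw [Nat.div_eq_of_lt h1]; exact Nat.zero_le _
      · obtain ⟨j, hj⟩ := h i h1
        have hr : a j % p = a i % p := by rw [hj]; exact (Nat.mod_eq_sub_mod h1).symm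
        have := ih (a j) (by omega) j rfl
        have := rank_lt_rank hr (show a j < a i by omega)
        have hdiv : a i / p = a j / p + 1 := by rw [hj]; exact Nat.div_eq_sub_div hp h1
        omega
  rw [weight] at hw
  rw [Finset.sum_eq_zero (fun i _ => Nat.sub_eq_zero_of_le (key _ i rfl))] at hw
  omega

theorem core_lower {a : Fin N → ℕ} {i : Fin N} (hi : p ≤ a i) (ha : Function.Injective a)
    (hinj : Function.Injective (lower a i p)) : core p (lower a i p) = core p a := by
  have hmod : ∀ k, lower a i p k % p = a k % p := by
    intro k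
    by_cases hk : k = i
    · subst hk; rw [lower_self]; exact (Nat.mod_eq_sub_mod hi).symm
    · rw [lower_ne _ hk]
  have key : ∀ x y : ℕ, x % p = y % p → x < y → x + p ≤ y := by
    intro x y h1 h2
    have := Nat.div_le_div_right (c := p) h2.le
    rcases this.lt_or_eq with h3 | h3
    · have := Nat.mul_le_mul_left p (show x / p + 1 ≤ y / p from h3)
      have := Nat.div_add_mod x p
      have := Nat.div_add_mod y p
      rw [Nat.mul_add, mul_one] at *
      omega
    · exact absurd (eq_of_mod_div h1 h3) h2.ne
  funext k
  simp only [core, hmod, rank]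
  congr 3
  refine Finset.filter_congr fun j _ => and_congr_right fun hjk => ?_
  have hne : j ≠ k → lower a i p j ≠ lower a i p k := fun h e => h (hinj e)
  by_cases hj : j = i
  · subst hj
    by_cases hk : k = j
    · subst hk; simp
    have := hne (Ne.symm hk)
    rw [lower_self, lower_ne _ hk] at this ⊢
    refine ⟨fun h => ?_, fun h => by omega⟩
    by_contra h'
    rcases (not_lt.mp h').eq_or_lt with e | e
    · exact hk (ha e)
    · have := key _ _ hjk.symm e
      omega
  · rw [lower_ne _ hj]
    by_cases hk : k = i
    · subst hk
      have := hne hj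
      rw [lower_self, lower_ne _ hj] at this
      rw [lower_self]
      refine ⟨fun h => by omega, fun h => ?_⟩
      have := key _ _ hjk h
      omega
    · rw [lower_ne _ hk]

/-- **Removing several cycles of length `p`**, with a multiplier depending only on the vector. -/
theorem exists_multiplier (hp : 0 < p) : ∀ (w : ℕ) (a : Fin N → ℕ),
    Function.Injective a → weight p a = w →
    ∃ K : ℕ, 0 < K ∧ ∀ L : Multiset ℕ,
      frob (Multiset.replicate w p + L) a = (K : ℤ) * frob L (core p a) := by
  intro w
  induction w with
  | zero =>
    intro a hinj hw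
    refine ⟨1, Nat.one_pos, fun L => ?_⟩
    have e : core p a = a := funext fun i => by
      have h := (Finset.sum_eq_zero_iff.mp hw) i (Finset.mem_univ i)
      have := rank_le_div hp hinj i
      rw [core, show rank p a i = a i / p by omega, Nat.mod_add_div]
    simp [e]
  | succ w ih =>
    intro a hinj hw
    have hterm : ∀ i, ∃ K : ℕ, (p ≤ a i → Function.Injective (lower a i p) → 0 < K) ∧
        ∀ L, (if p ≤ a i then frob (Multiset.replicate w p + L) (lower a i p) else 0) =
          (K : ℤ) * frob L (core p a) := by
      intro i
      by_cases hi : p ≤ a i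
      swap
      · exact ⟨0, fun h => absurd h hi, fun L => by simp [hi]⟩
      by_cases hinj' : Function.Injective (lower a i p)
      swap
      · exact ⟨0, fun _ h => absurd h hinj',
          fun L => by rw [if_pos hi, (frob_alternating _).eq_zero_of_not_injective hinj']; simp⟩
      have hw' : weight p (lower a i p) = w := by
        have h1 := sum_eq_core_add hp hinj
        have h2 := sum_eq_core_add hp hinj'
        have h3 := sum_lower a hi
        rw [core_lower hi hinj hinj'] at h2
        rw [hw, Nat.mul_succ] at h1
        exact Nat.eq_of_mul_eq_mul_left hp (by omega)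
      obtain ⟨K, hK, e⟩ := ih (lower a i p) hinj' hw'
      refine ⟨K, fun _ _ => hK, fun L => ?_⟩
      rw [if_pos hi, e, core_lower hi hinj hinj']
    choose K hK1 hK2 using hterm
    refine ⟨∑ i, K i, ?_, fun L => ?_⟩
    · obtain ⟨i, hi, hvac⟩ := exists_vacant hp hinj (by omega)
      refine lt_of_lt_of_le (hK1 i hi ?_) (Finset.single_le_sum (fun j _ => Nat.zero_le (K j))
        (Finset.mem_univ i))
      intro x y h
      by_cases hx : x = i <;> by_cases hy : y = i
      · rw [hx, hy]
      · subst hx; rw [lower_self, lower_ne _ hy] at h; exact absurd h.symm (hvac y)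
      · subst hy; rw [lower_self, lower_ne _ hx] at h; exact absurd h (hvac x)
      · rw [lower_ne _ hx, lower_ne _ hy] at h; exact hinj h
    · rw [Multiset.replicate_succ, Multiset.cons_add, frob_cons]
      simp only [hK2]
      rw [Nat.cast_sum, Finset.sum_mul]

/-- Removing several cycles of length `p`. -/
theorem frob_replicate (hp : 0 < p) (w : ℕ) (a : Fin N → ℕ) (L : Multiset ℕ)
    (hinj : Function.Injective a) (hw : weight p a = w) :
    ∃ K : ℕ, 0 < K ∧ frob (Multiset.replicate w p + L) a = (K : ℤ) * frob L (core p a) := by
  obtain ⟨K, hK, h⟩ := exists_multiplier hp w a hinj hw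
  exact ⟨K, hK, h L⟩

end CfsgLib.SymBlocks
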