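import Cfsg.Agent.SymBlocks.Irr
import Cfsg.Agent.SymBlocks.Core
import Cfsg.Agent.Blocks.Sections
import Cfsg.Agent.Blocks.Defect
import Cfsg.Prelude.Def_CaseTheorems

/-!
The defect groups of a block of a symmetric group of weight `w` have rank at least `w`.
-/

set_option autoImplicit false
set_option linter.unusedSectionVars false
set_option linter.style.haveILetI false

namespace CfsgLib.SymBlocks

open Finset Equiv Equiv.Perm
open Cfsg (IrrCharacter classInner)
open CfsgLib.BlockPairs (cj mem_cj card_cj)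
open scoped ComplexConjugate

variable {n N p : ℕ}

/-- The subgroup generated by the cycles of a permutation. -/
noncomputable def cycleGroup (x : Perm (Fin n)) : Subgroup (Perm (Fin n)) :=
  (Subgroup.noncommPiCoprod x.pairwise_commute_of_mem_zpowers).range

theorem cycleGroup_eq (x : Perm (Fin n)) :
    cycleGroup x = ⨆ c : x.cycleFactorsFinset, Subgroup.zpowers (c : Perm (Fin n)) := by
  rw [cycleGroup, Subgroup.noncommPiCoprod_range]

theorem cycleGroup_le (x : Perm (Fin n)) : cycleGroup x ≤ Subgroup.centralizer {x} := by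
  rw [cycleGroup_eq, iSup_le_iff]
  intro c
  rw [Subgroup.zpowers_le, Subgroup.mem_centralizer_singleton_iff]
  exact self_mem_cycle_factors_commute c.2

theorem cycleGroup_conj {x h : Perm (Fin n)} (hh : h ∈ Subgroup.centralizer ({x} : Set (Perm (Fin n))))
    {q : Perm (Fin n)} (hq : q ∈ cycleGroup x) : h * q * h⁻¹ ∈ cycleGroup x := by
  have hle : (cycleGroup x).map (MulAut.conj h).toMonoidHom ≤ cycleGroup x := by
    rw [cycleGroup_eq, Subgroup.map_iSup, iSup_le_iff]
    intro c
    rw [MonoidHom.map_zpowers, Subgroup.zpowers_le]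
    have hc : h * c * h⁻¹ ∈ x.cycleFactorsFinset := by
      have e : h * x * h⁻¹ = x := by
        rw [(Subgroup.mem_centralizer_singleton_iff.mp hh), mul_inv_cancel_right]
      have h' := (mem_cycleFactorsFinset_conj x h (c : Perm (Fin n))).mpr c.2
      rwa [e] at h'
    exact Subgroup.mem_iSup_of_mem (⟨_, hc⟩ : x.cycleFactorsFinset) (Subgroup.mem_zpowers _)
  exact hle ⟨q, hq, rfl⟩

theorem noncommPiCoprod_injective (x : Perm (Fin n)) :
    Function.Injective (Subgroup.noncommPiCoprod x.pairwise_commute_of_mem_zpowers) := by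
  intro v v' h
  have := OnCycleFactors.kerParam_injective x (a₁ := (1, v)) (a₂ := (1, v'))
    (by simp [OnCycleFactors.kerParam, MonoidHom.noncommCoprod_apply, h])
  exact (Prod.ext_iff.mp this).2

variable [Fact p.Prime]

theorem orderOf_cycle {w : ℕ} {x : Perm (Fin n)} (hx : x.cycleType = Multiset.replicate w p)
    (c : x.cycleFactorsFinset) : orderOf (c : Perm (Fin n)) = p := by
  rw [(mem_cycleFactorsFinset_iff.mp c.2).1.orderOf]
  refine Multiset.eq_of_mem_replicate (n := w) ?_
  rw [← hx, cycleType_def]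
  exact Multiset.mem_map_of_mem _ c.2

theorem card_cycleGroup {w : ℕ} {x : Perm (Fin n)} (hx : x.cycleType = Multiset.replicate w p) :
    Nat.card (cycleGroup x) = p ^ w := by
  rw [cycleGroup, Nat.card_congr (MonoidHom.ofInjective (noncommPiCoprod_injective x)).toEquiv.symm,
    Nat.card_pi, Finset.prod_congr rfl fun c _ => by rw [Nat.card_zpowers, orderOf_cycle hx c],
    Finset.prod_const, Finset.card_univ, Fintype.card_coe]
  congr 1
  have h := congrArg Multiset.card hx
  rwa [cycleType_def, Multiset.card_map, Multiset.card_replicate] at h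

theorem cycleGroup_elementary {w : ℕ} {x : Perm (Fin n)}
    (hx : x.cycleType = Multiset.replicate w p) :
    (∀ a ∈ cycleGroup x, ∀ b ∈ cycleGroup x, a * b = b * a) ∧ ∀ a ∈ cycleGroup x, a ^ p = 1 := by
  refine ⟨?_, ?_⟩
  · rintro a ⟨v, rfl⟩ b ⟨v', rfl⟩
    rw [← map_mul, ← map_mul]
    congr 1
    funext c
    exact mul_comm' (v c) (v' c)
  · rintro a ⟨v, rfl⟩
    rw [← map_pow]
    refine (congrArg _ (?_ : v ^ p = 1)).trans (map_one _)
    funext c
    refine Subtype.ext ?_
    obtain ⟨k, hk⟩ := Subgroup.mem_zpowers_iff.mp (v c).2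
    simp only [Pi.pow_apply, SubgroupClass.coe_pow, Pi.one_apply, OneMemClass.coe_one, ← hk]
    rw [← zpow_natCast, ← zpow_mul, mul_comm, zpow_mul, zpow_natCast, ← orderOf_cycle hx c,
      pow_orderOf_eq_one, one_zpow]

variable {M : Ideal Cfsg.AlgInt} [M.IsPrime]

theorem orderOf_eq_pow {w : ℕ} {x : Perm (Fin n)} (hx : x.cycleType = Multiset.replicate w p) :
    ∃ k, orderOf x = p ^ k := by
  have hp : p.Prime := Fact.out
  have h : orderOf x ∣ p ^ 1 := by
    rw [pow_one, ← lcm_cycleType, hx, Multiset.lcm_dvd]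
    intro m hm
    rw [Multiset.eq_of_mem_replicate hm]
  obtain ⟨k, -, hk⟩ := (Nat.dvd_prime_pow hp).mp h
  exact ⟨k, hk⟩

theorem exists_cycleType {a : Fin N → ℕ} (ha : ∑ i, a i = n + N.choose 2)
    (hinj : Function.Injective a) :
    ∃ x : Perm (Fin n), x.cycleType = Multiset.replicate (weight p a) p := by
  have hp : p.Prime := Fact.out
  have hpw : p * weight p a ≤ n := weight_mul_le hp.pos hinj ha
  exact (exists_with_cycleType_iff (Fin n)).mpr
    ⟨show (Multiset.replicate (weight p a) p).sum ≤ Fintype.card (Fin n) by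
      rw [Multiset.sum_replicate, Fintype.card_fin, smul_eq_mul, mul_comm]; exact hpw,
      fun m hm => by rw [Multiset.eq_of_mem_replicate hm]; exact hp.two_le⟩

/-- A block is seen in the centralizer of `w` cycles of length `p`. -/
theorem overSet_nonempty (hM : Cfsg.IsPModular p M) {B : Set (IrrCharacter (Perm (Fin n)))}
    (hB : Cfsg.IsPBlock M B) {χ : IrrCharacter (Perm (Fin n))} (hχ : χ ∈ B)
    {a : Fin N → ℕ} (ha : ∑ i, a i = n + N.choose 2) (hinj : Function.Injective a) {ε : ℂ}
    (he : chi (n := n) a = ε • (χ : Perm (Fin n) → ℂ)) {x : Perm (Fin n)}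
    (hx : x.cycleType = Multiset.replicate (weight p a) p)
    [Fintype (Subgroup.centralizer ({x} : Set (Perm (Fin n))))] :
    (Blocks.overSet M (Subgroup.centralizer ({x} : Set (Perm (Fin n)))) B
      (Blocks.isBlockUnion_of_isPBlock hB)).Nonempty := by
  classical
  have hp : p.Prime := Fact.out
  set w := weight p a with hw
  have hpw : p * w ≤ n := weight_mul_le hp.pos hinj ha
  have hval : (χ : Perm (Fin n) → ℂ) x ≠ 0 := by
    obtain ⟨K, hK, e⟩ := frob_replicate hp.pos w a (Multiset.replicate (n - p * w) 1) hinj hw.symm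
    have hparts : x.partition.parts =
        Multiset.replicate w p + Multiset.replicate (n - p * w) 1 := by
      rw [Equiv.Perm.parts_partition, ← sum_cycleType, hx, Fintype.card_fin, Multiset.sum_replicate,
        smul_eq_mul, mul_comm w p]
    have hc : ∑ i, core p a i = (n - p * w) + N.choose 2 := by
      have := sum_eq_core_add hp.pos hinj
      rw [← hw] at this
      omega
    have hdeg := chi_one_ne_zero (n := n - p * w) hc (core_injective hp.pos hinj)
    have hne : chi (n := n) a x ≠ 0 := by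
      rw [chi, hparts, e, Int.cast_mul, Int.cast_natCast]
      refine mul_ne_zero (Nat.cast_ne_zero.mpr (by omega)) ?_
      rwa [chi, parts_one] at hdeg
    intro h0
    rw [he, Pi.smul_apply, smul_eq_mul, h0, mul_zero] at hne
    exact hne rfl
  by_contra hemp
  rw [Set.not_nonempty_iff_eq_empty] at hemp
  have h := Blocks.blockPart_overSet hM (orderOf_eq_pow hx) hB χ (y := 1)
    (by rw [orderOf_one]; exact hp.not_dvd_one)
  rw [if_pos hχ, hemp, OneMemClass.coe_one, mul_one] at h
  refine hval ?_
  rw [← h]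
  simp [Cfsg.blockPart]

/-- The weight is at most the rank of a defect group. -/
theorem weight_le_rank (hM : Cfsg.IsPModular p M) {B : Set (IrrCharacter (Perm (Fin n)))}
    (hB : Cfsg.IsPBlock M B) {D : Subgroup (Perm (Fin n))} (hD : Cfsg.IsDefectGroup p M B D) {s : ℕ}
    (hs : Cfsg.SectionalPRankLE p s D) {χ : IrrCharacter (Perm (Fin n))} (hχ : χ ∈ B)
    {a : Fin N → ℕ} (ha : ∑ i, a i = n + N.choose 2) (hinj : Function.Injective a) {ε : ℂ}
    (he : chi (n := n) a = ε • (χ : Perm (Fin n) → ℂ)) : weight p a ≤ s := by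
  classical
  have hp : p.Prime := Fact.out
  set w := weight p a with hw
  obtain ⟨x, hx⟩ := exists_cycleType (p := p) ha hinj
  haveI : Fintype (Subgroup.centralizer ({x} : Set (Perm (Fin n)))) := Fintype.ofFinite _
  set H := Subgroup.centralizer ({x} : Set (Perm (Fin n))) with hH
  obtain ⟨ξ, hξ⟩ := overSet_nonempty hM hB hχ ha hinj he hx
  set Q := cycleGroup x with hQ
  have hQH : Q ≤ H := cycleGroup_le x
  haveI : (Q.subgroupOf H).Normal := ⟨fun q hq h => by
    rw [Subgroup.mem_subgroupOf] at hq ⊢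
    exact cycleGroup_conj h.2 hq⟩
  have hQp : IsPGroup p Q := IsPGroup.of_card (card_cycleGroup hx)
  obtain ⟨g, hg, hne⟩ : ∃ g : Perm (Fin n), g ∈ Subgroup.centralizer (Q : Set (Perm (Fin n))) ∧
      (Blocks.idemBar M B (Blocks.isBlockUnion_of_isPBlock hB) :
        MonoidAlgebra (Blocks.Res M) (Perm (Fin n))).coeff g ≠ 0 := by
    by_contra hall
    push Not at hall
    refine hξ (Blocks.omegaBar_eq_zero_of_coeff_centralizer hM (Q.subgroupOf H) hQp.comap_subtype ξ
      fun g hg => ?_)
    rw [Blocks.coeff_resCtr]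
    refine hall _ (Subgroup.mem_centralizer_iff.2 fun u hu => ?_)
    exact congrArg Subtype.val (Subgroup.mem_centralizer_iff.1 hg ⟨u, hQH hu⟩ hu)
  obtain ⟨y, hy⟩ := Blocks.IsDefectGroup.domBy hM hB hD Q hQp g hg hne
  -- an elementary abelian subgroup of the defect group
  let f : D →* (⊤ : Subgroup D) ⧸ (⊥ : Subgroup (⊤ : Subgroup D)) :=
    (QuotientGroup.mk' _).comp Subgroup.topEquiv.symm.toMonoidHom
  have hf : Function.Injective f := by
    intro u v huv
    simp only [f, MonoidHom.coe_comp, Function.comp_apply, QuotientGroup.mk'_apply,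
      QuotientGroup.eq, Subgroup.mem_bot, inv_mul_eq_one] at huv
    exact Subgroup.topEquiv.symm.injective huv
  set A := ((cj y Q).subgroupOf D).map f with hA
  have hcard : Nat.card A = p ^ w := by
    rw [hA, Nat.card_congr (Subgroup.equivMapOfInjective _ f hf).toEquiv.symm,
      Nat.card_congr (Subgroup.subgroupOfEquivOfLe hy).toEquiv, card_cj, card_cycleGroup hx]
  have hmem : ∀ z ∈ (cj y Q).subgroupOf D, y⁻¹ * (z : Perm (Fin n)) * y ∈ Q := fun z hz =>
    mem_cj.mp (Subgroup.mem_subgroupOf.mp hz)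
  have key := hs ⊤ ⊥ A ?_ ?_
  · rw [hcard] at key
    exact (Nat.pow_le_pow_iff_right hp.one_lt).mp key
  · refine ⟨⟨?_⟩⟩
    rintro ⟨-, u, hu, rfl⟩ ⟨-, v, hv, rfl⟩
    refine Subtype.ext ?_
    show f u * f v = f v * f u
    rw [← map_mul, ← map_mul]
    congr 1
    refine Subtype.ext ?_
    have h := (cycleGroup_elementary hx).1 _ (hmem u hu) _ (hmem v hv)
    have h' := congrArg (fun z => y * z * y⁻¹) h
    simpa [mul_assoc] using h'
  · rintro - ⟨u, hu, rfl⟩
    rw [← map_pow]
    convert map_one f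
    refine Subtype.ext ?_
    have h := (cycleGroup_elementary hx).2 _ (hmem u hu)
    rw [show y⁻¹ * (u : Perm (Fin n)) * y = y⁻¹ * (u : Perm (Fin n)) * (y⁻¹)⁻¹ by rw [inv_inv],
      conj_pow] at h
    have h' := congrArg (fun z => y * z * y⁻¹) h
    simpa [mul_assoc] using h'

end CfsgLib.SymBlocks
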