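import Mathlib.Algebra.BigOperators.Group.Finset.Basic
import Mathlib.Data.Finset.Powerset
import Mathlib.Data.Fintype.BigOperators
import Mathlib.Data.Nat.Choose.Sum
import Mathlib.Tactic

/-!
There are fewer than `(k + 1) ^ w` states of `k` runners with total excess `w ≥ 1`.
-/

set_option autoImplicit false
set_option linter.unusedSectionVars false

namespace CfsgLib.SymBlocks

open Finset

theorem choose_card_le_sum (S : Finset ℕ) : S.card.choose 2 ≤ ∑ x ∈ S, x := by
  induction S using Finset.induction_on_max with
  | empty => simp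
  | insert x S hx ih =>
    have hns : x ∉ S := fun h => lt_irrefl x (hx x h)
    have hcard : S.card ≤ x := by
      have := Finset.card_le_card (fun y hy => Finset.mem_range.mpr (hx y hy) : S ⊆ Finset.range x)
      rwa [Finset.card_range] at this
    rw [Finset.sum_insert hns, Finset.card_insert_of_notMem hns, Nat.choose_succ_succ,
      Nat.choose_one_right]
    change S.card + S.card.choose 2 ≤ _
    omega

theorem lt_of_mem_of_sum_le {S : Finset ℕ} {w x : ℕ} (hx : x ∈ S)
    (h : ∑ y ∈ S, y ≤ S.card.choose 2 + w) : x < S.card + w := by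
  have h1 := choose_card_le_sum (S.erase x)
  have h2 := Finset.add_sum_erase S (fun y => y) hx
  obtain ⟨c, hc⟩ : ∃ c, S.card = c + 1 := ⟨S.card - 1, by have := Finset.card_pos.mpr ⟨x, hx⟩; omega⟩
  rw [Finset.card_erase_of_mem hx, hc, Nat.add_sub_cancel] at h1
  rw [hc, Nat.choose_succ_succ, Nat.choose_one_right] at h
  change ∑ y ∈ S, y ≤ c + c.choose 2 + w at h
  omega

theorem eq_range_of_sum_le {S : Finset ℕ} (h : ∑ y ∈ S, y ≤ S.card.choose 2) :
    S = Finset.range S.card :=
  Finset.eq_of_subset_of_card_le (fun x hx => Finset.mem_range.mpr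
    (lt_of_mem_of_sum_le (w := 0) hx h)) (by rw [Finset.card_range])

variable {k : ℕ}

/-- The states of `k` runners with given numbers of beads and given total excess. -/
noncomputable def states (c : Fin k → ℕ) (w : ℕ) : Finset (Fin k → Finset ℕ) :=
  (Fintype.piFinset fun r => (Finset.range (c r + w)).powersetCard (c r)).filter
    fun S => ∑ r, ∑ x ∈ S r, x = ∑ r, (c r).choose 2 + w

theorem mem_states {c : Fin k → ℕ} {w : ℕ} {S : Fin k → Finset ℕ} :
    S ∈ states c w ↔ (∀ r, (S r).card = c r) ∧ ∑ r, ∑ x ∈ S r, x = ∑ r, (c r).choose 2 + w := by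
  classical
  rw [states, Finset.mem_filter, Fintype.mem_piFinset]
  refine and_congr_left fun h => ⟨fun h' r => (Finset.mem_powersetCard.mp (h' r)).2, fun h' r => ?_⟩
  refine Finset.mem_powersetCard.mpr ⟨fun x hx => Finset.mem_range.mpr ?_, h' r⟩
  rw [← h' r]
  refine lt_of_mem_of_sum_le hx ?_
  have h1 := Finset.add_sum_erase Finset.univ (fun t => ∑ x ∈ S t, x) (Finset.mem_univ r)
  have h2 := Finset.add_sum_erase Finset.univ (fun t => (c t).choose 2) (Finset.mem_univ r)
  have hs : ∑ t ∈ Finset.univ.erase r, (c t).choose 2 ≤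
      ∑ t ∈ Finset.univ.erase r, ∑ x ∈ S t, x :=
    Finset.sum_le_sum fun t _ => h' t ▸ choose_card_le_sum _
  rw [h' r]
  omega

/-- A state with positive excess is given by a runner, a length and a state of smaller excess. -/
theorem card_states_succ_le (c : Fin k → ℕ) (w : ℕ) :
    (states c (w + 1)).card ≤ k * ∑ j ∈ Finset.range (w + 1), (states c j).card := by
  classical
  have hsig : ((Finset.univ : Finset (Fin k)) ×ˢ
      (Finset.range (w + 1)).sigma fun j => states c j).card =
      k * ∑ j ∈ Finset.range (w + 1), (states c j).card := by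
    rw [Finset.card_product, Finset.card_univ, Fintype.card_fin, Finset.card_sigma]
  rw [← hsig]
  have hex : ∀ S ∈ states c (w + 1), ∃ r, ∃ m ∈ S r, (∀ x ∈ S r, x ≤ m) ∧ (c r).choose 2 < ∑ x ∈ S r, x := by
    intro S hS
    obtain ⟨hc, hsum⟩ := mem_states.mp hS
    obtain ⟨r, hr⟩ : ∃ r, (c r).choose 2 < ∑ x ∈ S r, x := by
      by_contra h
      push Not at h
      have := Finset.sum_le_sum (s := Finset.univ) fun r _ => h r
      omega
    have hne : (S r).Nonempty := by
      by_contra h
      rw [Finset.not_nonempty_iff_eq_empty] at h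
      rw [h] at hr
      simp at hr
    exact ⟨r, (S r).max' hne, Finset.max'_mem _ _, fun x hx => Finset.le_max' _ x hx, hr⟩
  choose R m hm hmax hexc using hex
  let f : ∀ S ∈ states c (w + 1), Fin k × (_ : ℕ) × (Fin k → Finset ℕ) := fun S hS =>
    (R S hS, ⟨w + 1 - (m S hS + 1 - c (R S hS)),
      Function.update S (R S hS) (insert 0 (((S (R S hS)).erase (m S hS)).image (· + 1)))⟩)
  have key : ∀ S (hS : S ∈ states c (w + 1)),
      1 ≤ m S hS + 1 - c (R S hS) ∧ m S hS + 1 - c (R S hS) ≤ w + 1 ∧
      Function.update S (R S hS) (insert 0 (((S (R S hS)).erase (m S hS)).image (· + 1))) ∈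
        states c (w + 1 - (m S hS + 1 - c (R S hS))) := by
    intro S hS
    obtain ⟨hc, hsum⟩ := mem_states.mp hS
    set r := R S hS
    set x := m S hS
    have hx : x ∈ S r := hm S hS
    have h0 : (0 : ℕ) ∉ ((S r).erase x).image (· + 1) := by simp
    have hcard : (insert 0 (((S r).erase x).image (· + 1))).card = c r := by
      rw [Finset.card_insert_of_notMem h0, Finset.card_image_of_injective _ (add_left_injective 1),
        Finset.card_erase_of_mem hx, hc r]
      have := Finset.card_pos.mpr ⟨x, hx⟩
      have := hc r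
      omega
    have hs1 : ∑ y ∈ insert 0 (((S r).erase x).image (· + 1)), y + x + 1 =
        ∑ y ∈ S r, y + c r := by
      rw [Finset.sum_insert h0, Finset.sum_image fun a _ b _ h => add_left_injective 1 h,
        Finset.sum_add_distrib, Finset.sum_const, smul_eq_mul, mul_one,
        Finset.card_erase_of_mem hx, hc r, ← Finset.add_sum_erase (S r) (fun y => y) hx]
      have := Finset.card_pos.mpr ⟨x, hx⟩
      have := hc r
      omega
    have hge : c r ≤ x := by
      by_contra hlt
      have hsub : S r ⊆ Finset.range (c r) := fun y hy =>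
        Finset.mem_range.mpr (lt_of_le_of_lt (hmax S hS y hy) (not_le.mp hlt))
      have := hexc S hS
      change (c r).choose 2 < ∑ y ∈ S r, y at this
      rw [Finset.eq_of_subset_of_card_le hsub (by rw [Finset.card_range, hc r]), Finset.sum_range_id,
        ← Nat.choose_two_right] at this
      exact lt_irrefl _ this
    have hlow := choose_card_le_sum (insert 0 (((S r).erase x).image (· + 1)))
    rw [hcard] at hlow
    have hup : ∑ y ∈ S r, y ≤ (c r).choose 2 + (w + 1) := by
      have h1 := Finset.add_sum_erase Finset.univ (fun t => ∑ y ∈ S t, y) (Finset.mem_univ r)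
      have h2 := Finset.add_sum_erase Finset.univ (fun t => (c t).choose 2) (Finset.mem_univ r)
      have hs : ∑ t ∈ Finset.univ.erase r, (c t).choose 2 ≤
          ∑ t ∈ Finset.univ.erase r, ∑ y ∈ S t, y :=
        Finset.sum_le_sum fun t _ => hc t ▸ choose_card_le_sum _
      omega
    refine ⟨by omega, by omega, mem_states.mpr ⟨fun t => ?_, ?_⟩⟩
    · by_cases ht : t = r
      · subst ht; rw [Function.update_self, hcard]
      · rw [Function.update_of_ne ht, hc t]
    · have h1 := Finset.add_sum_erase Finset.univ (fun t => ∑ y ∈ S t, y) (Finset.mem_univ r)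
      rw [← Finset.add_sum_erase Finset.univ _ (Finset.mem_univ r), Function.update_self,
        Finset.sum_congr rfl (g := fun t => ∑ y ∈ S t, y) fun t ht => by
          rw [Function.update_of_ne (Finset.ne_of_mem_erase ht)]]
      omega
  refine le_trans (le_of_eq ?_) (Finset.card_le_card (show
    (states c (w + 1)).attach.image (fun S => f S.1 S.2) ⊆ _ from ?_))
  · rw [Finset.card_image_of_injective _ ?_, Finset.card_attach]
    rintro ⟨S, hS⟩ ⟨T, hT⟩ h
    simp only [f, Prod.mk.injEq, Sigma.mk.injEq, heq_eq_eq] at h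
    obtain ⟨hR, hh, hU⟩ := h
    obtain ⟨hS1, hS2, -⟩ := key S hS
    obtain ⟨hT1, hT2, -⟩ := key T hT
    rw [hR] at hS1 hS2 hh hU
    set r := R T hT
    have hmeq : m S hS = m T hT := by omega
    refine Subtype.ext (funext fun t => ?_)
    by_cases ht : t = r
    · subst ht
      have e := congrFun hU r
      rw [Function.update_self, Function.update_self] at e
      have e' := congrArg (fun X : Finset ℕ => X.erase 0) e
      simp only [Finset.erase_insert (show (0 : ℕ) ∉ ((S r).erase (m S hS)).image (· + 1) by simp),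
        Finset.erase_insert (show (0 : ℕ) ∉ ((T r).erase (m T hT)).image (· + 1) by simp)] at e'
      have e'' := Finset.image_injective (add_left_injective 1) e'
      show S r = T r
      rw [← Finset.insert_erase (show m S hS ∈ S r by rw [← hR]; exact hm S hS), e'', hmeq,
        Finset.insert_erase (hm T hT)]
    · have e := congrFun hU t
      rwa [Function.update_of_ne ht, Function.update_of_ne ht] at e
  · intro z hz
    obtain ⟨⟨S, hS⟩, -, rfl⟩ := Finset.mem_image.mp hz
    obtain ⟨h1, h2, h3⟩ := key S hS
    simp only [f, Finset.mem_product, Finset.mem_univ, true_and, Finset.mem_sigma, Finset.mem_range]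
    exact ⟨by omega, h3⟩

theorem card_states_zero_le (c : Fin k → ℕ) : (states c 0).card ≤ 1 := by
  refine Finset.card_le_one.mpr fun S hS T hT => funext fun r => ?_
  have hr : ∀ U ∈ states c 0, U r = Finset.range (c r) := fun U hU => by
    obtain ⟨hc, hsum⟩ := mem_states.mp hU
    have h1 := Finset.add_sum_erase Finset.univ (fun t => ∑ x ∈ U t, x) (Finset.mem_univ r)
    have h2 := Finset.add_sum_erase Finset.univ (fun t => (c t).choose 2) (Finset.mem_univ r)
    have hs : ∑ t ∈ Finset.univ.erase r, (c t).choose 2 ≤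
        ∑ t ∈ Finset.univ.erase r, ∑ x ∈ U t, x :=
      Finset.sum_le_sum fun t _ => hc t ▸ choose_card_le_sum _
    rw [← hc r]
    exact eq_range_of_sum_le (by rw [hc r]; omega)
  rw [hr S hS, hr T hT]

theorem sum_card_states_le (c : Fin k → ℕ) :
    ∀ w, ∑ j ∈ Finset.range (w + 1), (states c j).card ≤ (k + 1) ^ w := by
  intro w
  induction w with
  | zero => simpa using card_states_zero_le c
  | succ w ih =>
    rw [Finset.sum_range_succ, pow_succ]
    have := card_states_succ_le c w
    have := Nat.mul_le_mul_left k ih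
    rw [Nat.mul_add, mul_one, mul_comm ((k + 1) ^ w)]
    omega

/-- **The count.** -/
theorem card_states_lt (c : Fin k → ℕ) {w : ℕ} (hw : 0 < w) :
    (states c w).card < (k + 1) ^ w := by
  obtain ⟨v, rfl⟩ : ∃ v, w = v + 1 := ⟨w - 1, by omega⟩
  have := card_states_succ_le c v
  have := Nat.mul_le_mul_left k (sum_card_states_le c v)
  have := Nat.one_le_pow v (k + 1) (by omega)
  rw [pow_succ, Nat.mul_add, mul_one, mul_comm ((k + 1) ^ v)]
  omega

theorem card_states_succ_le_mul (c : Fin k → ℕ) (w : ℕ) :
    (states c (w + 1)).card ≤ k * (k + 1) ^ w :=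
  (card_states_succ_le c w).trans (Nat.mul_le_mul_left k (sum_card_states_le c w))

theorem card_states_le_pow (c : Fin k → ℕ) : ∀ w, (states c w).card ≤ (k + 1) ^ w := by
  intro w
  refine le_trans ?_ (sum_card_states_le c w)
  exact Finset.single_le_sum (f := fun j => (states c j).card) (fun j _ => Nat.zero_le _)
    (Finset.self_mem_range_succ w)

theorem states_unique_one (c : Fin 1 → ℕ) : (states c 1).card ≤ 1 := by
  have := card_states_succ_le_mul c 0
  simpa using this

/-- On one runner there are at most three states of excess three. -/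
theorem card_states_three_le (c : Fin 1 → ℕ) : (states c 3).card ≤ 3 := by
  classical
  have hmem : ∀ S ∈ states c 3, (S 0).card = c 0 ∧ ∑ x ∈ S 0, x = (c 0).choose 2 + 3 := fun S hS => by
    obtain ⟨h1, h2⟩ := mem_states.mp hS
    simp only [Fin.sum_univ_one] at h2
    exact ⟨h1 0, h2⟩
  have hne : ∀ S ∈ states c 3, (S 0).Nonempty := fun S hS => by
    obtain ⟨h1, h2⟩ := hmem S hS
    rw [Finset.nonempty_iff_ne_empty]
    intro e
    rw [e] at h1 h2
    rw [← h1] at h2
    simp at h2
  let f : (S : Fin 1 → Finset ℕ) → S ∈ states c 3 → ℕ := fun S hS => (S 0).max' (hne S hS)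
  have hf : ∀ S (hS : S ∈ states c 3), c 0 ≤ f S hS ∧ f S hS < c 0 + 3 := by
    intro S hS
    obtain ⟨h1, h2⟩ := hmem S hS
    refine ⟨?_, h1 ▸ lt_of_mem_of_sum_le (Finset.max'_mem _ _) (by rw [h1]; omega)⟩
    by_contra hlt
    have hsub : S 0 ⊆ Finset.range (c 0) := fun y hy =>
      Finset.mem_range.mpr (lt_of_le_of_lt (Finset.le_max' _ y hy) (not_le.mp hlt))
    rw [Finset.eq_of_subset_of_card_le hsub (by rw [Finset.card_range, h1]), Finset.sum_range_id,
      ← Nat.choose_two_right] at h2
    omega
  have hinj : ∀ S (hS : S ∈ states c 3) T (hT : T ∈ states c 3), f S hS = f T hT → S = T := by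
    intro S hS T hT he
    obtain ⟨hS1, hS2⟩ := hmem S hS
    obtain ⟨hT1, hT2⟩ := hmem T hT
    obtain ⟨hlo, hhi⟩ := hf S hS
    have hcS := Finset.card_pos.mpr (hne S hS)
    obtain ⟨e, hce⟩ : ∃ e, c 0 = e + 1 := ⟨c 0 - 1, by omega⟩
    have hch : (e + 1).choose 2 = e + e.choose 2 := by
      rw [Nat.choose_succ_succ, Nat.choose_one_right]
    funext r
    rw [Subsingleton.elim r 0]
    set m := f S hS with hm
    have hmS : m ∈ S 0 := Finset.max'_mem _ _
    have hmT : m ∈ T 0 := he ▸ Finset.max'_mem _ _
    have eS := Finset.add_sum_erase (S 0) (fun y => y) hmS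
    have eT := Finset.add_sum_erase (T 0) (fun y => y) hmT
    by_cases hlow : m = c 0
    · -- all beads lie below `c + 1`, so one place is free
      have hsub : ∀ U : Finset ℕ, U.card = c 0 → (∀ y ∈ U, y ≤ m) →
          ∃ z, Finset.range (c 0 + 1) \ U = {z} ∧ z + ∑ y ∈ U, y = (c 0 + 1).choose 2 ∧
            U = (Finset.range (c 0 + 1)).erase z := by
        intro U hU hle
        have hUs : U ⊆ Finset.range (c 0 + 1) := fun y hy =>
          Finset.mem_range.mpr (by have := hle y hy; omega)
        obtain ⟨z, hz⟩ := Finset.card_eq_one.mp (show (Finset.range (c 0 + 1) \ U).card = 1 by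
          rw [Finset.card_sdiff_of_subset hUs, Finset.card_range, hU]; omega)
        have h := Finset.sum_sdiff (f := fun y => y) hUs
        rw [hz, Finset.sum_singleton, Finset.sum_range_id, ← Nat.choose_two_right] at h
        refine ⟨z, hz, h, ?_⟩
        rw [← Finset.sdiff_singleton_eq_erase, ← hz, Finset.sdiff_sdiff_eq_self hUs]
      obtain ⟨y, -, hy, eyS⟩ := hsub (S 0) hS1 fun z hz => Finset.le_max' _ z hz
      obtain ⟨z, -, hz, ezT⟩ := hsub (T 0) hT1 fun u hu => he ▸ Finset.le_max' _ u hu
      rw [eyS, ezT, show y = z by omega]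
    · have hle : ∀ U : Finset ℕ, U.card = c 0 → m ∈ U → ∑ y ∈ U, y = (c 0).choose 2 + 3 →
          (fun _ : Fin 1 => U.erase m) ∈ states (fun _ : Fin 1 => e) (e + 3 - m) := by
        intro U hU hmU hsum
        have eU := Finset.add_sum_erase U (fun y => y) hmU
        have hlow' := choose_card_le_sum (U.erase m)
        rw [Finset.card_erase_of_mem hmU, hU, hce, Nat.add_sub_cancel] at hlow'
        refine mem_states.mpr ⟨fun _ => by rw [Finset.card_erase_of_mem hmU, hU]; omega, ?_⟩
        simp only [Fin.sum_univ_one]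
        rw [hce, hch] at hsum
        omega
      have h1 : (states (fun _ : Fin 1 => e) (e + 3 - m)).card ≤ 1 := by
        rcases Nat.eq_zero_or_pos (e + 3 - m) with h | h
        · rw [h]; exact card_states_zero_le _
        · rw [show e + 3 - m = 1 by omega]; exact states_unique_one _
      have e' := congrFun (Finset.card_le_one.mp h1 _ (hle _ hS1 hmS hS2) _ (hle _ hT1 hmT hT2)) 0
      rw [← Finset.insert_erase hmS, e', Finset.insert_erase hmT]
  calc (states c 3).card = ((states c 3).attach.image fun S => f S.1 S.2).card := by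
        rw [Finset.card_image_of_injective _ fun S T h => Subtype.ext (hinj _ S.2 _ T.2 h),
          Finset.card_attach]
    _ ≤ (Finset.Ico (c 0) (c 0 + 3)).card := Finset.card_le_card fun m hm => by
        obtain ⟨S, -, rfl⟩ := Finset.mem_image.mp hm
        exact Finset.mem_Ico.mpr (hf S.1 S.2)
    _ = 3 := by simp

theorem card_states_one_lt (c : Fin 1 → ℕ) {w : ℕ} (hw : 3 ≤ w) :
    (states c w).card < 2 ^ (w - 1) := by
  have hG : ∀ v, (∑ j ∈ Finset.range (v + 4), (states c j).card) ≤ 7 * 2 ^ v := by
    intro v
    induction v with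
    | zero =>
      have h0 := card_states_zero_le c
      have h1 := states_unique_one c
      have h2 := card_states_succ_le_mul c 1
      have h3 := card_states_three_le c
      simp only [Finset.sum_range_succ, Finset.sum_range_zero] at *
      norm_num at h2
      omega
    | succ v ih =>
      rw [show v + 1 + 4 = (v + 4) + 1 by omega, Finset.sum_range_succ, pow_succ]
      have := card_states_succ_le c (v + 3)
      rw [one_mul] at this
      rw [show v + 4 = v + 3 + 1 by omega] at *
      omega
  obtain ⟨v, rfl⟩ : ∃ v, w = v + 3 := ⟨w - 3, by omega⟩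
  rcases v with _ | v
  · have := card_states_three_le c
    norm_num
    omega
  · have := card_states_succ_le c (v + 3)
    rw [one_mul] at this
    have := hG v
    have e : 2 ^ (v + 1 + 3 - 1) = 8 * 2 ^ v := by
      rw [show v + 1 + 3 - 1 = v + 3 by omega, pow_add]; ring
    have := Nat.one_le_pow v 2 (by omega)
    rw [e]
    rw [show v + 4 = v + 3 + 1 by omega] at *
    change (states c (v + 3 + 1)).card < _
    omega

end CfsgLib.SymBlocks
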