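import Cfsg.Agent.SymBlocks.Blocks
import Cfsg.Agent.SymBlocks.Count
import Cfsg.Prelude.Def_BlockRank

/-!
The `p`-regular rank of the characters with a given core.
-/

set_option autoImplicit false
set_option linter.unusedSectionVars false

namespace CfsgLib.SymBlocks

open Finset Equiv Equiv.Perm
open Cfsg (IrrCharacter classInner pRegularPart)

variable {n N p : ℕ}

/-- The regular part of the character of a vector. -/
noncomputable def regChi (n p : ℕ) (a : Fin N → ℕ) : Perm (Fin n) → ℂ :=
  pRegularPart p (chi (n := n) a)

theorem regChi_comp (a : Fin N → ℕ) (π : Perm (Fin N)) :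
    regChi n p (a ∘ π) = ((Perm.sign π : ℤ) : ℂ) • regChi n p a := by
  funext σ
  simp only [regChi, pRegularPart, Pi.smul_apply, smul_eq_mul, chi, frob_comp, Int.cast_mul]
  split_ifs <;> simp

theorem regChi_eq_zero {a : Fin N → ℕ} (h : ¬ Function.Injective a) : regChi n p a = 0 := by
  funext σ
  simp [regChi, pRegularPart, chi_eq_zero h]

/-- The relation on regular elements. -/
theorem sum_regChi_raise (hp : p.Prime) (hN : n ≤ N) {b : Fin N → ℕ} {m : ℕ} (hm : 1 ≤ m)
    (hpm : p ∣ m) (hb : ∑ i, b i + m = n + N.choose 2) : ∑ i, regChi n p (raise b i m) = 0 := by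
  funext σ
  simp only [Finset.sum_apply, regChi, pRegularPart, Pi.zero_apply]
  by_cases hσ : Cfsg.IsPRegular p σ
  · simp only [if_pos hσ, chi]
    rw [← Int.cast_sum, sum_frob_raise_eq_zero m hm σ.partition.parts
      (not_mem_parts_of_regular hp hσ hpm) (by rw [sum_parts]; exact hN) b (by rw [sum_parts]; exact hb),
      Int.cast_zero]
  · simp [hσ]

section Runner

variable (a : Fin N → ℕ)

/-- The positions on the first runner. -/
abbrev Runner (p : ℕ) (a : Fin N → ℕ) : Type := {i : Fin N // a i % p = 0}

/-- Replacing the entries on the first runner. -/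
def merge (p : ℕ) (a : Fin N → ℕ) (x : Runner p a → ℕ) : Fin N → ℕ :=
  fun i => if h : a i % p = 0 then p * x ⟨i, h⟩ else a i

theorem merge_div : merge p a (fun i => a i / p) = a := by
  funext i
  simp only [merge]
  split_ifs with h
  · exact Nat.mul_div_cancel' (Nat.dvd_of_mod_eq_zero h)
  · rfl

theorem merge_raise (x : Runner p a → ℕ) (i : Runner p a) (m : ℕ) :
    merge p a (raise x i m) = raise (merge p a x) i.1 (p * m) := by
  funext k
  by_cases hk : k = i.1
  · subst hk
    rw [raise_self]
    simp only [merge, dif_pos i.2]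
    rw [raise_self, Nat.mul_add]
  · rw [raise_ne _ hk]
    simp only [merge]
    split_ifs with h
    · rw [raise_ne _ (fun e => hk (congrArg Subtype.val e))]
    · rfl

theorem merge_lower (x : Runner p a → ℕ) (i : Runner p a) (m : ℕ) :
    merge p a (lower x i m) = lower (merge p a x) i.1 (p * m) := by
  funext k
  by_cases hk : k = i.1
  · subst hk
    rw [lower_self]
    simp only [merge, dif_pos i.2]
    rw [lower_self, Nat.mul_sub]
  · rw [lower_ne _ hk]
    simp only [merge]
    split_ifs with h
    · rw [lower_ne _ (fun e => hk (congrArg Subtype.val e))]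
    · rfl

theorem alternating_merge :
    Alternating fun x : Runner p a → ℕ => regChi n p (merge p a x) where
  swap x i j hij := by
    have e : merge p a (x ∘ Equiv.swap i j) = merge p a x ∘ Equiv.swap i.1 j.1 := by
      funext k
      simp only [Function.comp_apply]
      have hij' : i.1 ≠ j.1 := fun e => hij (Subtype.ext e)
      by_cases h1 : k = i.1
      · subst h1
        rw [Equiv.swap_apply_left]
        simp [merge, i.2, j.2]
      by_cases h2 : k = j.1
      · subst h2
        rw [Equiv.swap_apply_right]
        simp [merge, i.2, j.2]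
      rw [Equiv.swap_apply_of_ne_of_ne h1 h2]
      simp only [merge]
      split_ifs with h
      · simp only [Function.comp_apply]
        rw [Equiv.swap_apply_of_ne_of_ne (fun e => h1 (congrArg Subtype.val e))
          (fun e => h2 (congrArg Subtype.val e))]
      · rfl
    show regChi n p (merge p a (x ∘ Equiv.swap i j)) = -regChi n p (merge p a x)
    rw [e, regChi_comp, Equiv.Perm.sign_swap (fun e => hij (Subtype.ext e))]
    simp
  repeated x i j hij he := regChi_eq_zero fun hinj => hij (Subtype.ext (hinj (by
    simp [merge, i.2, j.2, he])))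

end Runner

/-- The sum on the first runner. -/
def runnerSum (p : ℕ) (a : Fin N → ℕ) : ℕ := ∑ i, if a i % p = 0 then a i / p else 0

theorem runnerSum_eq (a : Fin N → ℕ) : runnerSum p a = ∑ i : Runner p a, a i / p := by
  rw [runnerSum, ← Finset.sum_filter]
  exact Finset.sum_subtype _ (fun x => by simp) _

theorem choose_le_runnerSum (hp : 0 < p) {a : Fin N → ℕ} (hinj : Function.Injective a) :
    ((resid p a).count 0).choose 2 ≤ runnerSum p a := by
  have hio : Set.InjOn (fun i => a i / p)
      (univ.filter fun i => a i % p = 0 : Finset (Fin N)) := by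
    intro i hi j hj h
    simp only [Finset.coe_filter, Set.mem_ofPred_eq, Finset.mem_univ, true_and] at hi hj
    exact hinj (eq_of_mod_div (hi.trans hj.symm) h)
  have := choose_card_le_sum ((univ.filter fun i => a i % p = 0).image fun i => a i / p)
  rwa [Finset.sum_image hio, Finset.card_image_of_injOn hio, card_class, Finset.sum_filter] at this

/-- The vectors with the first runner pushed down. -/
noncomputable def minTuples (n N p : ℕ) (c : Multiset ℕ) : Finset (Fin N → ℕ) :=
  open Classical in
  (resTuples n N p c).filter fun a =>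
    Function.Injective a ∧ runnerSum p a = (c.count 0).choose 2

theorem regChi_mem_span (hp : p.Prime) (hN : n ≤ N) (c : Multiset ℕ) {a : Fin N → ℕ}
    (ha : a ∈ resTuples n N p c) :
    regChi n p a ∈ Submodule.span ℂ (regChi n p '' (minTuples n N p c : Set (Fin N → ℕ))) := by
  classical
  induction h : runnerSum p a using Nat.strong_induction_on generalizing a with
  | _ e ih =>
  obtain ⟨hs, hr⟩ := Finset.mem_filter.mp ha
  rw [mem_tuples] at hs
  set W := Submodule.span ℂ (regChi n p '' (minTuples n N p c : Set (Fin N → ℕ)))
  by_cases hinj : Function.Injective a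
  swap
  · rw [regChi_eq_zero hinj]; exact W.zero_mem
  have hlow := choose_le_runnerSum hp.pos hinj
  rw [hr] at hlow
  rcases hlow.eq_or_lt with he | he
  · exact Submodule.subset_span ⟨a, Finset.mem_coe.mpr
      (Finset.mem_filter.mpr ⟨ha, hinj, he.symm⟩), rfl⟩
  have key := collect (alternating_merge (n := n) (p := p) a) (fun i : Runner p a => a i / p)
  rw [merge_div, ← runnerSum_eq, Fintype.card_subtype, card_class, hr, ← sub_smul] at key
  have hmem : ((runnerSum p a : ℤ) - ((c.count 0).choose 2 : ℤ)) • regChi n p a ∈ W := by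
    rw [← key]
    refine W.sum_mem fun i _ => W.sum_mem fun m hm => ?_
    rw [Finset.mem_range] at hm
    simp only [merge_raise, merge_lower, merge_div]
    have hle : p * (m + 1) ≤ a i.1 := (Nat.mul_le_mul_left p hm).trans (Nat.mul_div_le _ p)
    set b := lower a i.1 (p * (m + 1)) with hb
    have hbs : ∑ k, b k + p * (m + 1) = n + N.choose 2 := by
      have := sum_lower a hle
      rw [hb]
      omega
    have h0 := sum_regChi_raise (n := n) hp hN (b := b) (m := p * (m + 1))
      (Nat.mul_pos hp.pos m.succ_pos) (dvd_mul_right p _) hbs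
    rw [← Finset.sum_filter_add_sum_filter_not univ (fun k => a k % p = 0),
      Finset.sum_subtype (univ.filter fun k => a k % p = 0) (p := fun k => a k % p = 0)
        (fun x => by simp)] at h0
    rw [eq_neg_of_add_eq_zero_left h0]
    refine W.neg_mem (W.sum_mem fun k hk => ?_)
    have hk' : a k % p ≠ 0 := (Finset.mem_filter.mp hk).2
    have hki : k ≠ i.1 := fun e => hk' (e ▸ i.2)
    have hres : resid p (raise b k (p * (m + 1))) = c := by
      rw [resid_raise _ (dvd_mul_right p _), ← hr]
      have e := resid_raise b (i := i.1) (dvd_mul_right p (m + 1))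
      rw [hb, raise_lower_self a hle] at e
      rw [hb, e]
    refine ih (runnerSum p (raise b k (p * (m + 1)))) ?_ (Finset.mem_filter.mpr
      ⟨mem_tuples.mpr (by rw [sum_raise]; exact hbs), hres⟩) rfl
    rw [← h]
    refine Finset.sum_lt_sum (fun l _ => ?_) ⟨i.1, Finset.mem_univ _, ?_⟩
    · by_cases hlk : l = k
      · subst hlk
        rw [raise_self, hb, lower_ne _ hki, Nat.add_mul_mod_self_left, if_neg hk', if_neg hk']
      · rw [raise_ne _ hlk, hb]
        by_cases hli : l = i.1
        · subst hli
          rw [lower_self, Nat.sub_mul_mod hle, if_pos i.2, if_pos i.2]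
          exact Nat.div_le_div_right (Nat.sub_le _ _)
        · rw [lower_ne _ hli]
    · rw [raise_ne _ (Ne.symm hki), hb, lower_self, Nat.sub_mul_mod hle, if_pos i.2, if_pos i.2]
      rw [Nat.sub_mul_div, Nat.sub_lt_iff_lt_add (by omega)]
      omega
  rw [← Int.cast_smul_eq_zsmul ℂ] at hmem
  have hz : (((runnerSum p a : ℤ) - ((c.count 0).choose 2 : ℤ) : ℤ) : ℂ) ≠ 0 :=
    Int.cast_ne_zero.mpr (by omega)
  rw [← inv_smul_smul₀ hz (regChi n p a)]
  exact W.smul_mem _ hmem

/-- The state of a vector. -/
noncomputable def state (p : ℕ) (a : Fin N → ℕ) : Fin (p - 1) → Finset ℕ :=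
  fun r => (univ.filter fun i => a i % p = (r : ℕ) + 1).image fun i => a i / p

theorem state_mem (hp : p.Prime) {a : Fin N → ℕ} (hinj : Function.Injective a)
    (h0 : runnerSum p a = ((resid p a).count 0).choose 2) :
    state p a ∈ states (fun r : Fin (p - 1) => (resid p a).count ((r : ℕ) + 1)) (weight p a) := by
  have hio : ∀ r, Set.InjOn (fun i => a i / p)
      (univ.filter fun i => a i % p = r : Finset (Fin N)) := by
    intro r i hi j hj h
    simp only [Finset.coe_filter, Set.mem_ofPred_eq, Finset.mem_univ, true_and] at hi hj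
    exact hinj (eq_of_mod_div (hi.trans hj.symm) h)
  refine mem_states.mpr ⟨fun r => ?_, ?_⟩
  · rw [state, Finset.card_image_of_injOn (hio _), card_class]
  have hq : p = (p - 1) + 1 := by have := hp.pos; omega
  have hdiv : ∑ i, a i / p = ∑ i, rank p a i + weight p a := by
    rw [weight, ← Finset.sum_add_distrib]
    exact Finset.sum_congr rfl fun i _ => by have := rank_le_div hp.pos hinj i; omega
  have hsplit : ∑ i, a i / p =
      ∑ r : Fin (p - 1), ∑ x ∈ state p a r, x + runnerSum p a := by
    rw [← Finset.sum_fiberwise_of_maps_to (g := fun i => a i % p) (t := Finset.range p)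
      fun i _ => Finset.mem_range.mpr (Nat.mod_lt _ hp.pos), runnerSum, ← Finset.sum_filter]
    rw [show Finset.range p = Finset.range ((p - 1) + 1) by rw [← hq], Finset.sum_range_succ']
    simp only [state]
    rw [Fin.sum_univ_eq_sum_range
      (fun r => ∑ x ∈ (univ.filter fun i => a i % p = r + 1).image (fun i => a i / p), x)]
    refine congrArg₂ (· + ·) (Finset.sum_congr rfl fun r _ => ?_) rfl
    rw [Finset.sum_image (hio _)]
  have hrank : ∑ i, rank p a i =
      ∑ r : Fin (p - 1), ((resid p a).count ((r : ℕ) + 1)).choose 2 +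
        ((resid p a).count 0).choose 2 := by
    rw [sum_rank hp.pos hinj]
    rw [show Finset.range p = Finset.range ((p - 1) + 1) by rw [← hq], Finset.sum_range_succ',
      Fin.sum_univ_eq_sum_range (fun r => ((resid p a).count (r + 1)).choose 2)]
  omega

theorem exists_perm_of_image_subset {a b : Fin N → ℕ} (hb : Function.Injective b)
    (h : ∀ i, ∃ j, a j = b i) : ∃ π : Perm (Fin N), b = a ∘ π := by
  choose j hj using h
  have hjinj : Function.Injective j := fun x y e => hb (by rw [← hj, ← hj, e])
  exact ⟨Equiv.ofBijective j hjinj.bijective_of_finite, funext fun i => (hj i).symm⟩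

theorem finrank_regChi_le (hp : p.Prime) (hN : n ≤ N) {c : Multiset ℕ} {a0 : Fin N → ℕ}
    (ha0 : a0 ∈ resTuples n N p c) (hinj0 : Function.Injective a0) :
    Module.finrank ℂ ↥(Submodule.span ℂ (regChi n p '' (resTuples n N p c : Set (Fin N → ℕ)))) ≤
      (states (fun r : Fin (p - 1) => c.count ((r : ℕ) + 1)) (weight p a0)).card := by
  classical
  set T := states (fun r : Fin (p - 1) => c.count ((r : ℕ) + 1)) (weight p a0) with hT
  have hstate : ∀ a ∈ minTuples n N p c, state p a ∈ T := by
    intro a ha
    obtain ⟨ha, hinj, h0⟩ := Finset.mem_filter.mp ha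
    obtain ⟨hs, hr⟩ := Finset.mem_filter.mp ha
    obtain ⟨hs0, hr0⟩ := Finset.mem_filter.mp ha0
    have h1 := state_mem hp hinj (by rw [hr]; exact h0)
    rw [hr, weight_congr hp.pos hinj hinj0 (hr.trans hr0.symm)
      ((mem_tuples.mp hs).trans (mem_tuples.mp hs0).symm)] at h1
    exact h1
  have hsame : ∀ a ∈ minTuples n N p c, ∀ b ∈ minTuples n N p c, state p a = state p b →
      ∃ π : Perm (Fin N), b = a ∘ π := by
    intro a ha b hb hst
    obtain ⟨ha, hinja, h0a⟩ := Finset.mem_filter.mp ha
    obtain ⟨hb, hinjb, h0b⟩ := Finset.mem_filter.mp hb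
    have hra := (Finset.mem_filter.mp ha).2
    have hrb := (Finset.mem_filter.mp hb).2
    have hzero : ∀ (x : Fin N → ℕ), Function.Injective x → resid p x = c →
        runnerSum p x = (c.count 0).choose 2 →
        ((univ.filter fun i => x i % p = 0).image fun i => x i / p) = Finset.range (c.count 0) := by
      intro x hx hxr hx0
      have hio : Set.InjOn (fun i => x i / p)
          (univ.filter fun i => x i % p = 0 : Finset (Fin N)) := by
        intro i hi j hj h
        simp only [Finset.coe_filter, Set.mem_ofPred_eq, Finset.mem_univ, true_and] at hi hj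
        exact hx (eq_of_mod_div (hi.trans hj.symm) h)
      have hcard : ((univ.filter fun i => x i % p = 0).image fun i => x i / p).card = c.count 0 := by
        rw [Finset.card_image_of_injOn hio, card_class, hxr]
      rw [← hcard]
      refine eq_range_of_sum_le ?_
      rw [Finset.sum_image hio, hcard, ← hx0, runnerSum, Finset.sum_filter]
    refine exists_perm_of_image_subset hinjb fun i => ?_
    have himg : (univ.filter fun j => b j % p = b i % p).image (fun j => b j / p) =
        (univ.filter fun j => a j % p = b i % p).image (fun j => a j / p) := by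
      rcases Nat.eq_zero_or_pos (b i % p) with h | h
      · rw [h, hzero b hinjb hrb h0b, hzero a hinja hra h0a]
      · have hlt := Nat.mod_lt (b i) hp.pos
        have e := congrFun hst ⟨b i % p - 1, by omega⟩
        simp only [state] at e
        rw [show b i % p - 1 + 1 = b i % p by omega] at e
        exact e.symm
    have hmem : b i / p ∈ (univ.filter fun j => b j % p = b i % p).image (fun j => b j / p) :=
      Finset.mem_image.mpr ⟨i, by simp, rfl⟩
    rw [himg] at hmem
    obtain ⟨j, hj, e⟩ := Finset.mem_image.mp hmem
    exact ⟨j, eq_of_mod_div (Finset.mem_filter.mp hj).2 e⟩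
  let rep : (Fin (p - 1) → Finset ℕ) → Fin N → ℕ := fun S =>
    if h : ∃ a ∈ minTuples n N p c, state p a = S then h.choose else a0
  calc Module.finrank ℂ ↥(Submodule.span ℂ (regChi n p '' (resTuples n N p c : Set (Fin N → ℕ))))
      ≤ Module.finrank ℂ ↥(Submodule.span ℂ
          ((T.image fun S => regChi n p (rep S) : Finset _) : Set (Perm (Fin n) → ℂ))) := by
        refine Submodule.finrank_mono (Submodule.span_le.mpr ?_)
        rintro _ ⟨a, ha, rfl⟩
        refine Submodule.span_le.mpr ?_ (regChi_mem_span hp hN c ha)
        rintro _ ⟨b, hb, rfl⟩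
        have hb' : b ∈ minTuples n N p c := hb
        have hex : ∃ x ∈ minTuples n N p c, state p x = state p b := ⟨b, hb', rfl⟩
        obtain ⟨π, hπ⟩ := hsame _ hex.choose_spec.1 b hb' hex.choose_spec.2
        rw [hπ, regChi_comp]
        refine Submodule.smul_mem _ _ (Submodule.subset_span ?_)
        refine Finset.mem_coe.mpr (Finset.mem_image.mpr ⟨state p b, hstate b hb', ?_⟩)
        simp only [rep, dif_pos hex]
    _ ≤ (T.image fun S => regChi n p (rep S)).card := finrank_span_finset_le_card _
    _ ≤ T.card := Finset.card_image_le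

end CfsgLib.SymBlocks
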