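import Cfsg.Agent.SymBlocks.AltRank

/-!
The regular rank of a block of an alternating group is less than `p` to the sectional rank of its
defect group.
-/

set_option autoImplicit false
set_option linter.unusedSectionVars false
set_option linter.style.haveILetI false

namespace CfsgLib.SymBlocks

open Finset Equiv Equiv.Perm
open Cfsg (IrrCharacter classInner blockRank)

variable {n N p : ℕ}

theorem odd_estimate {p k v T F E : ℕ} (hk : 1 ≤ k) (hpk : p = 2 * k + 1) (hT : T ≤ 2 * k * p ^ v)
    (hF : F ≤ (k + 1) ^ ((v + 1) / 2))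
    (hE : E ≤ ((v + 1) / 2 + 1) * (k + 1) ^ ((v + 1) / 2)) :
    T + F + 2 * E < 2 * p ^ (v + 1) := by
  set i := (v + 1) / 2 with hi
  set K := k + 1 with hK
  have key : (2 * i + 3) * K ^ i < 2 * K * p ^ v := by
    rcases Nat.eq_zero_or_pos i with h | h
    · rw [h, pow_zero]
      have := Nat.one_le_pow v p (by omega)
      have := Nat.le_mul_of_pos_right (2 * K) this
      omega
    · obtain ⟨e, he⟩ : ∃ e, i = e + 1 := ⟨i - 1, by omega⟩
      have h1 : K ^ i ≤ K * p ^ e := by
        rw [he, pow_succ']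
        exact Nat.mul_le_mul_left K (Nat.pow_le_pow_left (by omega) e)
      have h2 : p ^ (i + e) ≤ p ^ v := Nat.pow_le_pow_right (by omega) (by omega)
      have h3 : 2 * i + 3 < 2 * p ^ i := by
        have hb : ∀ j, 2 * j + 1 ≤ p ^ j := by
          intro j
          induction j with
          | zero => simp
          | succ j ih =>
            rw [pow_succ]
            have := Nat.mul_le_mul ih (show 3 ≤ p by omega)
            omega
        have := hb i
        omega
      have hpos : 0 < K * p ^ e := Nat.mul_pos (by omega) (Nat.pow_pos (by omega))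
      calc (2 * i + 3) * K ^ i ≤ (2 * i + 3) * (K * p ^ e) := Nat.mul_le_mul_left _ h1
        _ < 2 * p ^ i * (K * p ^ e) := Nat.mul_lt_mul_of_pos_right h3 hpos
        _ = 2 * K * p ^ (i + e) := by rw [pow_add]; ring
        _ ≤ 2 * K * p ^ v := Nat.mul_le_mul_left _ h2
  have e1 : 2 * p ^ (v + 1) = 2 * k * p ^ v + 2 * K * p ^ v := by
    rw [hK, hpk, pow_succ]; ring
  have e2 : (2 * i + 3) * K ^ i = K ^ i + 2 * ((i + 1) * K ^ i) := by ring
  omega

/-- **Blocks of alternating groups.** -/
theorem blockRank_alt_lt [Fact p.Prime] {M : Ideal Cfsg.AlgInt} [M.IsPrime]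
    (hM : Cfsg.IsPModular p M) {B : Set (IrrCharacter (alternatingGroup (Fin n)))}
    (hB : Cfsg.IsPBlock M B) {D : Subgroup (alternatingGroup (Fin n))}
    (hD : Cfsg.IsDefectGroup p M B D) (hD1 : D ≠ ⊥) {s : ℕ} (hs : Cfsg.SectionalPRankLE p s D) :
    blockRank p B < p ^ s := by
  classical
  have hp : p.Prime := Fact.out
  have hn : 2 ≤ n := by
    by_contra hlt
    haveI : Subsingleton (Fin n) := Fin.subsingleton_iff_le_one.mpr (by omega)
    haveI : Subsingleton (alternatingGroup (Fin n)) := inferInstance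
    exact hD1 (Subgroup.eq_bot_iff_forall _ |>.mpr fun x _ => Subsingleton.elim x 1)
  have hs1 : 1 ≤ s := one_le_rank hD hD1 hs
  obtain ⟨θ, hθ⟩ := Blocks.isPBlock_nonempty hB
  obtain ⟨χ0, hχ0, hcov⟩ :=
    CharactersDeep.Clifford.exists_over (alternatingGroup (Fin n)) (G := Perm (Fin n)) θ.2
  set χ : IrrCharacter (Perm (Fin n)) := ⟨χ0, hχ0⟩
  change classInner (res (χ : Perm (Fin n) → ℂ)) (θ : alternatingGroup (Fin n) → ℂ) ≠ 0 at hcov
  -- the number of variables
  obtain ⟨N, hN, hNspec⟩ : ∃ N, n ≤ N ∧ (p ≠ 2 → ∃ k q, 1 ≤ k ∧ p = 2 * k + 1 ∧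
      2 * N = p * (2 * q + 1) + 1) := by
    by_cases h2 : p = 2
    · exact ⟨n, le_rfl, fun h => absurd h2 h⟩
    obtain ⟨k, hk⟩ := hp.odd_of_ne_two h2
    have := hp.two_le
    refine ⟨k + 1 + p * n, ?_, fun _ => ⟨k, n, by omega, hk, ?_⟩⟩
    · have := Nat.le_mul_of_pos_left n hp.pos
      omega
    · rw [hk]; ring
  obtain ⟨a, ha, hinj, ε, hε, he⟩ := exists_chi hN χ
  set c := resid p a with hc
  have hχ : χ ∈ blockSet n N p c := ⟨a, Finset.mem_filter.mpr ⟨mem_tuples.mpr ha, rfl⟩, by
    rw [he, Characters.classInner_smul_left, Characters.classInner_irr, if_pos rfl, mul_one]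
    rcases hε with rfl | rfl <;> norm_num⟩
  have hw0 : weight p a ≠ 0 := fun h =>
    hD1 (eq_bot_of_weight_zero hM hN hn hB hD hθ hcov ha hinj hε he h)
  obtain ⟨v, hv⟩ : ∃ v, weight p a = v + 1 := ⟨weight p a - 1, by omega⟩
  have hemb : ∀ {x : Perm (Fin n)}, x.cycleType = Multiset.replicate (weight p a) p →
      ∀ {R : Subgroup (Perm (Fin n))}, IsElem p R →
      (∀ g ∈ Subgroup.centralizer (cycleGroup x : Set (Perm (Fin n))),
        ¬ p ∣ orderOf g → ∀ r ∈ R, r * g = g * r) → Nat.card R ≤ p ^ s := by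
    intro x hx R hR hcomm
    obtain ⟨f, hf⟩ := exists_embedding hM hB hD hθ hcov ha hinj he hx hR.1
      (fun r => ⟨1, by rw [pow_one]; exact Subtype.ext (hR.2.2 r r.2)⟩) hcomm
    exact card_le_pow hs f hf (fun u u' => Subtype.ext (hR.2.1 u u.2 u' u'.2))
      fun u => Subtype.ext (hR.2.2 u u.2)
  have hbottom : ∀ S ∈ bottomSet n N p c,
      Shape p N c (weight p a) S ∧ runner p 0 S = Finset.range (c.count 0) := fun S hS =>
    shape_bottomSet hp.pos hN ha hinj hS
  have hself : ∀ S ∈ selfConjSet n N p c, Shape p N c (weight p a) S ∧ refl (2 * N) S = S :=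
    fun S hS => shape_selfConjSet hp.pos hN ha hinj hS
  have hK : (bottomSet n N p c).card ≤ (p - 1) * p ^ v := by
    refine (card_bottom_le c hp.pos _ hbottom).trans ?_
    rw [hv]
    refine (card_states_succ_le_mul _ v).trans ?_
    rw [Nat.sub_add_cancel hp.one_lt.le]
  have hrank_id : blockRank p B ≤ (bottomSet n N p c).card + (selfConjSet n N p c).card := by
    have := blockRank_alt_le hM hN hn hB hθ hcov hχ id fun S _ T _ h => Or.inl (h.symm)
    rwa [Finset.image_id] at this
  by_cases h2 : p = 2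
  · subst h2
    have hN0 : 0 < N := by omega
    obtain ⟨hE, hEodd⟩ := card_selfConj_two hN0 c _ hself
    rcases Nat.even_or_odd' (weight 2 a) with ⟨i, hi | hi⟩
    · -- even weight
      obtain ⟨j, rfl⟩ : ∃ j, i = j + 1 := ⟨i - 1, by omega⟩
      have hle : 2 * weight 2 a ≤ n := weight_mul_le (p := 2) two_pos hinj ha
      obtain ⟨x, R, hx, hR, hcard, hfix⟩ := exists_fours (n := n) (k := j + 1) (by omega)
      rw [← hi] at hx
      have hrk := hemb hx hR fun g hg hreg => hfix g (fix_of_commute hx hg hreg)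
      rw [hcard, Nat.pow_le_pow_iff_right one_lt_two] at hrk
      rw [hi, Nat.mul_div_cancel_left _ two_pos] at hE
      have hE' : (selfConjSet n N 2 c).card ≤ 2 ^ j := by
        refine (hE.trans (card_states_succ_le_mul _ j)).trans ?_
        simp
      have hK' : (bottomSet n N 2 c).card ≤ 2 ^ (2 * j + 1) := by
        refine hK.trans ?_
        rw [show v = 2 * j + 1 by omega]
        simp
      have h1 : 2 ^ j < 2 ^ (2 * j + 1) := Nat.pow_lt_pow_right one_lt_two (by omega)
      have h3 : 2 ^ (2 * (j + 1)) ≤ 2 ^ s := Nat.pow_le_pow_right two_pos hrk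
      rw [show 2 * (j + 1) = (2 * j + 1) + 1 by omega, pow_succ] at h3
      omega
    · -- odd weight
      rw [hEodd (by omega), Finset.card_empty, add_zero] at hrank_id
      rcases Nat.eq_zero_or_pos i with rfl | hi0
      · have hK1 : (bottomSet n N 2 c).card ≤ 1 := by
          refine hK.trans ?_
          rw [show v = 0 by omega]
          simp
        have := Nat.one_lt_pow (show s ≠ 0 by omega) (show 1 < 2 by omega)
        omega
      · have hlt : (bottomSet n N 2 c).card < 2 ^ (weight 2 a - 1) :=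
          lt_of_le_of_lt (card_bottom_le c two_pos _ hbottom) (card_states_one_lt _ (by omega))
        obtain ⟨x, hx⟩ := exists_cycleType (p := 2) ha hinj
        obtain ⟨hR, hcard⟩ := isElem_even hx
        have hrk := hemb hx hR fun g hg _ r hr => Subgroup.mem_centralizer_iff.mp hg r hr.1
        have h3 : 2 ^ weight 2 a = 2 ^ (weight 2 a - 1) * 2 := by
          rw [← pow_succ]; congr 1; omega
        omega
  · -- odd primes
    obtain ⟨k, q, hk, hpk, hNq⟩ := hNspec h2
    obtain ⟨x, hx⟩ := exists_cycleType (p := p) ha hinj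
    have hrk := hemb hx (isElem_cycleGroup h2 hx) fun g hg _ r hr =>
      Subgroup.mem_centralizer_iff.mp hg r hr
    rw [card_cycleGroup hx, Nat.pow_le_pow_iff_right hp.one_lt] at hrk
    have hps : p ^ (v + 1) ≤ p ^ s := Nat.pow_le_pow_right hp.pos (by omega)
    rcases (selfConjSet n N p c).eq_empty_or_nonempty with hempty | hne
    · rw [hempty, Finset.card_empty, add_zero] at hrank_id
      have : (p - 1) * p ^ v < p ^ (v + 1) := by
        rw [pow_succ']
        exact Nat.mul_lt_mul_of_pos_right (by omega) (Nat.pow_pos hp.pos)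
      omega
    · have hcl : ∀ S ∈ bottomSet n N p c, refl (2 * N) S ∈ bottomSet n N p c ∧
          refl (2 * N) (refl (2 * N) S) = S := fun S hS =>
        refl_mem_bottomSet hp.pos hN hNq ha hinj hne hS
      have horb := card_orbits_le (bottomSet n N p c) (refl (2 * N))
        (fun S hS => (hcl S hS).1) fun S hS => (hcl S hS).2
      have hrk2 := blockRank_alt_le hM hN hn hB hθ hcov hχ (fun S => s(S, refl (2 * N) S))
        fun S _ T _ h => by
          rcases Sym2.eq_iff.mp h with ⟨h1, -⟩ | ⟨-, h1⟩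
          · exact Or.inl h1.symm
          · exact Or.inr h1.symm
      obtain ⟨hE, hF, -⟩ := card_selfConj_odd hk hpk hNq c _ hself
      have hFsub : ((bottomSet n N p c).filter fun S => refl (2 * N) S = S) ⊆
          (selfConjSet n N p c).filter fun S => runner p 0 S = Finset.range (c.count 0) := by
        intro S hS
        obtain ⟨hS, hfix⟩ := Finset.mem_filter.mp hS
        refine Finset.mem_filter.mpr ⟨?_, (hbottom S hS).2⟩
        obtain ⟨b, hb, rfl⟩ := Finset.mem_image.mp hS
        obtain ⟨hb, hbinj, -⟩ := Finset.mem_filter.mp hb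
        exact Finset.mem_filter.mpr
          ⟨Finset.mem_image_of_mem _ (Finset.mem_filter.mpr ⟨hb, hbinj⟩), hfix⟩
      rw [hv] at hE hF
      have hK' : (bottomSet n N p c).card ≤ 2 * k * p ^ v := by
        refine hK.trans (le_of_eq ?_)
        rw [show p - 1 = 2 * k by omega]
      have hest := odd_estimate hk hpk hK' ((Finset.card_le_card hFsub).trans hF) hE
      omega

end CfsgLib.SymBlocks
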