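import Cfsg.Agent.SymBlocks.AltSubgroups
import Cfsg.Agent.BlocksLocal.Covering
import Cfsg.Agent.S0908

/-!
Defect groups of blocks of alternating groups.
-/

set_option autoImplicit false
set_option linter.unusedSectionVars false
set_option linter.style.haveILetI false

namespace CfsgLib.SymBlocks

open Finset Equiv Equiv.Perm
open Cfsg (IrrCharacter classInner)
open CfsgLib.BlockPairs (cj mem_cj)
open scoped ComplexConjugate

variable {n N p : ℕ} [Fact p.Prime] {M : Ideal Cfsg.AlgInt} [M.IsPrime]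

theorem exists_block_not_memLocalIdeal {G : Type*} [Group G] [Fintype G]
    {V : Set (IrrCharacter G)} (hV : Blocks.IsBlockUnion M V) {g : G}
    (h : ¬ Cfsg.MemLocalIdeal M (Cfsg.blockCoeff V g)) :
    ∃ ψ ∈ V, ¬ Cfsg.MemLocalIdeal M (Cfsg.blockCoeff (Cfsg.blockOf M (ψ : G → ℂ)) g) := by
  classical
  by_contra hno
  push Not at hno
  apply h
  set B0 : IrrCharacter G → Set (IrrCharacter G) := fun ψ => Cfsg.blockOf M (ψ : G → ℂ)
  set T := (Finset.univ.filter fun ψ : IrrCharacter G => ψ ∈ V).image B0 with hT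
  have key : Cfsg.blockCoeff V g = ∑ b ∈ T, Cfsg.blockCoeff b g := by
    simp only [Blocks.blockCoeff_eq_sum, ← Finset.mul_sum]
    congr 1
    rw [Finset.sum_comm]
    refine Finset.sum_congr rfl fun ψ _ => ?_
    by_cases hψ : ψ ∈ V
    · rw [if_pos hψ, Finset.sum_eq_single (B0 ψ), if_pos (Blocks.mem_blockOf_self ψ)]
      · intro b hb hne
        obtain ⟨φ, hφ, rfl⟩ := Finset.mem_image.mp hb
        rw [if_neg]
        exact fun hmem => hne (Blocks.blockOf_eq_of_mem hmem).symm
      · exact fun hn => absurd (Finset.mem_image_of_mem B0 (Finset.mem_filter.mpr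
          ⟨Finset.mem_univ _, hψ⟩)) hn
    · rw [if_neg hψ, Finset.sum_eq_zero]
      intro b hb
      obtain ⟨φ, hφ, rfl⟩ := Finset.mem_image.mp hb
      exact if_neg fun hmem => hψ (hV φ (Finset.mem_filter.mp hφ).2 hmem)
  rw [key]
  refine Blocks.memLocalIdeal_sum T fun b hb => ?_
  obtain ⟨φ, hφ, rfl⟩ := Finset.mem_image.mp hb
  exact hno φ (Finset.mem_filter.mp hφ).2

/-- Conjugate blocks have conjugate idempotents. -/
theorem blockCoeff_conjIrr {G : Type*} [Group G] [Fintype G] (K : Subgroup G) [K.Normal] [Fintype K]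
    (θ : IrrCharacter K) (h : G) (m : K) :
    Cfsg.blockCoeff (Cfsg.blockOf M (BlocksLocal.conjIrr K θ h : K → ℂ)) m =
      Cfsg.blockCoeff (Cfsg.blockOf M (θ : K → ℂ)) (MulAut.conjNormal (H := K) h m) := by
  classical
  simp only [Blocks.blockCoeff_eq_sum]
  congr 1
  let e : IrrCharacter K ≃ IrrCharacter K :=
    { toFun := fun φ => BlocksLocal.conjIrr K φ h
      invFun := fun φ => BlocksLocal.conjIrr K φ h⁻¹
      left_inv := fun φ => by simp [BlocksLocal.conjIrr_mul, BlocksLocal.conjIrr_one]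
      right_inv := fun φ => by simp [BlocksLocal.conjIrr_mul, BlocksLocal.conjIrr_one] }
  refine (Fintype.sum_equiv e _ _ fun φ => ?_).symm
  have hmem : BlocksLocal.conjIrr K φ h ∈ Cfsg.blockOf M (BlocksLocal.conjIrr K θ h : K → ℂ) ↔
      φ ∈ Cfsg.blockOf M (θ : K → ℂ) := by
    rw [Blocks.mem_blockOf, Blocks.mem_blockOf]
    exact ⟨fun hs => by
        simpa [BlocksLocal.conjIrr_mul, BlocksLocal.conjIrr_one] using
          BlocksLocal.sameBlock_conjIrr K hs h⁻¹,
      fun hs => BlocksLocal.sameBlock_conjIrr K hs h⟩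
  have h1 : ∀ x : K, (φ : K → ℂ) (MulAut.conjNormal (H := K) h x) =
      (BlocksLocal.conjIrr K φ h : K → ℂ) x :=
    fun x => congrArg (φ : K → ℂ) (Subtype.ext (by simp [MulAut.conjNormal_apply]))
  simp only [e, Equiv.coe_fn_mk, hmem, ← h1, map_one]

/-- A subgroup centralized by whatever centralizes the cycles embeds in the defect group. -/
theorem exists_embedding (hM : Cfsg.IsPModular p M)
    {B : Set (IrrCharacter (alternatingGroup (Fin n)))} (hB : Cfsg.IsPBlock M B)
    {D : Subgroup (alternatingGroup (Fin n))} (hD : Cfsg.IsDefectGroup p M B D)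
    {θ : IrrCharacter (alternatingGroup (Fin n))} (hθ : θ ∈ B)
    {χ : IrrCharacter (Perm (Fin n))}
    (hcov : classInner (fun m : alternatingGroup (Fin n) => (χ : Perm (Fin n) → ℂ) m)
      (θ : alternatingGroup (Fin n) → ℂ) ≠ 0)
    {a : Fin N → ℕ} (ha : ∑ i, a i = n + N.choose 2) (hinj : Function.Injective a) {ε : ℂ}
    (he : chi (n := n) a = ε • (χ : Perm (Fin n) → ℂ)) {x : Perm (Fin n)}
    (hx : x.cycleType = Multiset.replicate (weight p a) p) {R : Subgroup (Perm (Fin n))}
    (hRA : R ≤ alternatingGroup (Fin n)) (hRp : IsPGroup p R)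
    (hcomm : ∀ g ∈ Subgroup.centralizer (cycleGroup x : Set (Perm (Fin n))),
      ¬ p ∣ orderOf g → ∀ r ∈ R, r * g = g * r) :
    ∃ f : R →* D, Function.Injective f := by
  classical
  have hp : p.Prime := Fact.out
  haveI : Fintype (Subgroup.centralizer ({x} : Set (Perm (Fin n)))) := Fintype.ofFinite _
  set H := Subgroup.centralizer ({x} : Set (Perm (Fin n))) with hH
  set B' := Cfsg.blockOf M (χ : Perm (Fin n) → ℂ)
  have hB' : Cfsg.IsPBlock M B' := Blocks.isPBlock_blockOf χ
  have hχ : χ ∈ B' := Blocks.mem_blockOf_self χ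
  obtain ⟨ξ, hξ⟩ := overSet_nonempty hM hB' hχ ha hinj he hx
  set V := BlocksLocal.coverSet (alternatingGroup (Fin n)) B with hVdef
  have hV : Blocks.IsBlockUnion M V := BlocksLocal.isBlockUnion_coverSet (alternatingGroup (Fin n)) hB
  obtain ⟨z, hz, hres⟩ := BlocksLocal.exists_ext (alternatingGroup (Fin n)) (Blocks.idemBar M V hV) fun h m => by
    rw [Blocks.coeff_idemBar, Blocks.coeff_idemBar]
    congr 1
    exact Subtype.ext (BlocksLocal.blockCoeff_coverSet_conj (alternatingGroup (Fin n)) B h m)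
  have hone : Blocks.omegaBar M ξ (Blocks.resCtr H z) = 1 := by
    have h2 := Blocks.isInducedBlock_of_mem_overSet hM (orderOf_eq_pow hx) hB' hξ
    rw [(Blocks.isInducedBlock_iff H h2.1 hB' (Blocks.mem_blockOf_self ξ) hχ).1 h2 z,
      BlocksLocal.omegaBar_eq_of_covers (alternatingGroup (Fin n)) hcov z hz, hres, Blocks.omegaBar_idemBar,
      if_pos (BlocksLocal.subset_coverSet (alternatingGroup (Fin n)) B hθ)]
  set Q := cycleGroup x with hQ
  have hQH : Q ≤ H := cycleGroup_le x
  haveI : (Q.subgroupOf H).Normal := ⟨fun q hq h => by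
    rw [Subgroup.mem_subgroupOf] at hq ⊢
    exact cycleGroup_conj h.2 hq⟩
  have hQp : IsPGroup p Q := IsPGroup.of_card (card_cycleGroup hx)
  obtain ⟨g, hg, hne⟩ : ∃ g : Perm (Fin n), g ∈ Subgroup.centralizer (Q : Set (Perm (Fin n))) ∧
      (z : MonoidAlgebra (Blocks.Res M) (Perm (Fin n))).coeff g ≠ 0 := by
    by_contra hall
    push Not at hall
    refine one_ne_zero (hone.symm.trans (Blocks.omegaBar_eq_zero_of_coeff_centralizer hM
      (Q.subgroupOf H) hQp.comap_subtype ξ fun g hg => ?_))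
    rw [Blocks.coeff_resCtr]
    refine hall _ (Subgroup.mem_centralizer_iff.2 fun u hu => ?_)
    exact congrArg Subtype.val (Subgroup.mem_centralizer_iff.1 hg ⟨u, hQH hu⟩ hu)
  have hgA : g ∈ (alternatingGroup (Fin n)) := by
    by_contra h
    exact hne (hz g h)
  have hVne : ¬ Cfsg.MemLocalIdeal M (Cfsg.blockCoeff V (⟨g, hgA⟩ : (alternatingGroup (Fin n)))) := by
    intro h
    refine hne ?_
    have e := congrArg (fun w : Blocks.Ctr (Blocks.Res M) (alternatingGroup (Fin n)) =>
      (w : MonoidAlgebra (Blocks.Res M) (alternatingGroup (Fin n))).coeff ⟨g, hgA⟩) hres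
    simp only [Blocks.coeff_resCtr] at e
    rw [e, Blocks.coeff_idemBar]
    exact Blocks.red_eq_zero_iff.2 h
  have hreg : ¬ p ∣ orderOf g := by
    intro hd
    refine hVne ?_
    rw [Blocks.blockCoeff_eq_zero_of_singular hM hV
      (show p ∣ orderOf (⟨g, hgA⟩ : (alternatingGroup (Fin n))) by rwa [← Subgroup.orderOf_coe])]
    exact Blocks.memLocalIdeal_zero
  obtain ⟨ψ, hψ, hψne⟩ := exists_block_not_memLocalIdeal hV hVne
  obtain ⟨h, θ', hθ', rfl⟩ := hψ
  rw [blockCoeff_conjIrr, ← Blocks.eq_blockOf_of_mem hB hθ'] at hψne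
  set g' : (alternatingGroup (Fin n)) := MulAut.conjNormal (H := (alternatingGroup (Fin n))) h ⟨g, hgA⟩ with hg'
  set R' : Subgroup (alternatingGroup (Fin n)) := (R.map (MulAut.conj h).toMonoidHom).subgroupOf (alternatingGroup (Fin n)) with hR'
  have hR'A : R.map (MulAut.conj h).toMonoidHom ≤ (alternatingGroup (Fin n)) := by
    rintro _ ⟨r, hr, rfl⟩
    exact (inferInstance : (alternatingGroup (Fin n)).Normal).conj_mem r (hRA hr) h
  have hR'p : IsPGroup p R' := by
    exact IsPGroup.comap_subtype (IsPGroup.map hRp _)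
  have hg'c : g' ∈ Subgroup.centralizer (R' : Set (alternatingGroup (Fin n))) := by
    refine Subgroup.mem_centralizer_iff.2 fun u hu => ?_
    obtain ⟨r, hr, e⟩ := (Subgroup.mem_subgroupOf.mp hu)
    refine Subtype.ext ?_
    rw [Subgroup.coe_mul, Subgroup.coe_mul, ← e, hg', MulAut.conjNormal_apply]
    simp only [MulEquiv.coe_toMonoidHom, MulAut.conj_apply]
    calc h * r * h⁻¹ * (h * g * h⁻¹) = h * (r * g) * h⁻¹ := by group
      _ = h * (g * r) * h⁻¹ := by rw [hcomm g hg hreg r hr]
      _ = h * g * h⁻¹ * (h * r * h⁻¹) := by group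
  have hne' : (Blocks.idemBar M B (Blocks.isBlockUnion_of_isPBlock hB) :
      MonoidAlgebra (Blocks.Res M) (alternatingGroup (Fin n))).coeff g' ≠ 0 := by
    rw [Blocks.coeff_idemBar]
    exact fun h0 => hψne (Blocks.red_eq_zero_iff.1 h0)
  obtain ⟨y, hy⟩ := Blocks.IsDefectGroup.domBy hM hB hD R' hR'p g' hg'c hne'
  have hmem : ∀ r : R, (MulAut.conj y)
      (⟨h * r * h⁻¹, hR'A ⟨r, r.2, rfl⟩⟩ : (alternatingGroup (Fin n))) ∈ D := fun r =>
    hy (Subgroup.mem_map_of_mem _ (Subgroup.mem_subgroupOf.mpr ⟨r, r.2, rfl⟩))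
  refine ⟨MonoidHom.mk' (fun r => ⟨_, hmem r⟩) fun r r' => Subtype.ext ?_, fun r r' e => ?_⟩
  · show (MulAut.conj y) _ = (MulAut.conj y) _ * (MulAut.conj y) _
    rw [← map_mul]
    congr 1
    refine Subtype.ext ?_
    simp only [Subgroup.coe_mul]
    group
  · have e' := congrArg Subtype.val ((MulAut.conj y).injective (congrArg Subtype.val e))
    exact Subtype.ext (mul_left_cancel (mul_right_cancel e'))

/-- An elementary abelian subgroup bounds the sectional rank. -/
theorem card_le_pow {G : Type*} [Group G] {D : Subgroup G} {s : ℕ}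
    (hs : Cfsg.SectionalPRankLE p s D) {R : Type*} [Group R] (f : R →* D)
    (hf : Function.Injective f) (hcomm : ∀ a b : R, a * b = b * a) (hexp : ∀ a : R, a ^ p = 1) :
    Nat.card R ≤ p ^ s := by
  let q : D →* (⊤ : Subgroup D) ⧸ (⊥ : Subgroup (⊤ : Subgroup D)) :=
    (QuotientGroup.mk' _).comp Subgroup.topEquiv.symm.toMonoidHom
  have hq : Function.Injective q := by
    intro u v huv
    simp only [q, MonoidHom.coe_comp, Function.comp_apply, QuotientGroup.mk'_apply,
      QuotientGroup.eq, Subgroup.mem_bot, inv_mul_eq_one] at huv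
    exact Subgroup.topEquiv.symm.injective huv
  rw [Nat.card_congr (MonoidHom.ofInjective (show Function.Injective (q.comp f) from hq.comp hf)).toEquiv]
  refine hs ⊤ ⊥ (q.comp f).range ⟨⟨?_⟩⟩ ?_
  · rintro ⟨-, u, rfl⟩ ⟨-, v, rfl⟩
    refine Subtype.ext ?_
    show q.comp f u * q.comp f v = q.comp f v * q.comp f u
    rw [← map_mul, ← map_mul, hcomm]
  · rintro - ⟨u, rfl⟩
    rw [← map_pow, hexp, map_one]

/-- A nontrivial defect group has rank at least one. -/
theorem one_le_rank {G : Type*} [Group G] [Fintype G] {B : Set (IrrCharacter G)} {D : Subgroup G}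
    (hD : Cfsg.IsDefectGroup p M B D) (hD1 : D ≠ ⊥) {s : ℕ}
    (hs : Cfsg.SectionalPRankLE p s D) : 1 ≤ s := by
  have hp : p.Prime := Fact.out
  by_contra hlt
  have hdvd : p ∣ Nat.card D := by
    obtain ⟨k, hk⟩ := IsPGroup.iff_card.mp (Blocks.IsDefectGroup.isPGroup hD)
    rcases k with _ | k
    · exact absurd (Subgroup.card_eq_one.mp (by rw [hk, pow_zero])) hD1
    · rw [hk]; exact dvd_pow_self p k.succ_ne_zero
  obtain ⟨u, hu⟩ := exists_prime_orderOf_dvd_card' (G := D) p hdvd
  have h := card_le_pow hs (Subgroup.zpowers u).subtype Subtype.val_injective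
    (fun a b => mul_comm' a b) fun a => by
      obtain ⟨i, hi⟩ := Subgroup.mem_zpowers_iff.mp a.2
      refine Subtype.ext ?_
      rw [SubgroupClass.coe_pow, ← hi, ← zpow_natCast, ← zpow_mul, mul_comm, zpow_mul, zpow_natCast,
        ← hu, pow_orderOf_eq_one, one_zpow, OneMemClass.coe_one]
  rw [Nat.card_zpowers, hu, show s = 0 by omega, pow_zero] at h
  exact absurd h (not_le.mpr hp.one_lt)

end CfsgLib.SymBlocks
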