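import Cfsg.Agent.SymBlocks.Conjugate
import Cfsg.Agent.SymBlocks.Rank
import Cfsg.Agent.CharactersDeep.Clifford
import Mathlib.GroupTheory.SpecificGroups.Alternating

/-!
Restriction of irreducible characters of a symmetric group to the alternating group.
-/

set_option autoImplicit false
set_option linter.unusedSectionVars false
set_option linter.style.haveILetI false

namespace CfsgLib.SymBlocks

open Finset Equiv Equiv.Perm
open Cfsg (IrrCharacter classInner)
open scoped ComplexConjugate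

variable {n N : ℕ}

theorem two_mul_card_alt (hn : 2 ≤ n) :
    2 * Nat.card (alternatingGroup (Fin n)) = Nat.card (Perm (Fin n)) := by
  haveI : Nontrivial (Fin n) := Fin.nontrivial_iff_two_le.mpr hn
  exact two_mul_nat_card_alternatingGroup

/-- The restriction of a character to the alternating group. -/
noncomputable def res (f : Perm (Fin n) → ℂ) : alternatingGroup (Fin n) → ℂ := fun m => f m

/-- The inner products of restrictions. -/
theorem classInner_res (hn : 2 ≤ n) (f g : Perm (Fin n) → ℂ) :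
    classInner (res f) (res g) =
      classInner f g + classInner (fun σ => ((Perm.sign σ : ℤ) : ℂ) * f σ) g := by
  classical
  have hG : (Nat.card (Perm (Fin n)) : ℂ) = 2 * Nat.card (alternatingGroup (Fin n)) := by
    rw [← two_mul_card_alt hn]; push_cast; ring
  have h2 : ∑ m : alternatingGroup (Fin n), f m * conj (g m) =
      ∑ σ : Perm (Fin n), if σ ∈ alternatingGroup (Fin n) then f σ * conj (g σ) else 0 := by
    rw [← Finset.sum_filter]
    exact (Finset.sum_subtype _ (fun x => by simp) (fun σ => f σ * conj (g σ))).symm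
  simp only [classInner, res]
  rw [h2, hG, ← mul_add, ← Finset.sum_add_distrib,
    show ∑ σ : Perm (Fin n), (f σ * conj (g σ) + ((Perm.sign σ : ℤ) : ℂ) * f σ * conj (g σ)) =
      2 * ∑ σ : Perm (Fin n), if σ ∈ alternatingGroup (Fin n) then f σ * conj (g σ) else 0 by
      rw [Finset.mul_sum]
      refine Finset.sum_congr rfl fun σ _ => ?_
      rcases Int.units_eq_one_or (Perm.sign σ) with h | h
      · rw [if_pos (Equiv.Perm.mem_alternatingGroup.mpr h), h]; simp; ring
      · rw [if_neg (fun hm => by rw [Equiv.Perm.mem_alternatingGroup, h] at hm; exact absurd hm (by decide)),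
          h]
        simp]
  have hA : (Nat.card (alternatingGroup (Fin n)) : ℂ) ≠ 0 := Nat.cast_ne_zero.mpr Nat.card_pos.ne'
  field_simp

/-- A restriction has norm at most two, and norm one unless the vector is self-conjugate. -/
theorem norm_res (hN : n ≤ N) (hn : 2 ≤ n) {a : Fin N → ℕ} (hs : ∑ i, a i = n + N.choose 2)
    (ha : Function.Injective a) {χ : IrrCharacter (Perm (Fin n))} {ε : ℂ} (hε : ε = 1 ∨ ε = -1)
    (he : chi (n := n) a = ε • (χ : Perm (Fin n) → ℂ)) :
    (classInner (res (χ : Perm (Fin n) → ℂ)) (res (χ : Perm (Fin n) → ℂ)) = 1 ∨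
      classInner (res (χ : Perm (Fin n) → ℂ)) (res (χ : Perm (Fin n) → ℂ)) = 2) ∧
    (refl (2 * N) (entries a) ≠ entries a →
      classInner (res (χ : Perm (Fin n) → ℂ)) (res (χ : Perm (Fin n) → ℂ)) = 1) := by
  classical
  obtain ⟨a', hs', ha', hent, δ, hδ, hchi⟩ := exists_conjugate hN hs ha
  obtain ⟨χ', ε', hε', he'⟩ := exists_irr_chi hs' ha'
  have hεε : ε * ε = 1 := by rcases hε with rfl | rfl <;> norm_num
  have hδδ : δ * δ = 1 := by rcases hδ with rfl | rfl <;> norm_num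
  have hsgn : (fun σ => ((Perm.sign σ : ℤ) : ℂ) * (χ : Perm (Fin n) → ℂ) σ) =
      (δ * ε' * ε) • (χ' : Perm (Fin n) → ℂ) := by
    funext σ
    have h1 := hchi σ
    rw [congrFun he σ, congrFun he' σ, Pi.smul_apply, Pi.smul_apply, smul_eq_mul, smul_eq_mul] at h1
    rw [Pi.smul_apply, smul_eq_mul, mul_assoc (δ * ε'), mul_comm ε, ← mul_assoc, mul_assoc δ ε', h1]
    linear_combination -(ε * ε * ((Perm.sign σ : ℤ) : ℂ) * (χ : Perm (Fin n) → ℂ) σ) * hδδ -
      ((Perm.sign σ : ℤ) : ℂ) * (χ : Perm (Fin n) → ℂ) σ * hεε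
  rw [classInner_res hn, hsgn, Characters.classInner_smul_left, Characters.classInner_irr,
    Characters.classInner_irr, if_pos rfl]
  by_cases hχ : χ' = χ
  swap
  · rw [if_neg hχ, mul_zero, add_zero]
    exact ⟨Or.inl rfl, fun _ => rfl⟩
  rw [if_pos hχ, mul_one]
  have h11 : δ * ε' * ε = 1 := by
    have h := congrFun hsgn 1
    rw [hχ, Pi.smul_apply, smul_eq_mul, map_one, Units.val_one, Int.cast_one, one_mul] at h
    exact (mul_left_eq_self₀.mp h.symm).resolve_right (Characters.irr_one_ne_zero χ.2)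
  refine ⟨Or.inr (by rw [h11]; norm_num), fun hne => absurd ?_ hne⟩
  have hd := classInner_chi (n := n) (b := a') hs
  rw [he, he', hχ, Characters.classInner_smul_left, Characters.classInner_smul_right,
    Characters.classInner_irr, if_pos rfl] at hd
  obtain ⟨π, hπ⟩ := exists_perm_of_dlt_ne_zero (a := a) (b := a') fun h0 => by
    rw [h0, Int.cast_zero] at hd
    rcases hε with rfl | rfl <;> rcases hε' with rfl | rfl <;> simp at hd
  rw [← hent, hπ]
  ext v
  simp only [entries, Finset.mem_image, Finset.mem_univ, true_and, Function.comp_apply]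
  exact ⟨fun ⟨i, hi⟩ => ⟨π i, hi⟩, fun ⟨i, hi⟩ => ⟨π.symm i, by simpa using hi⟩⟩

/-- A restriction from a self-conjugate vector has norm two. -/
theorem norm_res_of_selfConj (hN : n ≤ N) (hn : 2 ≤ n) {a : Fin N → ℕ}
    (hs : ∑ i, a i = n + N.choose 2) (ha : Function.Injective a) {χ : IrrCharacter (Perm (Fin n))}
    {ε : ℂ} (hε : ε = 1 ∨ ε = -1) (he : chi (n := n) a = ε • (χ : Perm (Fin n) → ℂ))
    (hsym : refl (2 * N) (entries a) = entries a) :
    classInner (res (χ : Perm (Fin n) → ℂ)) (res (χ : Perm (Fin n) → ℂ)) = 2 := by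
  classical
  obtain ⟨a', hs', ha', hent, δ, hδ, hchi⟩ := exists_conjugate hN hs ha
  obtain ⟨π, hπ⟩ := exists_perm_of_image_subset (a := a) (b := a') ha' fun i => by
    have hmem : a' i ∈ entries a :=
      hsym ▸ hent ▸ Finset.mem_image_of_mem a' (Finset.mem_univ i)
    obtain ⟨j, -, hj⟩ := Finset.mem_image.mp hmem
    exact ⟨j, hj⟩
  have hεne : ε ≠ 0 := by rcases hε with rfl | rfl <;> norm_num
  have hδδ : δ * δ = 1 := by rcases hδ with rfl | rfl <;> norm_num
  set c : ℂ := δ * ((Perm.sign π : ℤ) : ℂ)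
  have key : ∀ σ : Perm (Fin n), ((Perm.sign σ : ℤ) : ℂ) * (χ : Perm (Fin n) → ℂ) σ =
      c * (χ : Perm (Fin n) → ℂ) σ := fun σ => by
    have h1 := hchi σ
    rw [hπ, show chi (n := n) (a ∘ π) σ = ((Perm.sign π : ℤ) : ℂ) * chi (n := n) a σ by
      simp [chi, frob_comp], he, Pi.smul_apply, smul_eq_mul] at h1
    refine mul_left_cancel₀ hεne ?_
    linear_combination (-δ) * h1 - (((Perm.sign σ : ℤ) : ℂ) * ε * (χ : Perm (Fin n) → ℂ) σ) * hδδ
  have hc : c = 1 := by
    have h1 := key 1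
    rw [map_one, Units.val_one, Int.cast_one, one_mul] at h1
    exact (mul_left_eq_self₀.mp h1.symm).resolve_right (Characters.irr_one_ne_zero χ.2)
  rw [classInner_res hn, show (fun σ => ((Perm.sign σ : ℤ) : ℂ) * (χ : Perm (Fin n) → ℂ) σ) =
    (χ : Perm (Fin n) → ℂ) from funext fun σ => by rw [key, hc, one_mul],
    Characters.classInner_irr, if_pos rfl]
  norm_num

/-- The constituents of a restriction. -/
theorem constituents (hN : n ≤ N) (hn : 2 ≤ n) {a : Fin N → ℕ} (hs : ∑ i, a i = n + N.choose 2)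
    (ha : Function.Injective a) {χ : IrrCharacter (Perm (Fin n))} {ε : ℂ} (hε : ε = 1 ∨ ε = -1)
    (he : chi (n := n) a = ε • (χ : Perm (Fin n) → ℂ))
    {θ : IrrCharacter (alternatingGroup (Fin n))}
    (hθ : classInner (res (χ : Perm (Fin n) → ℂ)) (θ : alternatingGroup (Fin n) → ℂ) ≠ 0) :
    (refl (2 * N) (entries a) ≠ entries a →
      (θ : alternatingGroup (Fin n) → ℂ) ∈ ℂ ∙ res (χ : Perm (Fin n) → ℂ)) ∧
    (∀ φ : IrrCharacter (alternatingGroup (Fin n)),
      classInner (res (χ : Perm (Fin n) → ℂ)) (φ : alternatingGroup (Fin n) → ℂ) ≠ 0 →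
      (φ : alternatingGroup (Fin n) → ℂ) ∈
        Submodule.span ℂ {res (χ : Perm (Fin n) → ℂ), (θ : alternatingGroup (Fin n) → ℂ)}) ∧
    ((classInner (res (χ : Perm (Fin n) → ℂ)) (res (χ : Perm (Fin n) → ℂ)) = 1 ∧
        (χ : Perm (Fin n) → ℂ) 1 = (θ : alternatingGroup (Fin n) → ℂ) 1) ∨
      (classInner (res (χ : Perm (Fin n) → ℂ)) (res (χ : Perm (Fin n) → ℂ)) = 2 ∧
        (χ : Perm (Fin n) → ℂ) 1 = 2 * (θ : alternatingGroup (Fin n) → ℂ) 1)) := by
  classical
  set ρ : alternatingGroup (Fin n) → ℂ := res (χ : Perm (Fin n) → ℂ) with hρ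
  have hgen : Cfsg.IsGeneralizedCharacter (alternatingGroup (Fin n)) ρ :=
    Characters.isGen_restrict (alternatingGroup (Fin n)) (Characters.isGen_of_isIrr χ.2)
  obtain ⟨m, hexp, hm⟩ := Characters.exists_int_coeff hgen
  have hsq : classInner ρ ρ = ((∑ φ, m φ ^ 2 : ℤ) : ℂ) :=
    Characters.classInner_self_eq_sum_sq (Characters.isClassFunction_of_isGen hgen) m hm
  have hmθ : m θ ≠ 0 := fun h => hθ (by rw [hm, h, Int.cast_zero])
  have hθsq : 1 ≤ m θ ^ 2 := by nlinarith [mul_self_pos.mpr hmθ]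
  obtain ⟨h12, h1⟩ := norm_res hN hn hs ha hε he
  have hsplit : ∀ φ, φ ≠ θ → m φ ≠ 0 →
      2 ≤ ∑ ψ, m ψ ^ 2 ∧ ∀ ψ, ψ ≠ θ → ψ ≠ φ → (∑ ψ, m ψ ^ 2 = 2) → m ψ = 0 := by
    intro φ hne hφ
    have hφsq : 1 ≤ m φ ^ 2 := by nlinarith [mul_self_pos.mpr hφ]
    have hpair : ∑ ψ ∈ ({θ, φ} : Finset _), m ψ ^ 2 ≤ ∑ ψ, m ψ ^ 2 :=
      Finset.sum_le_univ_sum_of_nonneg (fun ψ => sq_nonneg _)
    rw [Finset.sum_pair (Ne.symm hne)] at hpair
    refine ⟨by omega, fun ψ hψ hψ' h2 => ?_⟩
    by_contra hψ0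
    have : 1 ≤ m ψ ^ 2 := by nlinarith [mul_self_pos.mpr hψ0]
    have htriple : ∑ x ∈ ({θ, φ, ψ} : Finset _), m x ^ 2 ≤ ∑ x, m x ^ 2 :=
      Finset.sum_le_univ_sum_of_nonneg (fun ψ => sq_nonneg _)
    rw [Finset.sum_insert (by simp [Ne.symm hne, Ne.symm hψ]), Finset.sum_pair (Ne.symm hψ')] at htriple
    omega
  have hk : ∑ ψ, m ψ ^ 2 = 1 ∨ ∑ ψ, m ψ ^ 2 = 2 := by
    rcases h12 with h | h <;> rw [hsq] at h
    · exact Or.inl (by exact_mod_cast h)
    · exact Or.inr (by exact_mod_cast h)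
  have hsingle : ∑ ψ, m ψ ^ 2 = 1 → ρ = (m θ : ℂ) • (θ : (alternatingGroup (Fin n)) → ℂ) := fun h => by
    rw [hexp, Finset.sum_eq_single θ (fun φ _ hne => ?_) (by simp)]
    by_contra hφ
    have := (hsplit φ hne fun h0 => hφ (by rw [h0, Int.cast_zero, zero_smul])).1
    omega
  have hmem1 : ∑ ψ, m ψ ^ 2 = 1 → (θ : (alternatingGroup (Fin n)) → ℂ) ∈ ℂ ∙ ρ := fun h => by
    rw [Submodule.mem_span_singleton]
    exact ⟨(m θ : ℂ)⁻¹, by rw [hsingle h, smul_smul, inv_mul_cancel₀ (Int.cast_ne_zero.mpr hmθ),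
      one_smul]⟩
  refine ⟨fun hne => hmem1 ?_, fun φ hφ => ?_, ?_⟩
  · have := h1 hne
    rw [hsq] at this
    exact_mod_cast this
  · by_cases hne : φ = θ
    · subst hne; exact Submodule.subset_span (by simp)
    have hmφ : m φ ≠ 0 := fun h => hφ (by rw [hm, h, Int.cast_zero])
    obtain ⟨hge, hzero⟩ := hsplit φ hne hmφ
    have h2 : ∑ ψ, m ψ ^ 2 = 2 := by omega
    have e : ρ = (m θ : ℂ) • (θ : (alternatingGroup (Fin n)) → ℂ) + (m φ : ℂ) • (φ : (alternatingGroup (Fin n)) → ℂ) := by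
      rw [hexp, ← Finset.sum_pair (f := fun ψ => (m ψ : ℂ) • (ψ : (alternatingGroup (Fin n)) → ℂ)) (Ne.symm hne)]
      refine (Finset.sum_subset (Finset.subset_univ _) fun ψ _ hψ => ?_).symm
      rw [Finset.mem_insert, Finset.mem_singleton, not_or] at hψ
      rw [hzero ψ hψ.1 hψ.2 h2, Int.cast_zero, zero_smul]
    rw [Submodule.mem_span_pair]
    refine ⟨(m φ : ℂ)⁻¹, -((m φ : ℂ)⁻¹ * m θ), ?_⟩
    have hmφ' : (m φ : ℂ) ≠ 0 := Int.cast_ne_zero.mpr hmφ
    rw [e, smul_add, smul_smul, smul_smul, inv_mul_cancel₀ hmφ', one_smul, neg_smul]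
    abel
  · have h1pos : ∀ φ : IrrCharacter (alternatingGroup (Fin n)), ∃ d : ℕ, 0 < d ∧ (φ : (alternatingGroup (Fin n)) → ℂ) 1 = d :=
      fun φ => Characters.exists_degree_pos φ.2
    obtain ⟨D, hD, hD'⟩ := Characters.exists_degree_pos χ.2
    obtain ⟨d, hd, hd'⟩ := h1pos θ
    rw [show (χ : Perm (Fin n) → ℂ) 1 = ρ 1 from rfl] at hD' ⊢
    by_cases hone : ∑ ψ, m ψ ^ 2 = 1
    · left
      refine ⟨by rw [hsq, hone, Int.cast_one], ?_⟩
      have e := congrFun (hsingle hone) 1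
      rw [Pi.smul_apply, smul_eq_mul] at e
      have hmm : m θ = 1 ∨ m θ = -1 := sq_eq_one_iff.mp (le_antisymm
        (hone ▸ Finset.single_le_sum (fun ψ _ => sq_nonneg (m ψ)) (Finset.mem_univ θ)) hθsq)
      rcases hmm with h | h <;> rw [h] at e
      · simpa using e
      · exfalso
        rw [hD', hd'] at e
        push_cast at e
        have : ((D + d : ℕ) : ℂ) = 0 := by push_cast; rw [e]; ring
        have := Nat.cast_eq_zero.mp this
        omega
    · obtain ⟨φ, hφne, hmφ⟩ : ∃ φ, φ ≠ θ ∧ m φ ≠ 0 := by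
        by_contra hno
        push Not at hno
        apply hone
        rw [Finset.sum_eq_single θ (fun φ _ h => by rw [hno φ h]; ring) (by simp)]
        have h22 : m θ ^ 2 ≤ 2 := by
          have := Finset.single_le_sum (fun ψ _ => sq_nonneg (m ψ)) (Finset.mem_univ θ)
          omega
        have : m θ < 2 ∧ -2 < m θ := ⟨by nlinarith, by nlinarith⟩
        rcases (show m θ = 1 ∨ m θ = -1 ∨ m θ = 0 by omega) with h | h | h
        · rw [h]; ring
        · rw [h]; ring
        · exact absurd h hmθ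
      obtain ⟨hge, hzero⟩ := hsplit φ hφne hmφ
      have h2 : ∑ ψ, m ψ ^ 2 = 2 := by omega
      have hdeg : (φ : (alternatingGroup (Fin n)) → ℂ) 1 = (θ : (alternatingGroup (Fin n)) → ℂ) 1 := by
        obtain ⟨g, hg⟩ := CharactersDeep.Clifford.exists_conjBy_of_constituents (alternatingGroup (Fin n)) χ.2 θ.2 φ.2 hθ
          (show classInner (res (χ : Perm (Fin n) → ℂ)) (φ : (alternatingGroup (Fin n)) → ℂ) ≠ 0 by
            rw [hm]; exact Int.cast_ne_zero.mpr hmφ)
        rw [hg]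
        exact congrArg (θ : (alternatingGroup (Fin n)) → ℂ) (Subtype.ext (by simp))
      have hsum : ρ 1 = ((m θ + m φ : ℤ) : ℂ) * (θ : (alternatingGroup (Fin n)) → ℂ) 1 := by
        have e := congrFun hexp 1
        rw [Finset.sum_apply, Finset.sum_eq_add θ φ (Ne.symm hφne)
          (fun ψ _ hψ => by rw [Pi.smul_apply, hzero ψ hψ.1 hψ.2 h2]; simp)
          (by simp) (by simp), Pi.smul_apply, Pi.smul_apply, smul_eq_mul, smul_eq_mul, hdeg] at e
        rw [e]; push_cast; ring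
      have hφsq : 1 ≤ m φ ^ 2 := by nlinarith [mul_self_pos.mpr hmφ]
      have hpair : ∑ ψ ∈ ({θ, φ} : Finset _), m ψ ^ 2 ≤ ∑ ψ, m ψ ^ 2 :=
        Finset.sum_le_univ_sum_of_nonneg (fun ψ => sq_nonneg _)
      rw [Finset.sum_pair (Ne.symm hφne)] at hpair
      have h1' : m θ = 1 ∨ m θ = -1 := sq_eq_one_iff.mp (by omega)
      have h2' : m φ = 1 ∨ m φ = -1 := sq_eq_one_iff.mp (by omega)
      have hDd : (D : ℤ) = (m θ + m φ) * d := by
        have : ((D : ℤ) : ℂ) = (((m θ + m φ) * d : ℤ) : ℂ) := by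
          rw [Int.cast_natCast, ← hD', hsum, hd']; push_cast; ring
        exact_mod_cast this
      right
      refine ⟨by rw [hsq, h2]; norm_num, ?_⟩
      rw [hsum]
      rcases h1' with h | h <;> rcases h2' with h' | h' <;> rw [h, h'] at hDd ⊢ <;>
        first | (norm_num; done) | (exfalso; omega)

end CfsgLib.SymBlocks
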