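import Cfsg.Agent.SymBlocks.Reflect

/-!
Counting self-conjugate bead configurations with given numbers of beads on each runner.
-/

set_option autoImplicit false
set_option linter.unusedSectionVars false

namespace CfsgLib.SymBlocks

open Finset

variable {p N w : ℕ}

/-- A configuration with prescribed bead numbers and total excess. -/
structure Shape (p N : ℕ) (c : Multiset ℕ) (w : ℕ) (S : Finset ℕ) : Prop where
  sub : S ⊆ Finset.range (2 * N)
  card : ∀ r < p, (runner p r S).card = c.count r
  sum : ∑ r ∈ Finset.range p, ∑ x ∈ runner p r S, x =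
    ∑ r ∈ Finset.range p, (c.count r).choose 2 + w

/-- The runners `1, …, k`. -/
def half (p k : ℕ) (S : Finset ℕ) : Fin k → Finset ℕ := fun r => runner p ((r : ℕ) + 1) S

/-- With the first runner fixed there are at most as many configurations as states. -/
theorem card_bottom_le (c : Multiset ℕ) (hp : 0 < p) (K : Finset (Finset ℕ))
    (hK : ∀ S ∈ K, Shape p N c w S ∧ runner p 0 S = Finset.range (c.count 0)) :
    K.card ≤ (states (fun r : Fin (p - 1) => c.count ((r : ℕ) + 1)) w).card := by
  have hq : p = (p - 1) + 1 := by omega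
  refine Finset.card_le_card_of_injOn (half p (p - 1)) (fun S hS => ?_) (fun S hS T hT h => ?_)
  · obtain ⟨hsh, h0⟩ := hK S hS
    refine Finset.mem_coe.mpr (mem_states.mpr ⟨fun r => hsh.card _ (by omega), ?_⟩)
    have h := hsh.sum
    rw [show Finset.range p = Finset.range ((p - 1) + 1) by rw [← hq], Finset.sum_range_succ',
      Finset.sum_range_succ', h0, Finset.sum_range_id, ← Nat.choose_two_right] at h
    simp only [half]
    rw [Fin.sum_univ_eq_sum_range (fun r => ∑ x ∈ runner p (r + 1) S, x),
      Fin.sum_univ_eq_sum_range (fun r => (c.count (r + 1)).choose 2)]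
    omega
  · refine eq_of_runner hp fun r hr => ?_
    rcases Nat.eq_zero_or_pos r with rfl | hpos
    · rw [(hK S hS).2, (hK T hT).2]
    · have e := congrFun h ⟨r - 1, by omega⟩
      simp only [half] at e
      rwa [show r - 1 + 1 = r by omega] at e

/-- Self-conjugate configurations for `p = 2`. -/
theorem card_selfConj_two (hN : 0 < N) (c : Multiset ℕ) (E : Finset (Finset ℕ))
    (hE : ∀ S ∈ E, Shape 2 N c w S ∧ refl (2 * N) S = S) :
    E.card ≤ (states (fun _ : Fin 1 => c.count 0) (w / 2)).card ∧ (w % 2 = 1 → E = ∅) := by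
  have key : ∀ S ∈ E, runner 2 1 S = refl N (runner 2 0 S) ∧
      2 * (∑ x ∈ runner 2 0 S, x) = 2 * (c.count 0).choose 2 + w := by
    intro S hS
    obtain ⟨hsh, hsym⟩ := hE S hS
    have e : runner 2 1 S = refl N (runner 2 0 S) := by
      conv_lhs => rw [← hsym]
      exact runner_refl (by omega) (by omega) hN (by omega) S
    refine ⟨e, ?_⟩
    have hsub : runner 2 0 S ⊆ Finset.range N :=
      runner_subset (by omega) (n := 2 * N) (by omega) hsh.sub
    have h1 := sum_refl hsub
    rw [← e, hsh.card 0 (by omega), hsh.card 1 (by omega)] at h1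
    have h2 := hsh.sum
    simp only [Finset.sum_range_succ, Finset.sum_range_zero, zero_add] at h2
    omega
  refine ⟨Finset.card_le_card_of_injOn (fun S => fun _ : Fin 1 => runner 2 0 S)
    (fun S hS => ?_) (fun S hS T hT h => ?_), fun hw => ?_⟩
  · obtain ⟨-, h2⟩ := key S hS
    refine Finset.mem_coe.mpr (mem_states.mpr ⟨fun _ => (hE S hS).1.card 0 (by omega), ?_⟩)
    simp only [Fin.sum_univ_one]
    omega
  · have h0 : runner 2 0 S = runner 2 0 T := congrFun h 0
    refine eq_of_runner (p := 2) (by omega) fun r hr => ?_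
    rcases (show r = 0 ∨ r = 1 by omega) with rfl | rfl
    · exact h0
    · rw [(key S hS).1, (key T hT).1, h0]
  · exact Finset.eq_empty_of_forall_notMem fun S hS => by have := (key S hS).2; omega

/-- Sets of distinct odd numbers with a given sum. -/
def oddSets (m : ℕ) : Finset (Finset ℕ) :=
  (Finset.range ((m + 1) / 2)).powerset.filter fun T => ∑ t ∈ T, (2 * t + 1) = m

theorem mem_oddSets {m : ℕ} {T : Finset ℕ} : T ∈ oddSets m ↔ ∑ t ∈ T, (2 * t + 1) = m := by
  refine ⟨fun h => (Finset.mem_filter.mp h).2, fun h => Finset.mem_filter.mpr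
    ⟨Finset.mem_powerset.mpr fun t ht => Finset.mem_range.mpr ?_, h⟩⟩
  have : 2 * t + 1 ≤ ∑ u ∈ T, (2 * u + 1) :=
    Finset.single_le_sum (f := fun u => 2 * u + 1) (fun u _ => Nat.zero_le _) ht
  omega

theorem card_oddSets_le (m : ℕ) : (oddSets m).card ≤ 2 ^ (m / 2) := by
  rw [show 2 ^ (m / 2) = (Finset.range (m / 2)).powerset.card by simp]
  refine Finset.card_le_card_of_injOn (fun T => T.filter fun t => t < m / 2) (fun T _ => ?_)
    (fun S hS T hT h => ?_)
  · exact Finset.mem_coe.mpr (Finset.mem_powerset.mpr fun t ht =>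
      Finset.mem_range.mpr (Finset.mem_filter.mp ht).2)
  · have hS' := mem_oddSets.mp hS
    have hT' := mem_oddSets.mp hT
    have hsub : ∀ U ∈ oddSets m, U.filter (fun t => ¬ t < m / 2) ⊆ {m / 2} := by
      intro U hU t ht
      obtain ⟨ht, hlt⟩ := Finset.mem_filter.mp ht
      have := Finset.mem_range.mp (Finset.mem_powerset.mp (Finset.mem_filter.mp hU).1 ht)
      rw [Finset.mem_singleton]
      omega
    have e1 := Finset.sum_filter_add_sum_filter_not S (fun t => t < m / 2) (fun t => 2 * t + 1)
    have e2 := Finset.sum_filter_add_sum_filter_not T (fun t => t < m / 2) (fun t => 2 * t + 1)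
    simp only at h
    rw [h] at e1
    have hhigh : S.filter (fun t => ¬ t < m / 2) = T.filter (fun t => ¬ t < m / 2) := by
      rcases Finset.subset_singleton_iff.mp (hsub S hS) with hs | hs <;>
        rcases Finset.subset_singleton_iff.mp (hsub T hT) with ht | ht <;>
        first
          | (rw [hs, ht]; done)
          | (exfalso; rw [hs] at e1; rw [ht] at e2
             simp only [Finset.sum_empty, Finset.sum_singleton] at e1 e2; omega)
    rw [← Finset.filter_union_filter_not_eq (fun t => t < m / 2) S,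
      ← Finset.filter_union_filter_not_eq (fun t => t < m / 2) T, h, hhigh]

theorem sum_range_split (k : ℕ) (f : ℕ → ℕ) : ∑ r ∈ Finset.range (2 * k + 1), f r =
    ∑ i : Fin k, f ((i : ℕ) + 1) + ∑ i : Fin k, f (2 * k + 1 - ((i : ℕ) + 1)) + f 0 := by
  rw [Finset.sum_range_succ', show 2 * k = k + k by omega, Finset.sum_range_add,
    Fin.sum_univ_eq_sum_range (fun i => f (i + 1)),
    Fin.sum_univ_eq_sum_range (fun i => f (k + k + 1 - (i + 1))),
    ← Finset.sum_range_reflect (fun i => f (k + i + 1)) k]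
  congr 2
  refine Finset.sum_congr rfl fun i hi => ?_
  rw [Finset.mem_range] at hi
  congr 1
  omega

section Odd

variable {k q : ℕ} (hpk : p = 2 * k + 1) (hNq : 2 * N = p * (2 * q + 1) + 1)
  (c : Multiset ℕ) {S : Finset ℕ} (hS : Shape p N c w S) (hsym : refl (2 * N) S = S)
include hpk hNq hS hsym

theorem opposite_runner {r : ℕ} (hr : r < k) :
    runner p (p - (r + 1)) S = refl (2 * q + 1) (runner p (r + 1) S) := by
  conv_lhs => rw [← hsym]
  refine runner_refl (by omega) (by omega) (by omega) ?_ S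
  rw [show 2 * q + 1 - 1 = 2 * q by omega, hNq, Nat.mul_add, mul_one]
  omega

theorem middle_runner : refl (2 * q + 2) (runner p 0 S) = runner p 0 S ∧
    runner p 0 S ⊆ Finset.range (2 * q + 2) := by
  refine ⟨?_, runner_subset (by omega) (n := 2 * N) ?_ hS.sub⟩
  · conv_rhs => rw [← hsym]
    refine (runner_refl (by omega) (by omega) (by omega) ?_ S).symm
    rw [show 2 * q + 2 - 1 = 2 * q + 1 by omega, hNq]
    omega
  · rw [hNq, zero_add, Nat.mul_add, Nat.mul_add]
    omega

theorem excess_eq :
    2 * (∑ i : Fin k, ∑ x ∈ half p k S i, x) + ∑ x ∈ runner p 0 S, x =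
      2 * (∑ i : Fin k, (c.count ((i : ℕ) + 1)).choose 2) + (c.count 0).choose 2 + w := by
  have h := hS.sum
  have hp' : Finset.range p = Finset.range (2 * k + 1) := by rw [hpk]
  rw [hp', sum_range_split, sum_range_split] at h
  have hopp : ∀ i : Fin k, ∑ x ∈ runner p (2 * k + 1 - ((i : ℕ) + 1)) S, x + (c.count ((i : ℕ) + 1)).choose 2 =
      ∑ x ∈ half p k S i, x + (c.count (2 * k + 1 - ((i : ℕ) + 1))).choose 2 := by
    intro i
    have hsub : runner p ((i : ℕ) + 1) S ⊆ Finset.range (2 * q + 1) :=
      runner_subset (by omega) (n := 2 * N) (by rw [hNq]; omega) hS.sub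
    have h1 := sum_refl hsub
    rw [← opposite_runner hpk hNq c hS hsym i.2, hS.card _ (by omega),
      hS.card _ (by omega)] at h1
    have e : p - ((i : ℕ) + 1) = 2 * k + 1 - ((i : ℕ) + 1) := by omega
    rw [e] at h1
    exact h1
  have hsum := Finset.sum_congr (s₁ := (Finset.univ : Finset (Fin k))) rfl fun i _ => hopp i
  rw [Finset.sum_add_distrib, Finset.sum_add_distrib] at hsum
  simp only [half] at hsum ⊢
  omega

end Odd

theorem half_mem_states {k q : ℕ} (hpk : p = 2 * k + 1) (hNq : 2 * N = p * (2 * q + 1) + 1)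
    (c : Multiset ℕ) {S : Finset ℕ} (hS : Shape p N c w S) (hsym : refl (2 * N) S = S) :
    ∃ j T, half p k S ∈ states (fun r : Fin k => c.count ((r : ℕ) + 1)) j ∧
      T = ((runner p 0 S).filter fun x => q + 1 ≤ x).image (fun x => x - (q + 1)) ∧
      T ∈ oddSets (w - 2 * j) ∧ 2 * j ≤ w ∧
      (runner p 0 S = Finset.range (c.count 0) → w = 2 * j) := by
  obtain ⟨hm, hmsub⟩ := middle_runner hpk hNq c hS hsym
  obtain ⟨hmid, hcard⟩ := middle_excess hmsub hm
  rw [hS.card 0 (by omega)] at hmid
  have h := excess_eq hpk hNq c hS hsym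
  have hlow : ∑ i : Fin k, (c.count ((i : ℕ) + 1)).choose 2 ≤
      ∑ i : Fin k, ∑ x ∈ half p k S i, x := Finset.sum_le_sum fun i _ => by
    rw [← hS.card ((i : ℕ) + 1) (by omega)]
    exact choose_card_le_sum _
  refine ⟨∑ i : Fin k, ∑ x ∈ half p k S i, x - ∑ i : Fin k, (c.count ((i : ℕ) + 1)).choose 2, _,
    mem_states.mpr ⟨fun r => hS.card _ (by omega), by omega⟩, rfl, mem_oddSets.mpr (by omega),
    by omega, fun h0 => ?_⟩
  rw [h0, Finset.sum_range_id, ← Nat.choose_two_right] at h
  omega

theorem selfConj_ext {k q : ℕ} (hpk : p = 2 * k + 1) (hNq : 2 * N = p * (2 * q + 1) + 1)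
    (c : Multiset ℕ) {S T : Finset ℕ} (hS : Shape p N c w S) (hsS : refl (2 * N) S = S)
    (hT : Shape p N c w T) (hsT : refl (2 * N) T = T) (h : half p k S = half p k T)
    (h0 : ((runner p 0 S).filter fun x => q + 1 ≤ x).image (fun x => x - (q + 1)) =
      ((runner p 0 T).filter fun x => q + 1 ≤ x).image (fun x => x - (q + 1))) : S = T := by
  refine eq_of_runner (p := p) (by omega) fun r hr => ?_
  rcases Nat.eq_zero_or_pos r with rfl | hpos
  · have hhigh : ∀ x, q + 1 ≤ x → (x ∈ runner p 0 S ↔ x ∈ runner p 0 T) := by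
      intro x hx
      have key : ∀ U : Finset ℕ, x - (q + 1) ∈
          ((runner p 0 U).filter fun y => q + 1 ≤ y).image (fun y => y - (q + 1)) ↔
            x ∈ runner p 0 U := fun U => by
        simp only [Finset.mem_image, Finset.mem_filter]
        exact ⟨fun ⟨y, ⟨hy, hyq⟩, e⟩ => by rwa [show x = y by omega], fun h => ⟨x, ⟨h, hx⟩, rfl⟩⟩
      rw [← key S, ← key T, h0]
    ext x
    by_cases hx : q + 1 ≤ x
    · exact hhigh x hx
    rw [← (middle_runner hpk hNq c hS hsS).1, ← (middle_runner hpk hNq c hT hsT).1, mem_refl,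
      mem_refl, hhigh _ (by omega)]
  · by_cases hrk : r ≤ k
    · have e := congrFun h ⟨r - 1, by omega⟩
      simp only [half] at e
      rwa [show r - 1 + 1 = r by omega] at e
    · have e := congrFun h ⟨p - r - 1, by omega⟩
      simp only [half] at e
      rw [show r = p - (p - r - 1 + 1) by omega, opposite_runner hpk hNq c hS hsS (by omega),
        opposite_runner hpk hNq c hT hsT (by omega), e]

/-- Self-conjugate configurations, odd `p`. -/
theorem card_selfConj_odd {k q : ℕ} (hk : 1 ≤ k) (hpk : p = 2 * k + 1)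
    (hNq : 2 * N = p * (2 * q + 1) + 1) (c : Multiset ℕ) (E : Finset (Finset ℕ))
    (hE : ∀ S ∈ E, Shape p N c w S ∧ refl (2 * N) S = S) :
    E.card ≤ (w / 2 + 1) * (k + 1) ^ (w / 2) ∧
      (E.filter fun S => runner p 0 S = Finset.range (c.count 0)).card ≤ (k + 1) ^ (w / 2) ∧
      (w % 2 = 1 → (E.filter fun S => runner p 0 S = Finset.range (c.count 0)) = ∅) := by
  classical
  let st := fun j => states (fun r : Fin k => c.count ((r : ℕ) + 1)) j
  let φ : Finset ℕ → (Fin k → Finset ℕ) × Finset ℕ := fun S =>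
    (half p k S, ((runner p 0 S).filter fun x => q + 1 ≤ x).image fun x => x - (q + 1))
  have hφ : Set.InjOn φ E := fun S hS T hT h =>
    selfConj_ext hpk hNq c (hE S hS).1 (hE S hS).2 (hE T hT).1 (hE T hT).2
      (congrArg Prod.fst h) (congrArg Prod.snd h)
  refine ⟨?_, ?_, fun hw => Finset.filter_eq_empty_iff.mpr fun S hS h0 => ?_⟩
  · calc E.card ≤ ((Finset.range (w / 2 + 1)).biUnion fun j => st j ×ˢ oddSets (w - 2 * j)).card :=
        Finset.card_le_card_of_injOn φ (fun S hS => by
          obtain ⟨j, T, hj, hT, hTm, hjw, -⟩ := half_mem_states hpk hNq c (hE S hS).1 (hE S hS).2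
          exact Finset.mem_coe.mpr (Finset.mem_biUnion.mpr ⟨j, Finset.mem_range.mpr (by omega),
            Finset.mem_product.mpr ⟨hj, by subst hT; exact hTm⟩⟩)) hφ
      _ ≤ ∑ j ∈ Finset.range (w / 2 + 1), (st j ×ˢ oddSets (w - 2 * j)).card := Finset.card_biUnion_le
      _ ≤ ∑ j ∈ Finset.range (w / 2 + 1), (k + 1) ^ (w / 2) := Finset.sum_le_sum fun j hj => by
          rw [Finset.mem_range] at hj
          rw [Finset.card_product]
          calc (st j).card * (oddSets (w - 2 * j)).card ≤ (k + 1) ^ j * 2 ^ ((w - 2 * j) / 2) :=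
                Nat.mul_le_mul (card_states_le_pow _ j) (card_oddSets_le _)
            _ ≤ (k + 1) ^ j * (k + 1) ^ (w / 2 - j) := by
                refine Nat.mul_le_mul_left _ ?_
                rw [show (w - 2 * j) / 2 = w / 2 - j by omega]
                exact Nat.pow_le_pow_left (by omega) _
            _ = (k + 1) ^ (w / 2) := by rw [← pow_add]; congr 1; omega
      _ = (w / 2 + 1) * (k + 1) ^ (w / 2) := by
          rw [Finset.sum_const, Finset.card_range, smul_eq_mul]
  · refine (Finset.card_le_card_of_injOn (half p k) (fun S hS => ?_) (fun S hS T hT h => ?_)).trans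
      (card_states_le_pow (fun r : Fin k => c.count ((r : ℕ) + 1)) (w / 2))
    · obtain ⟨hS, h0⟩ := Finset.mem_filter.mp hS
      obtain ⟨j, T, hj, -, -, -, hw⟩ := half_mem_states hpk hNq c (hE S hS).1 (hE S hS).2
      exact Finset.mem_coe.mpr (by rwa [show w / 2 = j by have := hw h0; omega])
    · obtain ⟨hS, hS0⟩ := Finset.mem_filter.mp hS
      obtain ⟨hT, hT0⟩ := Finset.mem_filter.mp hT
      exact selfConj_ext hpk hNq c (hE S hS).1 (hE S hS).2 (hE T hT).1 (hE T hT).2 h
        (by rw [hS0, hT0])
  · obtain ⟨j, T, -, -, -, -, hw'⟩ := half_mem_states hpk hNq c (hE S hS).1 (hE S hS).2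
    have := hw' h0
    omega

/-- An involution with at most `F` fixed points has few orbits. -/
theorem card_orbits_le {α : Type*} [DecidableEq α] (K : Finset α) (τ : α → α)
    (hτ : ∀ S ∈ K, τ S ∈ K) (hinv : ∀ S ∈ K, τ (τ S) = S) :
    2 * (K.image fun S => s(S, τ S)).card ≤ K.card + (K.filter fun S => τ S = S).card := by
  rw [Finset.card_filter, Finset.card_eq_sum_ones K, ← Finset.sum_add_distrib,
    ← Finset.sum_fiberwise_of_maps_to (g := fun S => s(S, τ S)) (t := K.image fun S => s(S, τ S))
      fun S hS => Finset.mem_image_of_mem _ hS,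
    mul_comm, ← smul_eq_mul]
  refine Finset.card_nsmul_le_sum _ _ 2 fun z hz => ?_
  obtain ⟨S, hS, rfl⟩ := Finset.mem_image.mp hz
  have hSmem : S ∈ K.filter fun T => s(T, τ T) = s(S, τ S) := Finset.mem_filter.mpr ⟨hS, rfl⟩
  by_cases hfix : τ S = S
  · refine le_trans ?_ (Finset.single_le_sum (f := fun T => 1 + if τ T = T then 1 else 0)
      (fun T _ => Nat.zero_le _) hSmem)
    simp [hfix]
  · have hTmem : τ S ∈ K.filter fun T => s(T, τ T) = s(S, τ S) :=
      Finset.mem_filter.mpr ⟨hτ S hS, by rw [hinv S hS, Sym2.eq_swap]⟩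
    calc 2 ≤ ∑ T ∈ ({S, τ S} : Finset α), (1 + if τ T = T then 1 else 0) := by
          rw [Finset.sum_pair (Ne.symm hfix)]; omega
      _ ≤ _ := Finset.sum_le_sum_of_subset (by
          intro T hT
          rcases Finset.mem_insert.mp hT with rfl | h
          · exact hSmem
          · rw [Finset.mem_singleton.mp h]; exact hTmem)

end CfsgLib.SymBlocks
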