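import Cfsg.Agent.SymBlocks.Rank
import Cfsg.Agent.SymBlocks.AltClifford
import Cfsg.Agent.SymBlocks.AltCount
import Cfsg.Agent.SymBlocks.AltDefect
import Cfsg.Agent.BlocksLocal.CoverAll

/-!
The regular rank of a block of an alternating group.
-/

set_option autoImplicit false
set_option linter.unusedSectionVars false
set_option linter.style.haveILetI false

namespace CfsgLib.SymBlocks

open Finset Equiv Equiv.Perm
open Cfsg (IrrCharacter classInner pRegularPart blockRank)
open scoped ComplexConjugate

variable {n N p : ℕ}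

theorem runner_entries (a : Fin N → ℕ) (r : ℕ) :
    runner p r (entries a) = (univ.filter fun i => a i % p = r).image fun i => a i / p := by
  ext x
  simp only [runner, entries, Finset.mem_image, Finset.mem_filter, Finset.mem_univ, true_and]
  constructor
  · rintro ⟨y, ⟨⟨i, rfl⟩, hy⟩, rfl⟩
    exact ⟨i, hy, rfl⟩
  · rintro ⟨i, hi, rfl⟩
    exact ⟨_, ⟨⟨i, rfl⟩, hi⟩, rfl⟩

theorem injOn_class {a : Fin N → ℕ} (ha : Function.Injective a) (r : ℕ) :
    Set.InjOn (fun i => a i / p) (univ.filter fun i => a i % p = r : Finset (Fin N)) := by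
  intro i hi j hj h
  simp only [Finset.coe_filter, Set.mem_ofPred_eq, Finset.mem_univ, true_and] at hi hj
  exact ha (eq_of_mod_div (hi.trans hj.symm) h)

theorem card_runner_entries {a : Fin N → ℕ} (ha : Function.Injective a) (r : ℕ) :
    (runner p r (entries a)).card = (resid p a).count r := by
  rw [runner_entries, Finset.card_image_of_injOn (injOn_class ha r), card_class]

theorem count_resid_eq_zero (hp : 0 < p) (a : Fin N → ℕ) {r : ℕ} (hr : p ≤ r) :
    (resid p a).count r = 0 := by
  rw [← card_class, Finset.card_eq_zero, Finset.filter_eq_empty_iff]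
  intro i _ h
  have := Nat.mod_lt (a i) hp
  omega

theorem runnerSum_eq_sum {a : Fin N → ℕ} (ha : Function.Injective a) :
    runnerSum p a = ∑ x ∈ runner p 0 (entries a), x := by
  rw [runner_entries, Finset.sum_image (injOn_class ha 0), runnerSum, Finset.sum_filter]

theorem runner_zero_of_min {a : Fin N → ℕ} (ha : Function.Injective a)
    (h : runnerSum p a = ((resid p a).count 0).choose 2) :
    runner p 0 (entries a) = Finset.range ((resid p a).count 0) := by
  rw [← card_runner_entries ha 0]
  exact eq_range_of_sum_le (by rw [← runnerSum_eq_sum ha, h, card_runner_entries ha 0])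

theorem shape_entries (hp : 0 < p) (hN : n ≤ N) {a : Fin N → ℕ} (hs : ∑ i, a i = n + N.choose 2)
    (ha : Function.Injective a) : Shape p N (resid p a) (weight p a) (entries a) where
  sub := entries_subset hN hs ha
  card r _ := card_runner_entries ha r
  sum := by
    have h : ∑ r ∈ Finset.range p, ∑ x ∈ runner p r (entries a), x = ∑ i, a i / p := by
      rw [← Finset.sum_fiberwise_of_maps_to (g := fun i => a i % p) (t := Finset.range p)
        fun i _ => Finset.mem_range.mpr (Nat.mod_lt _ hp)]
      exact Finset.sum_congr rfl fun r _ => by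
        rw [runner_entries, Finset.sum_image (injOn_class ha r)]
    rw [h, ← sum_rank hp ha, weight, ← Finset.sum_add_distrib]
    exact Finset.sum_congr rfl fun i _ => by have := rank_le_div hp ha i; omega

theorem exists_perm_of_entries {a b : Fin N → ℕ} (hb : Function.Injective b)
    (h : entries b = entries a) : ∃ π : Perm (Fin N), b = a ∘ π := by
  refine exists_perm_of_image_subset hb fun i => ?_
  have hmem : b i ∈ entries a := h ▸ Finset.mem_image_of_mem b (Finset.mem_univ i)
  obtain ⟨j, -, hj⟩ := Finset.mem_image.mp hmem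
  exact ⟨j, hj⟩

/-- Entries below `2 N`: residues of the conjugate. -/
theorem exists_opposite (hp : 0 < p) (hpN : p ≤ 2 * N) {r : ℕ} (hr : r < p) :
    ∃ r' L : ℕ, r' < p ∧ 0 < L ∧ r + r' + p * (L - 1) + 1 = 2 * N ∧ 2 * N ≤ r' + p * L := by
  refine ⟨(2 * N - 1 - r) % p, (2 * N - 1 - r) / p + 1, Nat.mod_lt _ hp, Nat.succ_pos _, ?_, ?_⟩
  · have := Nat.mod_add_div (2 * N - 1 - r) p
    rw [Nat.add_sub_cancel]
    omega
  · have := Nat.mod_add_div (2 * N - 1 - r) p
    rw [Nat.mul_add, mul_one]
    omega

/-- Conjugation preserves a self-conjugate residue class. -/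
theorem resid_conj (hp : 0 < p) (hpN : p ≤ 2 * N) {a a' b : Fin N → ℕ}
    (ha : Function.Injective a) (hsa : entries a ⊆ Finset.range (2 * N))
    (hb : Function.Injective b) (hsb : entries b ⊆ Finset.range (2 * N))
    (hsym : refl (2 * N) (entries b) = entries b) (hr : resid p a = resid p b)
    (ha' : Function.Injective a') (he : entries a' = refl (2 * N) (entries a)) :
    resid p a' = resid p a := by
  refine Multiset.ext.mpr fun r => ?_
  rcases lt_or_ge r p with hrp | hrp
  swap
  · rw [count_resid_eq_zero hp _ hrp, count_resid_eq_zero hp _ hrp]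
  obtain ⟨r', L, hr', hL, h1, h2⟩ := exists_opposite hp hpN hrp
  rw [← card_runner_entries ha', he, runner_refl hrp hr' hL h1, hr]
  have e1 := card_refl (runner_subset hr' h2 hsa)
  have e2 := card_refl (runner_subset hr' h2 hsb)
  rw [← runner_refl hrp hr' hL h1, hsym, card_runner_entries hb, card_runner_entries hb] at e2
  rw [card_runner_entries ha, hr] at e1
  omega

/-- The bottom configurations of a residue class. -/
noncomputable def bottomSet (n N p : ℕ) (c : Multiset ℕ) : Finset (Finset ℕ) :=
  (minTuples n N p c).image entries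

/-- The self-conjugate configurations of a residue class. -/
noncomputable def selfConjSet (n N p : ℕ) (c : Multiset ℕ) : Finset (Finset ℕ) :=
  open Classical in
  (((resTuples n N p c).filter Function.Injective).image entries).filter
    fun S => refl (2 * N) S = S

theorem shape_of_mem (hp : 0 < p) (hN : n ≤ N) {a0 : Fin N → ℕ}
    (hs0 : ∑ i, a0 i = n + N.choose 2) (ha0 : Function.Injective a0) {a : Fin N → ℕ}
    (ha : a ∈ resTuples n N p (resid p a0)) (hinj : Function.Injective a) :
    Shape p N (resid p a0) (weight p a0) (entries a) := by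
  obtain ⟨hs, hr⟩ := Finset.mem_filter.mp ha
  rw [mem_tuples] at hs
  have h := shape_entries hp hN hs hinj
  rwa [hr, weight_congr hp hinj ha0 hr (hs.trans hs0.symm)] at h

theorem shape_bottomSet (hp : 0 < p) (hN : n ≤ N) {a0 : Fin N → ℕ}
    (hs0 : ∑ i, a0 i = n + N.choose 2) (ha0 : Function.Injective a0) {S : Finset ℕ}
    (hS : S ∈ bottomSet n N p (resid p a0)) :
    Shape p N (resid p a0) (weight p a0) S ∧
      runner p 0 S = Finset.range ((resid p a0).count 0) := by
  classical
  obtain ⟨a, ha, rfl⟩ := Finset.mem_image.mp hS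
  obtain ⟨ha, hinj, h0⟩ := Finset.mem_filter.mp ha
  refine ⟨shape_of_mem hp hN hs0 ha0 ha hinj, ?_⟩
  have hr := (Finset.mem_filter.mp ha).2
  rw [← hr] at h0 ⊢
  exact runner_zero_of_min hinj h0

theorem shape_selfConjSet (hp : 0 < p) (hN : n ≤ N) {a0 : Fin N → ℕ}
    (hs0 : ∑ i, a0 i = n + N.choose 2) (ha0 : Function.Injective a0) {S : Finset ℕ}
    (hS : S ∈ selfConjSet n N p (resid p a0)) :
    Shape p N (resid p a0) (weight p a0) S ∧ refl (2 * N) S = S := by
  classical
  obtain ⟨hS, hsym⟩ := Finset.mem_filter.mp hS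
  obtain ⟨a, ha, rfl⟩ := Finset.mem_image.mp hS
  obtain ⟨ha, hinj⟩ := Finset.mem_filter.mp ha
  exact ⟨shape_of_mem hp hN hs0 ha0 ha hinj, hsym⟩

/-- With a self-conjugate member the bottom configurations are closed under conjugation. -/
theorem refl_mem_bottomSet {q : ℕ} (hp : 0 < p) (hN : n ≤ N)
    (hNq : 2 * N = p * (2 * q + 1) + 1) {a0 : Fin N → ℕ} (hs0 : ∑ i, a0 i = n + N.choose 2)
    (ha0 : Function.Injective a0) (hE : (selfConjSet n N p (resid p a0)).Nonempty) {S : Finset ℕ}
    (hS : S ∈ bottomSet n N p (resid p a0)) :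
    refl (2 * N) S ∈ bottomSet n N p (resid p a0) ∧ refl (2 * N) (refl (2 * N) S) = S := by
  classical
  obtain ⟨hshape, h0⟩ := shape_bottomSet hp hN hs0 ha0 hS
  refine ⟨?_, refl_refl hshape.sub⟩
  obtain ⟨T, hT⟩ := hE
  obtain ⟨hT, hsym⟩ := Finset.mem_filter.mp hT
  obtain ⟨b, hb, rfl⟩ := Finset.mem_image.mp hT
  obtain ⟨hb, hbinj⟩ := Finset.mem_filter.mp hb
  obtain ⟨hbs, hbr⟩ := Finset.mem_filter.mp hb
  obtain ⟨a, ha, rfl⟩ := Finset.mem_image.mp hS
  obtain ⟨ha, hinj, hmin⟩ := Finset.mem_filter.mp ha
  obtain ⟨has, har⟩ := Finset.mem_filter.mp ha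
  rw [mem_tuples] at has hbs
  obtain ⟨a', hs', ha', hent, -, -, -⟩ := exists_conjugate hN has hinj
  have hpN : p ≤ 2 * N := by rw [hNq, Nat.mul_add, mul_one]; omega
  have hres : resid p a' = resid p a0 :=
    (resid_conj hp hpN hinj (entries_subset hN has hinj) hbinj (entries_subset hN hbs hbinj) hsym
      (har.trans hbr.symm) ha' hent).trans har
  refine Finset.mem_image.mpr ⟨a', Finset.mem_filter.mpr
    ⟨Finset.mem_filter.mpr ⟨mem_tuples.mpr hs', hres⟩, ha', ?_⟩, hent⟩
  have e : runner p 0 (entries a') = refl (2 * q + 2) (runner p 0 (entries a)) := by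
    rw [hent]
    refine runner_refl hp hp (by omega) ?_ _
    rw [show 2 * q + 2 - 1 = 2 * q + 1 by omega, hNq]
    omega
  have hle : (resid p a0).count 0 ≤ 2 * q + 2 := by
    have := runner_subset hp (L := 2 * q + 2) (n := 2 * N)
      (by rw [hNq, zero_add, Nat.mul_add p (2 * q) 2, Nat.mul_add, mul_one]; omega) hshape.sub
    have := Finset.card_le_card this
    rwa [Finset.card_range, h0, Finset.card_range] at this
  rw [h0, refl_range hle] at e
  have hc := congrArg Finset.card e
  rw [card_runner_entries ha', hres, Finset.card_range] at hc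
  rw [runnerSum_eq_sum ha', e, Finset.sum_range_id, ← Nat.choose_two_right, ← hc]

/-- Restriction to the alternating group as a linear map. -/
noncomputable def resLin (n : ℕ) :
    (Perm (Fin n) → ℂ) →ₗ[ℂ] (alternatingGroup (Fin n) → ℂ) :=
  LinearMap.funLeft ℂ ℂ (Subtype.val : alternatingGroup (Fin n) → Perm (Fin n))

theorem pRegularPart_res (f : Perm (Fin n) → ℂ) :
    pRegularPart p (res f) = resLin n (pRegularPart p f) := by
  funext m
  classical
  simp only [pRegularPart, res, resLin, LinearMap.funLeft_apply]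
  exact if_congr (by simp only [Cfsg.IsPRegular, Subgroup.orderOf_coe]) rfl rfl

/-- Regular part as a linear map. -/
noncomputable def regLin (p : ℕ) (G : Type*) [Group G] : (G → ℂ) →ₗ[ℂ] (G → ℂ) where
  toFun := pRegularPart p
  map_add' f g := by funext x; simp only [pRegularPart, Pi.add_apply]; split_ifs <;> simp
  map_smul' t f := by funext x; simp [pRegularPart]

variable {M : Ideal Cfsg.AlgInt} [M.IsPrime] [Fact p.Prime]

theorem exists_over_of_mem (hM : Cfsg.IsPModular p M) (hN : n ≤ N)
    {B : Set (IrrCharacter (alternatingGroup (Fin n)))} (hB : Cfsg.IsPBlock M B)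
    {θ : IrrCharacter (alternatingGroup (Fin n))} (hθ : θ ∈ B) {χ : IrrCharacter (Perm (Fin n))}
    (hcov : classInner (res (χ : Perm (Fin n) → ℂ)) (θ : alternatingGroup (Fin n) → ℂ) ≠ 0)
    {c : Multiset ℕ} (hχ : χ ∈ blockSet n N p c)
    {φ : IrrCharacter (alternatingGroup (Fin n))} (hφ : φ ∈ B) :
    ∃ b ∈ resTuples n N p c, Function.Injective b ∧
      ∃ (χ' : IrrCharacter (Perm (Fin n))) (ε : ℂ), (ε = 1 ∨ ε = -1) ∧
        chi (n := n) b = ε • (χ' : Perm (Fin n) → ℂ) ∧
        classInner (res (χ' : Perm (Fin n) → ℂ)) (φ : alternatingGroup (Fin n) → ℂ) ≠ 0 := by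
  obtain ⟨χ', hχ', h⟩ := BlocksLocal.CoverAll.exists_over
    (Blocks.isPBlock_blockOf (M := M) χ) hB ⟨χ, Blocks.mem_blockOf_self χ, θ, hθ, hcov⟩ φ hφ
  obtain ⟨b, hb, hbinj, ε, hε, e⟩ :=
    exists_eq_smul_of_mem (isBlockUnion_blockSet hM hN c χ hχ hχ')
  refine ⟨b, hb, hbinj, χ', ε, hε, ?_, h⟩
  rw [e, smul_smul, show ε * ε = 1 by rcases hε with rfl | rfl <;> norm_num, one_smul]

/-- **The regular rank.** -/
theorem blockRank_alt_le (hM : Cfsg.IsPModular p M) (hN : n ≤ N) (hn : 2 ≤ n)
    {B : Set (IrrCharacter (alternatingGroup (Fin n)))} (hB : Cfsg.IsPBlock M B)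
    {θ : IrrCharacter (alternatingGroup (Fin n))} (hθ : θ ∈ B) {χ : IrrCharacter (Perm (Fin n))}
    (hcov : classInner (res (χ : Perm (Fin n) → ℂ)) (θ : alternatingGroup (Fin n) → ℂ) ≠ 0)
    {c : Multiset ℕ} (hχ : χ ∈ blockSet n N p c) {β : Type*} [DecidableEq β] (g : Finset ℕ → β)
    (hg : ∀ S ∈ bottomSet n N p c, ∀ T ∈ bottomSet n N p c, g S = g T →
      T = S ∨ T = refl (2 * N) S) :
    blockRank p B ≤ ((bottomSet n N p c).image g).card + (selfConjSet n N p c).card := by
  classical
  have hp : p.Prime := Fact.out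
  let rep : Finset ℕ → Fin N → ℕ := fun S =>
    if h : ∃ a ∈ resTuples n N p c, Function.Injective a ∧ entries a = S then h.choose else fun _ => 0
  let base' : β → Finset ℕ := fun z =>
    if h : ∃ S ∈ bottomSet n N p c, g S = z then h.choose else ∅
  let mrep : Finset ℕ → Fin N → ℕ := fun S =>
    if h : ∃ a ∈ minTuples n N p c, entries a = S then h.choose else fun _ => 0
  let v1 : β → alternatingGroup (Fin n) → ℂ := fun z => resLin n (regChi n p (mrep (base' z)))
  let v2 : Finset ℕ → alternatingGroup (Fin n) → ℂ := fun S =>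
    if h : ∃ φ : IrrCharacter (alternatingGroup (Fin n)),
        classInner (res (chi (n := n) (rep S))) (φ : alternatingGroup (Fin n) → ℂ) ≠ 0 then
      pRegularPart p (h.choose : alternatingGroup (Fin n) → ℂ) else 0
  set W := Submodule.span ℂ ((((bottomSet n N p c).image g).image v1 ∪
    (selfConjSet n N p c).image v2 : Finset (alternatingGroup (Fin n) → ℂ)) :
      Set (alternatingGroup (Fin n) → ℂ)) with hW
  -- restrictions of bottom characters
  have hbot : ∀ a ∈ minTuples n N p c, resLin n (regChi n p a) ∈ W := by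
    intro a ha
    have hmem : entries a ∈ bottomSet n N p c := Finset.mem_image_of_mem _ ha
    have hex : ∃ S ∈ bottomSet n N p c, g S = g (entries a) := ⟨_, hmem, rfl⟩
    obtain ⟨hS, hgS⟩ := hex.choose_spec
    have hv : v1 (g (entries a)) ∈ W := Submodule.subset_span (Finset.mem_coe.mpr
      (Finset.mem_union_left _ (Finset.mem_image_of_mem _ (Finset.mem_image_of_mem _ hmem))))
    have hbS : base' (g (entries a)) = hex.choose := by simp only [base', dif_pos hex]
    obtain ⟨b, hb, hbe⟩ := Finset.mem_image.mp hS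
    have hexb : ∃ x ∈ minTuples n N p c, entries x = hex.choose := ⟨b, hb, hbe⟩
    obtain ⟨hx, hxe⟩ := hexb.choose_spec
    have hv' : resLin n (regChi n p hexb.choose) ∈ W := by
      simpa only [v1, hbS, mrep, dif_pos hexb] using hv
    obtain ⟨ha', hainj, -⟩ := Finset.mem_filter.mp ha
    obtain ⟨hx', hxinj, -⟩ := Finset.mem_filter.mp hx
    rcases hg _ hS _ hmem hgS with e | e
    · obtain ⟨π, hπ⟩ := exists_perm_of_entries hainj (e.trans hxe.symm)
      rw [hπ, regChi_comp, map_smul]
      exact W.smul_mem _ hv'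
    · obtain ⟨x', hs', hxinj', hent, δ, hδ, hchi⟩ :=
        exists_conjugate hN (mem_tuples.mp (Finset.mem_filter.mp hx').1) hxinj
      obtain ⟨π, hπ⟩ := exists_perm_of_entries (a := x') hainj (by rw [e, hent, hxe])
      have e' : resLin n (regChi n p x') = δ • resLin n (regChi n p hexb.choose) := by
        funext m
        simp only [resLin, LinearMap.funLeft_apply, regChi, pRegularPart, Pi.smul_apply, smul_eq_mul,
          hchi, Equiv.Perm.mem_alternatingGroup.mp m.2, Units.val_one, Int.cast_one, mul_one]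
        split_ifs <;> simp
      rw [hπ, regChi_comp, map_smul, e']
      exact W.smul_mem _ (W.smul_mem _ hv')
  have hall : ∀ a ∈ resTuples n N p c, resLin n (regChi n p a) ∈ W := by
    intro a ha
    have h := Submodule.mem_map_of_mem (f := resLin n) (regChi_mem_span hp hN c ha)
    refine (Submodule.map_span_le (resLin n) _ W).mpr ?_ h
    rintro _ ⟨b, hb, rfl⟩
    exact hbot b hb
  refine le_trans (Submodule.finrank_mono (t := W) (Submodule.span_le.mpr ?_))
    ((finrank_span_finset_le_card _).trans ((Finset.card_union_le _ _).trans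
      (Nat.add_le_add Finset.card_image_le Finset.card_image_le)))
  rintro _ ⟨φ, hφ, rfl⟩
  obtain ⟨b, hb, hbinj, χ', ε, hε, he, hne⟩ := exists_over_of_mem hM hN hB hθ hcov hχ hφ
  have hbs := mem_tuples.mp (Finset.mem_filter.mp hb).1
  have hres : regLin p _ (res (χ' : Perm (Fin n) → ℂ)) ∈ W := by
    have hεε : ε * ε = 1 := by rcases hε with rfl | rfl <;> norm_num
    have e : regLin p _ (res (χ' : Perm (Fin n) → ℂ)) = ε • resLin n (regChi n p b) := by
      show pRegularPart p (res (χ' : Perm (Fin n) → ℂ)) = _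
      rw [pRegularPart_res, ← map_smul]
      congr 1
      funext x
      simp only [regChi, pRegularPart, he, Pi.smul_apply, smul_eq_mul]
      split_ifs
      · rw [← mul_assoc, hεε, one_mul]
      · rw [mul_zero]
    rw [e]
    exact W.smul_mem _ (hall b hb)
  show regLin p _ (φ : alternatingGroup (Fin n) → ℂ) ∈ W
  by_cases hsym : refl (2 * N) (entries b) = entries b
  swap
  · have h := Submodule.mem_map_of_mem (f := regLin p (alternatingGroup (Fin n)))
      ((constituents hN hn hbs hbinj hε he hne).1 hsym)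
    refine (Submodule.map_span_le (regLin p _) _ W).mpr ?_ h
    intro x hx
    rw [Set.mem_singleton_iff] at hx
    rw [hx]
    exact hres
  have hmem : entries b ∈ selfConjSet n N p c := Finset.mem_filter.mpr
    ⟨Finset.mem_image_of_mem _ (Finset.mem_filter.mpr ⟨hb, hbinj⟩), hsym⟩
  have hexb : ∃ a ∈ resTuples n N p c, Function.Injective a ∧ entries a = entries b :=
    ⟨b, hb, hbinj, rfl⟩
  obtain ⟨hr, hrinj, hre⟩ := hexb.choose_spec
  have hrep : rep (entries b) = hexb.choose := by simp only [rep, dif_pos hexb]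
  obtain ⟨π, hπ⟩ := exists_perm_of_entries hrinj hre
  have hchirep : chi (n := n) (rep (entries b)) =
      (((Perm.sign π : ℤ) : ℂ) * ε) • (χ' : Perm (Fin n) → ℂ) := by
    rw [hrep, hπ, ← smul_smul, ← he]
    funext σ
    simp [chi, frob_comp]
  have hcc : ∀ f : alternatingGroup (Fin n) → ℂ,
      classInner (res (chi (n := n) (rep (entries b)))) f ≠ 0 ↔
        classInner (res (χ' : Perm (Fin n) → ℂ)) f ≠ 0 := fun f => by
    rw [show res (chi (n := n) (rep (entries b))) =
        (((Perm.sign π : ℤ) : ℂ) * ε) • res (χ' : Perm (Fin n) → ℂ) by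
      funext m; simp [res, hchirep], Characters.classInner_smul_left, mul_ne_zero_iff]
    exact and_iff_right (mul_ne_zero (Int.cast_ne_zero.mpr (Units.ne_zero _))
      (by rcases hε with rfl | rfl <;> norm_num))
  have hex : ∃ ψ : IrrCharacter (alternatingGroup (Fin n)),
      classInner (res (chi (n := n) (rep (entries b)))) (ψ : alternatingGroup (Fin n) → ℂ) ≠ 0 :=
    ⟨φ, (hcc _).mpr hne⟩
  have hv2 : regLin p _ (hex.choose : alternatingGroup (Fin n) → ℂ) ∈ W := by
    have h : v2 (entries b) ∈ W := Submodule.subset_span (Finset.mem_coe.mpr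
      (Finset.mem_union_right _ (Finset.mem_image_of_mem _ hmem)))
    simpa only [v2, dif_pos hex, regLin, LinearMap.coe_mk, AddHom.coe_mk] using h
  have h := Submodule.mem_map_of_mem (f := regLin p (alternatingGroup (Fin n)))
    ((constituents hN hn hbs hbinj hε he ((hcc _).mp hex.choose_spec)).2.1 φ hne)
  refine (Submodule.map_span_le (regLin p _) _ W).mpr ?_ h
  intro x hx
  rcases hx with rfl | hx
  · exact hres
  · rw [Set.mem_singleton_iff] at hx
    rw [hx]
    exact hv2

/-- Weight zero gives defect zero. -/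
theorem eq_bot_of_weight_zero (hM : Cfsg.IsPModular p M) (hN : n ≤ N) (hn : 2 ≤ n)
    {B : Set (IrrCharacter (alternatingGroup (Fin n)))} (hB : Cfsg.IsPBlock M B)
    {D : Subgroup (alternatingGroup (Fin n))} (hD : Cfsg.IsDefectGroup p M B D)
    {θ : IrrCharacter (alternatingGroup (Fin n))} (hθ : θ ∈ B) {χ : IrrCharacter (Perm (Fin n))}
    (hcov : classInner (res (χ : Perm (Fin n) → ℂ)) (θ : alternatingGroup (Fin n) → ℂ) ≠ 0)
    {a : Fin N → ℕ} (ha : ∑ i, a i = n + N.choose 2) (hinj : Function.Injective a) {ε : ℂ}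
    (hε : ε = 1 ∨ ε = -1) (he : chi (n := n) a = ε • (χ : Perm (Fin n) → ℂ))
    (hw : weight p a = 0) : D = ⊥ := by
  classical
  have hp : p.Prime := Fact.out
  set c := resid p a with hc
  have hεne : ε ≠ 0 := by rcases hε with rfl | rfl <;> norm_num
  have hχ : χ ∈ blockSet n N p c := ⟨a, Finset.mem_filter.mpr ⟨mem_tuples.mpr ha, rfl⟩, by
    rw [he, Characters.classInner_smul_left, Characters.classInner_irr, if_pos rfl, mul_one]
    exact hεne⟩
  -- there is just one character with this core
  have hone : ∀ χ' ∈ blockSet n N p c, χ' = χ := by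
    intro χ' hχ'
    obtain ⟨b, hb, hbinj, ε', hε', e⟩ := exists_eq_smul_of_mem hχ'
    have hwb : weight p b = 0 := by
      rw [weight_congr hp.pos hbinj hinj (Finset.mem_filter.mp hb).2
        ((mem_tuples.mp (Finset.mem_filter.mp hb).1).trans ha.symm), hw]
    have hrun : ∀ {x : Fin N → ℕ}, (∑ i, x i = n + N.choose 2) → Function.Injective x →
        weight p x = 0 → ∀ r < p, runner p r (entries x) = Finset.range ((resid p x).count r) := by
      intro x hx hxinj hxw r hr
      have h := shape_entries (p := p) hp.pos hN hx hxinj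
      rw [hxw] at h
      rw [← h.card r hr]
      refine eq_range_of_sum_le ?_
      have h1 := h.sum
      rw [add_zero, ← Finset.add_sum_erase _ _ (Finset.mem_range.mpr hr),
        ← Finset.add_sum_erase _ (fun r => ((resid p x).count r).choose 2) (Finset.mem_range.mpr hr)] at h1
      have h2 : ∑ t ∈ (Finset.range p).erase r, ((resid p x).count t).choose 2 ≤
          ∑ t ∈ (Finset.range p).erase r, ∑ y ∈ runner p t (entries x), y :=
        Finset.sum_le_sum fun t ht => by
          rw [← h.card t (Finset.mem_range.mp (Finset.mem_of_mem_erase ht))]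
          exact choose_card_le_sum _
      rw [h.card r hr]
      omega
    have hent : entries b = entries a := eq_of_runner hp.pos fun r hr => by
      rw [hrun (mem_tuples.mp (Finset.mem_filter.mp hb).1) hbinj hwb r hr, hrun ha hinj hw r hr,
        (Finset.mem_filter.mp hb).2]
    obtain ⟨π, hπ⟩ := exists_perm_of_entries hbinj hent
    have e2 : (χ' : Perm (Fin n) → ℂ) =
        (ε' * (((Perm.sign π : ℤ) : ℂ) * ε)) • (χ : Perm (Fin n) → ℂ) := by
      rw [e, hπ, ← smul_smul, ← smul_smul, ← he]
      congr 1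
      funext σ
      simp [chi, frob_comp]
    have hne' : classInner (χ' : Perm (Fin n) → ℂ) (χ : Perm (Fin n) → ℂ) ≠ 0 := by
      rw [e2, Characters.classInner_smul_left, Characters.classInner_irr, if_pos rfl, mul_one]
      refine mul_ne_zero (by rcases hε' with rfl | rfl <;> norm_num)
        (mul_ne_zero (Int.cast_ne_zero.mpr (Units.ne_zero _)) hεne)
    rw [Characters.classInner_irr] at hne'
    by_contra hcon
    exact hne' (if_neg hcon)
  -- it vanishes at singular elements
  have hvan : ∀ y : Perm (Fin n), p ∣ orderOf y → (χ : Perm (Fin n) → ℂ) y = 0 := by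
    intro y hy
    have h := sum_blockSet_eq_zero (n := n) (N := N) hp hN c (x := 1) (y := y)
      (by rw [orderOf_one]; exact hp.not_dvd_one) hy
    rw [Finset.sum_eq_single χ (fun x _ hx => if_neg fun hm => hx (hone x hm)) (by simp), if_pos hχ,
      Blocks.conj_one_irr] at h
    exact (mul_eq_zero.mp h).resolve_right (Characters.irr_one_ne_zero χ.2)
  obtain ⟨P⟩ := (inferInstance : Nonempty (Sylow p (Perm (Fin n))))
  haveI : Fintype (P : Subgroup (Perm (Fin n))) := Fintype.ofFinite _
  obtain ⟨z, hz⟩ := Characters.classInner_gen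
    (Characters.isGen_restrict (P : Subgroup (Perm (Fin n))) (Characters.isGen_of_isIrr χ.2))
    Characters.isGen_one
  rw [Cfsg.classInner, Finset.sum_eq_single (1 : (P : Subgroup (Perm (Fin n))))
    (fun x _ hx => by
      obtain ⟨k, hk⟩ := IsPGroup.iff_orderOf.mp P.isPGroup' x
      rw [hvan (x : Perm (Fin n)) (by
        rw [Subgroup.orderOf_coe, hk]
        rcases k with _ | k
        · rw [pow_zero, orderOf_eq_one_iff] at hk; exact absurd hk hx
        · exact dvd_pow_self p k.succ_ne_zero), zero_mul]) (by simp),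
    map_one, mul_one, OneMemClass.coe_one, ← Blocks.charDegree_cast χ] at hz
  have hdvd : Nat.card (P : Subgroup (Perm (Fin n))) ∣ Cfsg.charDegree (χ : Perm (Fin n) → ℂ) := by
    have hz' : (Cfsg.charDegree (χ : Perm (Fin n) → ℂ) : ℂ) =
        (Nat.card (P : Subgroup (Perm (Fin n))) : ℂ) * z := by
      rw [← hz, ← mul_assoc, mul_inv_cancel₀ (Nat.cast_ne_zero.mpr Nat.card_pos.ne'), one_mul]
    exact Int.natCast_dvd_natCast.mp ⟨z, by exact_mod_cast hz'⟩
  rw [Sylow.card_eq_multiplicity, hp.pow_dvd_iff_le_factorization (Blocks.charDegree_ne_zero χ),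
    ← two_mul_card_alt hn, Nat.factorization_mul two_ne_zero Nat.card_pos.ne', Finsupp.add_apply]
    at hdvd
  have hmin : ∀ φ ∈ B, (Nat.card (alternatingGroup (Fin n))).factorization p ≤
      (Cfsg.charDegree (φ : alternatingGroup (Fin n) → ℂ)).factorization p := by
    intro φ hφ
    obtain ⟨b, hb, hbinj, χ', ε', hε', he', hne⟩ := exists_over_of_mem hM hN hB hθ hcov hχ hφ
    have hχ' : χ' = χ := hone χ' ⟨b, hb, by
      rw [he', Characters.classInner_smul_left, Characters.classInner_irr, if_pos rfl, mul_one]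
      rcases hε' with rfl | rfl <;> norm_num⟩
    have hdeg := (constituents hN hn (mem_tuples.mp (Finset.mem_filter.mp hb).1) hbinj hε' he'
      hne).2.2
    rw [hχ', ← Blocks.charDegree_cast χ, ← Blocks.charDegree_cast φ] at hdeg
    have hd0 := Blocks.charDegree_ne_zero φ
    rcases hdeg with ⟨-, h⟩ | ⟨-, h⟩
    · rw [Nat.cast_inj] at h
      rw [h] at hdvd
      omega
    · rw [← Nat.cast_ofNat, ← Nat.cast_mul, Nat.cast_inj] at h
      rw [h, Nat.factorization_mul two_ne_zero hd0, Finsupp.add_apply] at hdvd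
      omega
  have hcard := Cfsg.Agent.S0908.result p M hM B hB D hD
  have hsInf : (Nat.card (alternatingGroup (Fin n))).factorization p ≤
      sInf ((fun φ : IrrCharacter (alternatingGroup (Fin n)) =>
        (Cfsg.charDegree (φ : alternatingGroup (Fin n) → ℂ)).factorization p) '' B) := by
    refine le_csInf ⟨_, θ, hθ, rfl⟩ ?_
    rintro _ ⟨φ, hφ, rfl⟩
    exact hmin φ hφ
  rw [Cfsg.blockDefect, Nat.sub_eq_zero_of_le hsInf, pow_zero] at hcard
  exact Subgroup.card_eq_one.mp hcard

end CfsgLib.SymBlocks
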