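import Cfsg.Agent.SymBlocks.Blocks
import Cfsg.Agent.SymBlocks.Rank
import Cfsg.Agent.SymBlocks.Defect
import Cfsg.Agent.BlocksLocal.Covering
import Mathlib.GroupTheory.Perm.ViaEmbedding

/-!
Characters of a symmetric group with the same core lie in the same block.
-/

set_option autoImplicit false
set_option linter.unusedSectionVars false
set_option linter.style.haveILetI false

namespace CfsgLib.SymBlocks

open Finset Equiv Equiv.Perm
open Cfsg (IrrCharacter classInner)
open scoped ComplexConjugate

variable {n N p : ℕ}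

theorem core_congr {a b : Fin N → ℕ} (hp : 0 < p) (ha : Function.Injective a)
    (hb : Function.Injective b) (hr : resid p a = resid p b) :
    ∃ π : Perm (Fin N), core p b = core p a ∘ π := by
  refine exists_perm_of_image_subset (core_injective hp hb) fun i => ?_
  set r := b i % p with hr'
  have hio : Set.InjOn (rank p a) (univ.filter fun j => a j % p = r : Finset (Fin N)) := by
    intro x hx y hy h
    simp only [Finset.coe_filter, Set.mem_ofPred_eq, Finset.mem_univ, true_and] at hx hy
    exact rank_inj ha (hx.trans hy.symm) h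
  have hlt : ∀ {x : Fin N → ℕ}, ∀ j, x j % p = r → rank p x j < (resid p x).count r := by
    intro x j hj
    rw [← card_class]
    refine Finset.card_lt_card ⟨fun k hk => ?_, fun hsub => ?_⟩
    · simp only [Finset.mem_filter, Finset.mem_univ, true_and] at hk ⊢
      exact hk.1.trans hj
    · have := hsub (show j ∈ univ.filter fun k => x k % p = r by simp [hj])
      simp at this
  have him : (univ.filter fun j => a j % p = r).image (rank p a) =
      Finset.range ((resid p a).count r) := by
    refine Finset.eq_of_subset_of_card_le (fun x hx => ?_) ?_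
    · obtain ⟨j, hj, rfl⟩ := Finset.mem_image.mp hx
      exact Finset.mem_range.mpr (hlt j (Finset.mem_filter.mp hj).2)
    · rw [Finset.card_range, Finset.card_image_of_injOn hio, card_class]
  have hmem : rank p b i ∈ (univ.filter fun j => a j % p = r).image (rank p a) := by
    rw [him, Finset.mem_range, hr]
    exact hlt i rfl
  obtain ⟨j, hj, e⟩ := Finset.mem_image.mp hmem
  exact ⟨j, by rw [core, core, e, (Finset.mem_filter.mp hj).2]⟩

section Local

variable [Fact p.Prime]

/-- The permutations fixing the moved points of `x`. -/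
def fixer (x : Perm (Fin n)) : Subgroup (Perm (Fin n)) where
  carrier := {y | ∀ z ∈ x.support, y z = z}
  one_mem' _ _ := rfl
  mul_mem' := fun {a b} ha hb z hz => by rw [Perm.mul_apply, hb z hz, ha z hz]
  inv_mem' := fun {a} ha z hz => by rw [Perm.inv_eq_iff_eq, ha z hz]

theorem mem_fixer {x y : Perm (Fin n)} : y ∈ fixer x ↔ ∀ z ∈ x.support, y z = z := Iff.rfl

theorem fixer_le_centralizer (x : Perm (Fin n)) : fixer x ≤ Subgroup.centralizer {x} := by
  intro y hy
  rw [Subgroup.mem_centralizer_singleton_iff]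
  have hd : Perm.Disjoint y x := fun z => by
    by_cases h : z ∈ x.support
    · exact Or.inl (hy z h)
    · exact Or.inr (notMem_support.mp h)
  exact hd.commute.eq

theorem fixer_conj {x h y : Perm (Fin n)} (hh : h ∈ Subgroup.centralizer ({x} : Set (Perm (Fin n))))
    (hy : y ∈ fixer x) : h * y * h⁻¹ ∈ fixer x := by
  intro z hz
  have hc : Commute h x := Subgroup.mem_centralizer_singleton_iff.mp hh
  have hz' : h⁻¹ z ∈ x.support := by
    rw [mem_support] at hz ⊢
    intro e
    apply hz
    have := congrFun (congrArg DFunLike.coe hc.inv_left.eq) z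
    rw [Perm.mul_apply, Perm.mul_apply, e] at this
    exact h⁻¹.injective this
  rw [Perm.mul_apply, Perm.mul_apply, hy _ hz']
  simp

/-- An element of order prime to `p` commuting with the cycles of `x` fixes their points. -/
theorem fix_of_commute_prime {w : ℕ} {x : Perm (Fin n)} (hx : x.cycleType = Multiset.replicate w p)
    {g : Perm (Fin n)} (hg : g ∈ Subgroup.centralizer (cycleGroup x : Set (Perm (Fin n))))
    (hreg : ¬ p ∣ orderOf g) : g ∈ fixer x := by
  have hp : p.Prime := Fact.out
  intro z hz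
  have hc := cycleOf_mem_cycleFactorsFinset_iff.mpr hz
  set c := x.cycleOf z with hcdef
  have hcy := (mem_cycleFactorsFinset_iff.mp hc).1
  have hord : orderOf c = p := orderOf_cycle hx ⟨c, hc⟩
  have hcm : c ∈ cycleGroup x := by
    rw [cycleGroup_eq]
    exact Subgroup.mem_iSup_of_mem (⟨c, hc⟩ : x.cycleFactorsFinset) (Subgroup.mem_zpowers _)
  have hcomm : Commute c g := Subgroup.mem_centralizer_iff.mp hg c hcm
  have hzc : z ∈ c.support := by
    rw [hcdef, mem_support_cycleOf_iff]; exact ⟨SameCycle.refl _ _, hz⟩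
  have hgz : g z ∈ c.support := by
    rw [mem_support]
    intro e
    apply mem_support.mp hzc
    have := congrFun (congrArg DFunLike.coe hcomm.eq) z
    rw [Perm.mul_apply, Perm.mul_apply, e] at this
    exact g.injective this.symm
  obtain ⟨k, hk⟩ := hcy.sameCycle (mem_support.mp hzc) (mem_support.mp hgz)
  have key : ∀ j : ℕ, (g ^ j) z = (c ^ (k * j)) z := by
    intro j
    induction j with
    | zero => simp
    | succ j ih =>
      have hcj : Commute (c ^ (k * (j : ℤ))) g := hcomm.zpow_left _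
      have := congrFun (congrArg DFunLike.coe hcj.eq) z
      rw [Perm.mul_apply, Perm.mul_apply] at this
      rw [pow_succ', Perm.mul_apply, ih, ← this, ← hk, ← Perm.mul_apply, ← zpow_add]
      congr 2
      push_cast
      ring
  have h1 := key (orderOf g)
  rw [pow_orderOf_eq_one, Perm.one_apply] at h1
  have h2 : c ^ (k * (orderOf g : ℤ)) = 1 := by
    refine Perm.ext fun u => ?_
    rw [Perm.one_apply]
    by_cases hu : u ∈ c.support
    · obtain ⟨i, rfl⟩ := hcy.sameCycle (mem_support.mp hzc) (mem_support.mp hu)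
      rw [← Perm.mul_apply, ← zpow_add, add_comm, zpow_add, Perm.mul_apply, ← h1]
    · exact zpow_apply_eq_self_of_apply_eq_self (notMem_support.mp hu) _
  have hdvd : (p : ℤ) ∣ k * (orderOf g : ℤ) := by
    rw [← hord]; exact orderOf_dvd_iff_zpow_eq_one.mpr h2
  have hp' : Prime (p : ℤ) := Nat.prime_iff_prime_int.mp hp
  rcases hp'.dvd_or_dvd hdvd with h | h
  · rw [← hk, orderOf_dvd_iff_zpow_eq_one.mp (hord ▸ h), Perm.one_apply]
  · exact absurd (Int.natCast_dvd_natCast.mp h) hreg

theorem core_resid_trivial {a : Fin N → ℕ} (hp : 0 < p) (ha : Function.Injective a) :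
    resid p (core p a) = resid p a ∧ weight p (core p a) = 0 := by
  have hr : resid p (core p a) = resid p a := Multiset.map_congr rfl fun i _ => by
    rw [core, Nat.add_mul_mod_self_left, Nat.mod_mod]
  refine ⟨hr, ?_⟩
  have hinj := core_injective hp ha
  obtain ⟨π, hπ⟩ := core_congr hp ha hinj hr.symm
  have h1 := sum_eq_core_add hp hinj
  rw [hπ] at h1
  have h2 : ∑ i, (core p a ∘ π) i = ∑ i, core p a i := Equiv.sum_comp π (core p a)
  rw [h2] at h1
  exact (Nat.mul_eq_zero.mp (show p * weight p (core p a) = 0 by omega)).resolve_left (by omega)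

/-- A vector of weight zero vanishes at cycle lengths with a multiple of `p`. -/
theorem frob_eq_zero_of_weight_zero {a : Fin N → ℕ} (hp : 0 < p) (ha : Function.Injective a)
    (hw : weight p a = 0) {L : Multiset ℕ} {m : ℕ} (hm : m ∈ L) (hpm : p ∣ m) (hm0 : 0 < m) :
    frob L a = 0 := by
  obtain ⟨L, rfl⟩ := Multiset.exists_cons_of_mem hm
  rw [frob_cons]
  refine Finset.sum_eq_zero fun i _ => ?_
  split_ifs with hi
  · refine (frob_alternating L).eq_zero_of_not_injective fun hinj => ?_
    have hr : resid p (lower a i m) = resid p a := by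
      have e := resid_raise (p := p) (lower a i m) (i := i) hpm
      rwa [raise_lower_self a hi, eq_comm] at e
    obtain ⟨π, hπ⟩ := core_congr hp ha hinj hr.symm
    have h1 := sum_eq_core_add hp hinj
    have h2 := sum_eq_core_add hp ha
    have h3 := sum_lower a hi
    have h4 : ∑ j, (core p a ∘ π) j = ∑ j, core p a j := Equiv.sum_comp π (core p a)
    rw [hπ, h4] at h1
    rw [hw, Nat.mul_zero] at h2
    omega
  · rfl

/-- The character of the core on the fixed points. -/
theorem exists_core_character {w : ℕ} {x : Perm (Fin n)}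
    (hx : x.cycleType = Multiset.replicate w p) {c : Fin N → ℕ}
    (hc : ∑ i, c i = (n - p * w) + N.choose 2) (hinj : Function.Injective c)
    (htriv : weight p c = 0) [Fintype ((fixer x).subgroupOf (Subgroup.centralizer {x}))] :
    let g : (fixer x).subgroupOf (Subgroup.centralizer {x}) → ℂ := fun y =>
      (frob ((((y : Subgroup.centralizer ({x} : Set (Perm (Fin n)))) : Perm (Fin n)).cycleType +
        Multiset.replicate (n - p * w -
          ((y : Subgroup.centralizer ({x} : Set (Perm (Fin n)))) : Perm (Fin n)).cycleType.sum) 1)) c : ℂ)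
    ∃ γ : IrrCharacter ((fixer x).subgroupOf (Subgroup.centralizer {x})),
      (∑ y, if p ∣ orderOf y then 0 else g y * conj
        ((γ : (fixer x).subgroupOf (Subgroup.centralizer {x}) → ℂ) y)) ≠ 0 ∧
      ∀ y, p ∣ orderOf y → (γ : (fixer x).subgroupOf (Subgroup.centralizer {x}) → ℂ) y = 0 := by
  classical
  intro g
  set m := n - p * w with hm
  have hcard : (x.supportᶜ).card = m := by
    rw [Finset.card_compl, ← sum_cycleType, hx, Fintype.card_fin, Multiset.sum_replicate,
      smul_eq_mul, mul_comm w p]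
  let ι : Fin m ↪ Fin n := ((x.supportᶜ).orderEmbOfFin hcard).toEmbedding
  have hrange : ∀ u, u ∈ Set.range ι ↔ u ∉ x.support := fun u => by
    have h := Finset.range_orderEmbOfFin (x.supportᶜ) hcard
    show u ∈ Set.range ((x.supportᶜ).orderEmbOfFin hcard) ↔ _
    rw [h, Finset.mem_coe, Finset.mem_compl]
  have hfix : ∀ σ : Perm (Fin m), viaEmbeddingHom ι σ ∈ fixer x := fun σ z hz => by
    rw [viaEmbeddingHom_apply]
    exact viaEmbedding_apply_of_notMem _ _ _ fun h => (hrange z).mp h hz
  let e : Perm (Fin m) →* (fixer x).subgroupOf (Subgroup.centralizer {x}) :=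
    { toFun := fun σ => ⟨⟨viaEmbeddingHom ι σ, fixer_le_centralizer x (hfix σ)⟩, hfix σ⟩
      map_one' := Subtype.ext (Subtype.ext (map_one _))
      map_mul' := fun σ τ => Subtype.ext (Subtype.ext (map_mul _ σ τ)) }
  have hsurj : Function.Surjective e := by
    rintro ⟨⟨y, hy⟩, hyf⟩
    have hstab : ∀ u, u ∈ Set.range ι → y u ∈ Set.range ι := fun u hu => by
      rw [hrange] at hu ⊢
      intro h
      exact hu (y.injective (hyf (y u) h) ▸ h)
    choose f hf using fun i => hstab (ι i) ⟨i, rfl⟩
    have hfinj : Function.Injective f := fun i j h =>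
      ι.injective (y.injective (by rw [← hf i, ← hf j, h]))
    refine ⟨Equiv.ofBijective f hfinj.bijective_of_finite, Subtype.ext (Subtype.ext (Equiv.ext fun u => ?_))⟩
    show viaEmbeddingHom ι _ u = y u
    rw [viaEmbeddingHom_apply]
    by_cases hu : u ∈ Set.range ι
    · obtain ⟨i, rfl⟩ := hu
      rw [viaEmbedding_apply, Equiv.ofBijective_apply, hf]
    · rw [viaEmbedding_apply_of_notMem _ _ _ hu]
      exact (hyf u (not_not.mp fun h => hu ((hrange u).mpr h))).symm
  have hinje : Function.Injective e := fun σ τ h =>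
    viaEmbeddingHom_injective ι (congrArg (fun y : (fixer x).subgroupOf (Subgroup.centralizer {x}) =>
      ((y : Subgroup.centralizer ({x} : Set (Perm (Fin n)))) : Perm (Fin n))) h)
  let E := MulEquiv.ofBijective e ⟨hinje, hsurj⟩
  have hg : ∀ σ, g (E σ) = chi (n := m) c σ := fun σ => by
    have hct : (viaEmbeddingHom ι σ).cycleType = σ.cycleType := by
      rw [viaEmbeddingHom_apply]
      letI : DecidablePred fun u => u ∈ Set.range ι.toFun := fun u => Classical.propDecidable _
      exact @Equiv.Perm.cycleType_extendDomain (Fin m) _ _ (Fin n) _ _ _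
        (fun u => Classical.propDecidable _) (Equiv.ofInjective ι.1 ι.2) σ
    show ((frob ((viaEmbeddingHom ι σ).cycleType + Multiset.replicate
      (m - (viaEmbeddingHom ι σ).cycleType.sum) 1) c : ℤ) : ℂ) = _
    rw [hct, chi, Equiv.Perm.parts_partition, ← sum_cycleType, Fintype.card_fin]
  obtain ⟨ψ, δ, hδ, he⟩ := exists_irr_chi (n := m) hc hinj
  have hirr : Cfsg.IsIrrCharacter _ (fun y => (ψ : Perm (Fin m) → ℂ) (E.symm y)) :=
    Characters.isIrr_comp E.symm.toMonoidHom E.symm.surjective ψ.2
  refine ⟨⟨_, hirr⟩, ?_, ?_⟩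
  · have hgy : ∀ y, g y = δ * (ψ : Perm (Fin m) → ℂ) (E.symm y) := fun y => by
      conv_lhs => rw [← E.apply_symm_apply y]
      rw [hg, he, Pi.smul_apply, smul_eq_mul]
    have hvan : ∀ y, p ∣ orderOf y → (ψ : Perm (Fin m) → ℂ) (E.symm y) = 0 := by
      intro y hy
      have hord : p ∣ orderOf (E.symm y) := by rwa [MulEquiv.orderOf_eq]
      obtain ⟨k, hk, hpk⟩ := exists_dvd_mem_parts (Fact.out : p.Prime) hord
      have h0 : chi (n := m) c (E.symm y) = 0 := by
        rw [chi, frob_eq_zero_of_weight_zero (Fact.out : p.Prime).pos hinj htriv hk hpk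
          ((E.symm y).partition.parts_pos hk), Int.cast_zero]
      rw [he, Pi.smul_apply, smul_eq_mul] at h0
      exact (mul_eq_zero.mp h0).resolve_left (by rcases hδ with rfl | rfl <;> norm_num)
    have hsum : (∑ y, if p ∣ orderOf y then (0 : ℂ) else g y * conj ((ψ : Perm (Fin m) → ℂ) (E.symm y))) =
        δ * ∑ y, (ψ : Perm (Fin m) → ℂ) (E.symm y) * conj ((ψ : Perm (Fin m) → ℂ) (E.symm y)) := by
      rw [Finset.mul_sum]
      refine Finset.sum_congr rfl fun y _ => ?_
      split_ifs with hy
      · rw [hvan y hy]; simp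
      · rw [hgy, mul_assoc]
    show (∑ y, if p ∣ orderOf y then (0 : ℂ) else g y * conj ((ψ : Perm (Fin m) → ℂ) (E.symm y))) ≠ 0
    rw [hsum]
    refine mul_ne_zero (by rcases hδ with rfl | rfl <;> norm_num) ?_
    rw [Fintype.sum_equiv E.symm.toEquiv
      (fun y => (ψ : Perm (Fin m) → ℂ) (E.symm y) * conj ((ψ : Perm (Fin m) → ℂ) (E.symm y)))
      (fun σ => (ψ : Perm (Fin m) → ℂ) σ * conj ((ψ : Perm (Fin m) → ℂ) σ)) fun y => rfl]
    have h1 := Characters.classInner_irr ψ ψ
    rw [if_pos rfl, classInner] at h1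
    intro h0
    rw [h0, mul_zero] at h1
    exact zero_ne_one h1
  · intro y hy
    have hord : p ∣ orderOf (E.symm y) := by rwa [MulEquiv.orderOf_eq]
    obtain ⟨k, hk, hpk⟩ := exists_dvd_mem_parts (Fact.out : p.Prime) hord
    have h0 : chi (n := m) c (E.symm y) = 0 := by
      rw [chi, frob_eq_zero_of_weight_zero (Fact.out : p.Prime).pos hinj htriv hk hpk
        ((E.symm y).partition.parts_pos hk), Int.cast_zero]
    rw [he, Pi.smul_apply, smul_eq_mul] at h0
    exact (mul_eq_zero.mp h0).resolve_left (by rcases hδ with rfl | rfl <;> norm_num)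

variable {M : Ideal Cfsg.AlgInt} [M.IsPrime]

theorem coeff_idemBar_singular (hM : Cfsg.IsPModular p M)
    {B : Set (IrrCharacter (Perm (Fin n)))} (hB : Cfsg.IsPBlock M B) {u : Perm (Fin n)}
    (hu : p ∣ orderOf u) :
    (Blocks.idemBar M B (Blocks.isBlockUnion_of_isPBlock hB) :
      MonoidAlgebra (Blocks.Res M) (Perm (Fin n))).coeff u = 0 := by
  rw [Blocks.coeff_idemBar]
  refine Blocks.red_eq_zero_iff.2 ?_
  show Cfsg.MemLocalIdeal M (Cfsg.blockCoeff B u)
  rw [Blocks.blockCoeff_eq_zero_of_singular hM (Blocks.isBlockUnion_of_isPBlock hB) hu]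
  exact Blocks.memLocalIdeal_zero

/-- A central element with regular support may be cut down to the fixed points. -/
theorem exists_truncation (hM : Cfsg.IsPModular p M) {w : ℕ} {x : Perm (Fin n)}
    (hx : x.cycleType = Multiset.replicate w p)
    [Fintype (Subgroup.centralizer ({x} : Set (Perm (Fin n))))]
    (a : Blocks.Ctr (Blocks.Res M) (Perm (Fin n)))
    (ha : ∀ u, p ∣ orderOf u → (a : MonoidAlgebra (Blocks.Res M) (Perm (Fin n))).coeff u = 0) :
    ∃ z : Blocks.Ctr (Blocks.Res M) (Subgroup.centralizer ({x} : Set (Perm (Fin n)))),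
      (∀ h, h ∉ (fixer x).subgroupOf (Subgroup.centralizer {x}) →
        (z : MonoidAlgebra (Blocks.Res M) (Subgroup.centralizer ({x} : Set (Perm (Fin n))))).coeff h = 0) ∧
      ∀ ξ, Blocks.omegaBar M ξ (Blocks.resCtr (Subgroup.centralizer {x}) a) = Blocks.omegaBar M ξ z := by
  classical
  set r := Blocks.resCtr (Subgroup.centralizer ({x} : Set (Perm (Fin n)))) a with hr
  let f : Subgroup.centralizer ({x} : Set (Perm (Fin n))) → Blocks.Res M := fun h =>
    if (h : Perm (Fin n)) ∈ fixer x then
      (r : MonoidAlgebra (Blocks.Res M) _).coeff h else 0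
  have hf : Blocks.ofFun f ∈ Blocks.Ctr (Blocks.Res M) (Subgroup.centralizer ({x} : Set (Perm (Fin n)))) := by
    refine Blocks.mem_ctr_iff.2 fun h g => ?_
    simp only [Blocks.coeff_ofFun, f]
    have hiff : ((g * h * g⁻¹ : Subgroup.centralizer ({x} : Set (Perm (Fin n)))) : Perm (Fin n)) ∈ fixer x ↔
        (h : Perm (Fin n)) ∈ fixer x := by
      refine ⟨fun hh => ?_, fun hh => fixer_conj g.2 hh⟩
      have := fixer_conj (g⁻¹).2 hh
      simpa [mul_assoc] using this
    rw [Blocks.coeff_conj_of_mem_ctr r.2]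
    exact if_congr hiff rfl rfl
  refine ⟨⟨_, hf⟩, fun h hh => ?_, fun ξ => ?_⟩
  · simp only [Blocks.coeff_ofFun, f]
    exact if_neg hh
  have hQp : IsPGroup p (cycleGroup x) := IsPGroup.of_card (card_cycleGroup hx)
  haveI : (Subgroup.comap (Subgroup.centralizer ({x} : Set (Perm (Fin n)))).subtype
      (cycleGroup x)).Normal :=
    ⟨fun q hq h => by
      rw [Subgroup.mem_comap] at hq ⊢
      exact cycleGroup_conj h.2 hq⟩
  rw [← sub_eq_zero, ← map_sub]
  refine Blocks.omegaBar_eq_zero_of_coeff_centralizer hM _ hQp.comap_subtype ξ fun g hg => ?_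
  have hgc : (g : Perm (Fin n)) ∈ Subgroup.centralizer (cycleGroup x : Set (Perm (Fin n))) :=
    Subgroup.mem_centralizer_iff.2 fun u hu => congrArg Subtype.val
      (Subgroup.mem_centralizer_iff.1 hg ⟨u, cycleGroup_le x hu⟩ hu)
  simp only [AddSubgroupClass.coe_sub, MonoidAlgebra.coeff_sub, Finsupp.coe_sub, Pi.sub_apply,
    Blocks.coeff_ofFun, f]
  by_cases hmem : (g : Perm (Fin n)) ∈ fixer x
  · rw [if_pos hmem, sub_self]
  · rw [if_neg hmem, sub_zero, hr, Blocks.coeff_resCtr]
    refine ha _ ?_
    by_contra hreg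
    exact hmem (fix_of_commute_prime hx hgc hreg)

/-- **Nakayama's conjecture, the other direction.** -/
theorem blockOf_eq_of_resid (hM : Cfsg.IsPModular p M) {a b : Fin N → ℕ}
    (ha : ∑ i, a i = n + N.choose 2) (hainj : Function.Injective a)
    (hb : ∑ i, b i = n + N.choose 2) (hbinj : Function.Injective b) (hr : resid p a = resid p b)
    {χ χ' : IrrCharacter (Perm (Fin n))} {ε ε' : ℂ} (hε : ε = 1 ∨ ε = -1)
    (hε' : ε' = 1 ∨ ε' = -1) (he : chi (n := n) a = ε • (χ : Perm (Fin n) → ℂ))
    (he' : chi (n := n) b = ε' • (χ' : Perm (Fin n) → ℂ)) :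
    Cfsg.blockOf M (χ : Perm (Fin n) → ℂ) = Cfsg.blockOf M (χ' : Perm (Fin n) → ℂ) := by
  classical
  have hp : p.Prime := Fact.out
  set w := weight p a with hw
  have hwb : weight p b = w :=
    weight_congr hp.pos hbinj hainj hr.symm (hb.trans ha.symm)
  obtain ⟨x, hx⟩ := exists_cycleType (p := p) ha hainj
  have hpw : p * w ≤ n := weight_mul_le hp.pos hainj ha
  haveI : Fintype (Subgroup.centralizer ({x} : Set (Perm (Fin n)))) := Fintype.ofFinite _
  set H := Subgroup.centralizer ({x} : Set (Perm (Fin n))) with hH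
  set Y : Subgroup H := (fixer x).subgroupOf H with hY
  haveI hYn : Y.Normal := ⟨fun q hq h => fixer_conj h.2 hq⟩
  haveI : Fintype Y := Fintype.ofFinite _
  set Q := cycleGroup x with hQ
  have hQH : Q ≤ H := cycleGroup_le x
  haveI : (Q.subgroupOf H).Normal := ⟨fun q hq h => by
    rw [Subgroup.mem_subgroupOf] at hq ⊢
    exact cycleGroup_conj h.2 hq⟩
  have hQp : IsPGroup p Q := IsPGroup.of_card (card_cycleGroup hx)
  have hord := orderOf_eq_pow hx
  -- multiples of one function on the fixer
  set γ : Y → ℂ := fun y => ((frob ((y : H) : Perm (Fin n)).partition.parts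
    (fun i => a i) : ℤ) : ℂ) with hγ0
  have hxy : ∀ y : Y, (x * ((y : H) : Perm (Fin n))).cycleType =
      Multiset.replicate w p + ((y : H) : Perm (Fin n)).cycleType := fun y => by
    have hd : Perm.Disjoint x ((y : H) : Perm (Fin n)) := fun z => by
      by_cases h : z ∈ x.support
      · exact Or.inr (y.2 z h)
      · exact Or.inl (notMem_support.mp h)
    rw [hd.cycleType_mul, hx]
  have hsupp : ∀ y : Y, ((y : H) : Perm (Fin n)).cycleType.sum + p * w ≤ n := fun y => by
    have h := (x * ((y : H) : Perm (Fin n))).sum_cycleType_le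
    rw [hxy, Multiset.sum_add, Multiset.sum_replicate, Fintype.card_fin, smul_eq_mul, mul_comm w] at h
    omega
  let L : Y → Multiset ℕ := fun y => ((y : H) : Perm (Fin n)).cycleType +
    Multiset.replicate (n - p * w - ((y : H) : Perm (Fin n)).cycleType.sum) 1
  let g : Y → ℂ := fun y => (frob (L y) (core p a) : ℂ)
  have hval : ∀ {c : Fin N → ℕ}, (∑ i, c i = n + N.choose 2) → Function.Injective c →
      resid p c = resid p a → weight p c = w → ∀ {ψ : IrrCharacter (Perm (Fin n))} {δ : ℂ},
      (δ = 1 ∨ δ = -1) → chi (n := n) c = δ • (ψ : Perm (Fin n) → ℂ) →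
      ∃ K : ℂ, K ≠ 0 ∧ ∀ y : Y, (ψ : Perm (Fin n) → ℂ) (x * ((y : H) : Perm (Fin n))) = K * g y := by
    intro c hcs hcinj hcr hcw ψ δ hδ heψ
    obtain ⟨π, hπ⟩ := core_congr hp.pos hainj hcinj hcr.symm
    have hK : ∀ y : Y, ∃ K : ℕ, 0 < K ∧
        frob (Multiset.replicate w p + L y) c = (K : ℤ) * frob (L y) (core p c) := fun y =>
      frob_replicate hp.pos w c (L y) hcinj hcw
    -- the multiplier does not depend on the element
    obtain ⟨K, hK0, hKy⟩ : ∃ K : ℕ, 0 < K ∧ ∀ L' : Multiset ℕ,
        frob (Multiset.replicate w p + L') c = (K : ℤ) * frob L' (core p c) :=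
      exists_multiplier hp.pos w c hcinj hcw
    refine ⟨δ * ((K : ℂ) * ((Perm.sign π : ℤ) : ℂ)), ?_, fun y => ?_⟩
    · exact mul_ne_zero (by rcases hδ with rfl | rfl <;> norm_num)
        (mul_ne_zero (Nat.cast_ne_zero.mpr (by omega)) (Int.cast_ne_zero.mpr (Units.ne_zero _)))
    · have hparts : (x * ((y : H) : Perm (Fin n))).partition.parts = Multiset.replicate w p + L y := by
        rw [Equiv.Perm.parts_partition, ← sum_cycleType, hxy, Fintype.card_fin, Multiset.sum_add,
          Multiset.sum_replicate, smul_eq_mul, mul_comm w p, add_assoc]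
        simp only [L]
        rw [Nat.sub_sub]
      have h1 := congrFun heψ (x * ((y : H) : Perm (Fin n)))
      rw [chi, hparts, hKy, Pi.smul_apply, smul_eq_mul, hπ, frob_comp] at h1
      have hδδ : δ * δ = 1 := by rcases hδ with rfl | rfl <;> norm_num
      simp only [g]
      push_cast at h1
      linear_combination (-δ) * h1 - (ψ : Perm (Fin n) → ℂ) (x * ((y : H) : Perm (Fin n))) * hδδ
  have hc : ∑ i, core p a i = (n - p * w) + N.choose 2 := by
    have := sum_eq_core_add hp.pos hainj
    rw [← hw] at this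
    omega
  have hg1 : g 1 ≠ 0 := by
    have hdeg := chi_one_ne_zero (n := n - p * w) hc (core_injective hp.pos hainj)
    rw [chi, parts_one] at hdeg
    simpa [g, L] using hdeg
  -- the blocks through the centralizer
  set B := Cfsg.blockOf M (χ : Perm (Fin n) → ℂ)
  set B' := Cfsg.blockOf M (χ' : Perm (Fin n) → ℂ)
  have hB : Cfsg.IsPBlock M B := Blocks.isPBlock_blockOf χ
  have hB' : Cfsg.IsPBlock M B' := Blocks.isPBlock_blockOf χ'
  obtain ⟨K, hK0, hK⟩ := hval ha hainj rfl rfl hε he
  obtain ⟨K', hK0', hK'⟩ := hval hb hbinj hr.symm hwb hε' he'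
  -- a member over the given constituent
  have hover : ∀ {B₀ : Set (IrrCharacter (Perm (Fin n)))} (hB₀ : Cfsg.IsPBlock M B₀)
      {ψ : IrrCharacter (Perm (Fin n))}, ψ ∈ B₀ → ∀ {K₀ : ℂ}, K₀ ≠ 0 →
      (∀ y : Y, (ψ : Perm (Fin n) → ℂ) (x * ((y : H) : Perm (Fin n))) = K₀ * g y) →
      ∀ γ' : IrrCharacter Y,
        ∑ y : Y, (if p ∣ orderOf y then 0 else g y * conj ((γ' : Y → ℂ) y)) ≠ 0 →
        (∀ y : Y, p ∣ orderOf y → (γ' : Y → ℂ) y = 0) →
        ∃ ξ ∈ Blocks.overSet M H B₀ (Blocks.isBlockUnion_of_isPBlock hB₀),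
          classInner (fun y : Y => (ξ : H → ℂ) y) (γ' : Y → ℂ) ≠ 0 := by
    intro B₀ hB₀ ψ hψ K₀ hK₀ hψv γ' hsum hvan
    by_contra hno
    push Not at hno
    set S := Blocks.overSet M H B₀ (Blocks.isBlockUnion_of_isPBlock hB₀)
    set F := Cfsg.blockPart S (fun c : H => (ψ : Perm (Fin n) → ℂ) (x * (c : Perm (Fin n))))
    have hzero : classInner (fun y : Y => F (y : H)) (γ' : Y → ℂ) = 0 := by
      have e : (fun y : Y => F (y : H)) = ∑ ξ : IrrCharacter H, if ξ ∈ S then
          classInner (fun c : H => (ψ : Perm (Fin n) → ℂ) (x * (c : Perm (Fin n)))) (ξ : H → ℂ) •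
            (fun y : Y => (ξ : H → ℂ) y) else 0 := by
        funext y
        simp only [F, Cfsg.blockPart, Finset.sum_apply]
        rw [Blocks.finsum_irr_mem]
        refine Finset.sum_congr rfl fun ξ _ => ?_
        split_ifs
        · simp only [Pi.smul_apply, smul_eq_mul, classInner]
          congr!
        · rfl
      rw [e, Characters.classInner_sum_left]
      refine Finset.sum_eq_zero fun ξ _ => ?_
      split_ifs with h
      · rw [Characters.classInner_smul_left, hno ξ h, mul_zero]
      · simp [classInner]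
    have e2 : classInner (fun y : Y => F (y : H)) (γ' : Y → ℂ) = (Nat.card Y : ℂ)⁻¹ *
        (K₀ * ∑ y : Y, (if p ∣ orderOf y then 0 else g y * conj ((γ' : Y → ℂ) y))) := by
      rw [classInner, Finset.mul_sum (a := K₀)]
      congr 1
      refine Finset.sum_congr rfl fun y _ => ?_
      by_cases hy : p ∣ orderOf y
      · rw [if_pos hy, hvan y hy, map_zero, mul_zero, mul_zero]
      · rw [if_neg hy]
        show F (y : H) * _ = _
        rw [show F (y : H) = (ψ : Perm (Fin n) → ℂ) (x * ((y : H) : Perm (Fin n))) by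
          simp only [F]
          rw [Blocks.blockPart_overSet hM hord hB₀ ψ (y := (y : H))
            (by rwa [Subgroup.orderOf_coe]), if_pos hψ], hψv, mul_assoc]
    rw [hzero] at e2
    exact mul_ne_zero (inv_ne_zero (Nat.cast_ne_zero.mpr Nat.card_pos.ne'))
      (mul_ne_zero hK₀ hsum) e2.symm
  obtain ⟨γ', hγsum, hγvan⟩ : ∃ γ' : IrrCharacter Y,
      (∑ y : Y, (if p ∣ orderOf y then 0 else g y * conj ((γ' : Y → ℂ) y))) ≠ 0 ∧
      ∀ y : Y, p ∣ orderOf y → (γ' : Y → ℂ) y = 0 :=
    exists_core_character hx hc (core_injective hp.pos hainj)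
      (core_resid_trivial hp.pos hainj).2
  obtain ⟨ξ, hξ, hξγ⟩ := hover hB (Blocks.mem_blockOf_self χ) hK0 hK γ' hγsum hγvan
  obtain ⟨ξ', hξ', hξγ'⟩ := hover hB' (Blocks.mem_blockOf_self χ') hK0' hK' γ' hγsum hγvan
  -- both see the idempotent of `B` alike
  obtain ⟨z, hzY, hzeq⟩ := exists_truncation hM hx
    (Blocks.idemBar M B (Blocks.isBlockUnion_of_isPBlock hB))
    (fun u hu => coeff_idemBar_singular hM hB hu)
  have h1 := hzeq ξ
  have h2 := hzeq ξ'
  rw [BlocksLocal.omegaBar_eq_of_covers Y hξγ z hzY] at h1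
  rw [BlocksLocal.omegaBar_eq_of_covers Y hξγ' z hzY] at h2
  have hi := Blocks.isInducedBlock_of_mem_overSet hM hord hB hξ
  have hi' := Blocks.isInducedBlock_of_mem_overSet hM hord hB' hξ'
  have e1 := (Blocks.isInducedBlock_iff H hi.1 hB (Blocks.mem_blockOf_self ξ)
    (Blocks.mem_blockOf_self χ)).1 hi (Blocks.idemBar M B (Blocks.isBlockUnion_of_isPBlock hB))
  have e2 := (Blocks.isInducedBlock_iff H hi'.1 hB' (Blocks.mem_blockOf_self ξ')
    (Blocks.mem_blockOf_self χ')).1 hi' (Blocks.idemBar M B (Blocks.isBlockUnion_of_isPBlock hB))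
  rw [Blocks.omegaBar_idemBar, if_pos (Blocks.mem_blockOf_self χ), h1] at e1
  rw [h2, e1, Blocks.omegaBar_idemBar] at e2
  by_contra hne
  rw [if_neg] at e2
  · exact one_ne_zero e2
  · exact fun hmem => hne (Blocks.blockOf_eq_of_mem hmem).symm

end Local

end CfsgLib.SymBlocks
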