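import Cfsg.Agent.AltSylow.Abelian
import Cfsg.Agent.CharactersDeep.Clifford
import Cfsg.Agent.CharactersDeep.LinearChar
import Cfsg.Agent.CharactersDeep.PrimePowerDegrees
import Cfsg.Agent.Blocks.Height
import Mathlib.GroupTheory.Perm.Centralizer
import Mathlib.GroupTheory.FiniteAbelian.Duality
import Mathlib.GroupTheory.IndexNormal
import Mathlib.Analysis.Complex.Polynomial.Basic

/-!
Nonabelian Sylow subgroups of symmetric and alternating groups have characters of degree `p`.
-/

set_option autoImplicit false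
set_option linter.unusedSectionVars false
set_option linter.style.haveILetI false

namespace CfsgLib.SymBlocks

open Equiv Equiv.Perm
open Cfsg (IrrCharacter)
open scoped Nat

variable {p : ℕ}

/-- An irreducible character of degree `p`. -/
def HasDegree (G : Type*) [Group G] (p : ℕ) : Prop :=
  ∃ ξ : IrrCharacter G, Cfsg.charDegree (ξ : G → ℂ) = p

theorem HasDegree.comp {G H : Type*} [Group G] [Group H] (f : G →* H)
    (hf : Function.Surjective f) (h : HasDegree H p) : HasDegree G p := by
  obtain ⟨ξ, hξ⟩ := h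
  refine ⟨⟨_, Characters.isIrr_comp f hf ξ.2⟩, ?_⟩
  rw [← hξ]
  show Cfsg.charDegree (fun g => (ξ : H → ℂ) (f g)) = _
  simp [Cfsg.charDegree]

/-- A linear character of a subgroup of index `p` that is not invariant. -/
theorem hasDegree_of_linear {G : Type*} [Group G] [Finite G] (hp : p.Prime) (K : Subgroup G)
    [K.Normal] (hidx : K.index = p) (f : K →* ℂˣ) {g : G} {k : K}
    (hne : f ⟨g * k * g⁻¹, (inferInstance : K.Normal).conj_mem k k.2 g⟩ ≠ f k) :
    HasDegree G p := by
  classical
  haveI := Fintype.ofFinite G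
  haveI : Fintype K := Fintype.ofFinite _
  set θ : K → ℂ := fun x => (f x : ℂ) with hθdef
  have hθ : Cfsg.IsIrrCharacter K θ := CharactersDeep.LinearChar.isIrrCharacter_hom f
  let S : Subgroup G :=
    { carrier := {x | OddOrderChar.conjBy K θ x = θ}
      one_mem' := OddOrderChar.conjBy_one K θ
      mul_mem' := fun {a b} ha hb => by
        show OddOrderChar.conjBy K θ (a * b) = θ
        rw [← OddOrderChar.conjBy_mul, ha, hb]
      inv_mem' := fun {a} ha => by
        show OddOrderChar.conjBy K θ a⁻¹ = θ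
        conv_lhs => rw [← ha]
        rw [OddOrderChar.conjBy_mul, mul_inv_cancel, OddOrderChar.conjBy_one] }
  have hKS : K ≤ S := fun x hx => funext fun y => by
    show (f _ : ℂ) = (f y : ℂ)
    congr 1
    have e : (⟨x * y * x⁻¹, (inferInstance : K.Normal).conj_mem y y.2 x⟩ : K) =
        ⟨x, hx⟩ * y * (⟨x, hx⟩ : K)⁻¹ := Subtype.ext rfl
    exact (congrArg f e).trans (by rw [map_mul, map_mul, map_inv, mul_right_comm, mul_inv_cancel,
      one_mul])
  have hgS : g ∉ S := fun h => hne (Units.ext (congrFun h k))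
  have hSK : S ≤ K := by
    have h := Subgroup.relIndex_mul_index hKS
    rw [hidx] at h
    rcases (Nat.dvd_prime hp).mp (Dvd.intro _ h : K.relIndex S ∣ p) with h1 | h1
    · exact Subgroup.relIndex_eq_one.mp h1
    · exfalso
      rw [h1] at h
      have : S.index = 1 := Nat.eq_of_mul_eq_mul_left hp.pos (by rw [h, mul_one])
      exact hgS (Subgroup.index_eq_one.mp this ▸ Subgroup.mem_top g)
  obtain ⟨χ, hχ, hov⟩ := CharactersDeep.Clifford.exists_over K (G := G) hθ
  obtain ⟨ψ, e, he, hψ, hind, hres, -⟩ := CharactersDeep.Clifford.exists_induced_from_inertia K hθ K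
    (fun x => ⟨fun hx => hKS hx, fun hx => hSK hx⟩) le_rfl hχ hov
  have hψe : ψ = (e : ℂ) • θ := funext fun x => congrFun hres x
  have he1 : e = 1 := by
    have h1 := Characters.classInner_isIrr_self hψ
    rw [hψe, Characters.classInner_smul_left, Characters.classInner_smul_right,
      Characters.classInner_isIrr_self hθ, mul_one, Complex.conj_natCast, ← Nat.cast_mul,
      Nat.cast_eq_one] at h1
    exact Nat.eq_one_of_mul_eq_one_left h1
  refine ⟨⟨χ, hχ⟩, ?_⟩
  have h1 : χ 1 = (p : ℂ) := by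
    rw [← hind, Characters.indFun_one, hψe, he1, hidx]
    simp [hθdef]
  simp [Cfsg.charDegree, h1]

section Glue

variable {α : Type*} [Fintype α] [DecidableEq α]

/-- The permutations agreeing on each orbit with some element. -/
def glue (K : Subgroup (Perm α)) : Subgroup (Perm α) where
  carrier := {σ | ∀ x, ∃ k ∈ K, ∀ h ∈ K, σ (h x) = k (h x)}
  one_mem' _ := ⟨1, one_mem _, fun _ _ => rfl⟩
  mul_mem' := fun {σ τ} hσ hτ x => by
    obtain ⟨k, hk, e⟩ := hσ x
    obtain ⟨k', hk', e'⟩ := hτ x
    refine ⟨k * k', mul_mem hk hk', fun h hh => ?_⟩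
    show σ (τ (h x)) = k (k' (h x))
    rw [e' h hh]
    exact e (k' * h) (mul_mem hk' hh)
  inv_mem' := fun {σ} hσ x => by
    obtain ⟨k, hk, e⟩ := hσ x
    refine ⟨k⁻¹, inv_mem hk, fun h hh => ?_⟩
    rw [Perm.inv_eq_iff_eq]
    have := e (k⁻¹ * h) (mul_mem (inv_mem hk) hh)
    rw [Perm.mul_apply, ← Perm.mul_apply k k⁻¹, mul_inv_cancel, Perm.one_apply] at this
    exact this.symm

theorem isPGroup_glue {K : Subgroup (Perm α)} [Fact p.Prime] (hK : IsPGroup p K) :
    IsPGroup p (glue K) := by
  obtain ⟨m, hm⟩ := IsPGroup.iff_card.mp hK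
  intro σ
  refine ⟨m, Subtype.ext (Equiv.ext fun x => ?_)⟩
  obtain ⟨k, hk, e⟩ := σ.2 x
  have key : ∀ j : ℕ, ((σ : Perm α) ^ j) x = (k ^ j) x := by
    intro j
    induction j with
    | zero => rfl
    | succ j ih =>
      rw [pow_succ', pow_succ', Perm.mul_apply, Perm.mul_apply, ih, e _ (pow_mem hk j)]
  rw [SubgroupClass.coe_pow, key, OneMemClass.coe_one]
  have h1 : (⟨k, hk⟩ : K) ^ p ^ m = 1 := hm ▸ pow_card_eq_one'
  rw [show k ^ p ^ m = 1 from congrArg Subtype.val h1]

/-- A Sylow subgroup contains the glue of each of its normalized subgroups. -/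
theorem glue_le [Fact p.Prime] (P : Sylow p (Perm α)) {K : Subgroup (Perm α)}
    (hle : K ≤ (P : Subgroup (Perm α)))
    (hn : ∀ g ∈ (P : Subgroup (Perm α)), ∀ k ∈ K, g * k * g⁻¹ ∈ K) :
    glue K ≤ (P : Subgroup (Perm α)) := by
  have hconj : ∀ g ∈ (P : Subgroup (Perm α)), ∀ σ ∈ glue K, g * σ * g⁻¹ ∈ glue K := by
    intro g hg σ hσ x
    obtain ⟨k, hk, e⟩ := hσ (g⁻¹ x)
    refine ⟨g * k * g⁻¹, hn g hg k hk, fun h hh => ?_⟩
    have hh' : g⁻¹ * h * g ∈ K := by simpa using hn g⁻¹ (inv_mem hg) h hh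
    have := e _ hh'
    simp only [Perm.mul_apply] at this ⊢
    rw [show g (g⁻¹ x) = x from g.apply_symm_apply x] at this
    rw [this]
  have hN : (P : Subgroup (Perm α)) ≤ Subgroup.normalizer (glue K : Set (Perm α)) := by
    intro g hg
    rw [Subgroup.mem_normalizer_iff]
    refine fun σ => ⟨hconj g hg σ, fun h => ?_⟩
    have := hconj g⁻¹ (inv_mem hg) _ h
    simpa [mul_assoc] using this
  have hpg := IsPGroup.to_sup_of_normal_right' P.2 (isPGroup_glue (P.2.to_le hle)) hN
  exact le_sup_right.trans (P.is_maximal' hpg le_sup_left).le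

/-- The commutators of a `p`-group fix a point with an orbit of length at most `p`. -/
theorem mul_comm_apply {G : Type*} [Group G] [Finite G] [MulAction G α] [Fact p.Prime]
    (hG : IsPGroup p G) (a : α) (h : (MulAction.stabilizer G a).index ≤ p) (u v : G) :
    (u * v) • a = (v * u) • a := by
  have hp : p.Prime := Fact.out
  obtain ⟨i, hi⟩ := hG.index (MulAction.stabilizer G a)
  rcases i with _ | _ | i
  · rw [pow_zero, Subgroup.index_eq_one] at hi
    have hf : ∀ x : G, x • a = a := fun x => (hi ▸ Subgroup.mem_top x : x ∈ MulAction.stabilizer G a)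
    rw [hf, hf]
  · rw [zero_add, pow_one] at hi
    obtain ⟨j, hj⟩ := IsPGroup.iff_card.mp hG
    have hdvd : p ∣ Nat.card G := hi ▸ Subgroup.index_dvd_card _
    haveI : (MulAction.stabilizer G a).Normal := by
      refine Subgroup.normal_of_index_eq_minFac_card ?_
      rw [hi, hj]
      rcases j with _ | j
      · rw [hj, pow_zero, Nat.dvd_one] at hdvd; exact absurd hdvd hp.ne_one
      · rw [Nat.pow_minFac (Nat.succ_ne_zero j), hp.minFac_eq]
    haveI hcyc : IsCyclic (G ⧸ MulAction.stabilizer G a) := isCyclic_of_prime_card (p := p) (by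
      rw [← Subgroup.index_eq_card]; exact hi)
    haveI := IsCyclic.isMulCommutative (α := G ⧸ MulAction.stabilizer G a)
    have hmem : (v * u)⁻¹ * (u * v) ∈ MulAction.stabilizer G a := by
      rw [← QuotientGroup.eq, QuotientGroup.mk_mul, QuotientGroup.mk_mul]
      exact mul_comm' _ _
    conv_lhs => rw [show u * v = (v * u) * ((v * u)⁻¹ * (u * v)) by group, mul_smul, hmem]
  · exfalso
    have : p * 1 < p ^ (i + 1 + 1) := by
      rw [pow_succ']
      exact Nat.mul_lt_mul_of_pos_left (Nat.one_lt_pow (by omega) hp.one_lt) hp.pos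
    omega

/-- **A nonabelian Sylow subgroup of a symmetric group.** -/
theorem hasDegree_sylow [Fact p.Prime] (P : Sylow p (Perm α))
    {u v : Perm α} (hu : u ∈ (P : Subgroup (Perm α))) (hv : v ∈ (P : Subgroup (Perm α)))
    (hne : u * v ≠ v * u) : HasDegree (P : Subgroup (Perm α)) p := by
  classical
  have hp : p.Prime := Fact.out
  set G := ↥(P : Subgroup (Perm α))
  obtain ⟨a, ha⟩ : ∃ a : α, p < (MulAction.stabilizer G a).index := by
    by_contra hall
    push Not at hall
    exact hne (Equiv.ext fun a => mul_comm_apply P.2 a (hall a) (⟨u, hu⟩ : G) ⟨v, hv⟩)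
  obtain ⟨j, hj⟩ := IsPGroup.iff_card.mp P.2
  obtain ⟨s, hs⟩ := IsPGroup.iff_card.mp (P.2.to_subgroup (MulAction.stabilizer G a))
  have hmul := Subgroup.card_mul_index (MulAction.stabilizer G a)
  rw [hs] at hmul
  obtain ⟨i, hi⟩ := P.2.index (MulAction.stabilizer G a)
  rw [hi, hj, ← pow_add] at hmul
  have hsij : s + i = j := Nat.pow_right_injective hp.two_le hmul
  have hi2 : 2 ≤ i := by
    by_contra h
    have : p ^ i ≤ p ^ 1 := Nat.pow_le_pow_right hp.pos (by omega)
    rw [pow_one] at this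
    rw [hi] at ha
    omega
  obtain ⟨K, hKc, hKle⟩ := Sylow.exists_subgroup_card_pow_prime_le p (G := G) (m := j - 1)
    (by rw [hj]; exact pow_dvd_pow p (Nat.sub_le j 1)) (MulAction.stabilizer G a) hs (by omega)
  have hKidx : K.index = p := by
    have h := Subgroup.card_mul_index K
    rw [hKc, hj] at h
    refine Nat.eq_of_mul_eq_mul_left (Nat.pow_pos (n := j - 1) hp.pos) ?_
    rw [h, ← pow_succ]
    congr 1
    omega
  haveI hKn : K.Normal := by
    refine Subgroup.normal_of_index_eq_minFac_card ?_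
    rw [hKidx, hj, Nat.pow_minFac (by omega : j ≠ 0), hp.minFac_eq]
  -- the block of the point
  set B := MulAction.orbit K a with hB
  let act : K →* Perm B := MulAction.toPermHom K B
  obtain ⟨k0, hk0⟩ : ∃ k : K, (k : G) • a ≠ a := by
    by_contra hall
    push Not at hall
    have hle : K ≤ MulAction.stabilizer G a := fun x hx => hall ⟨x, hx⟩
    have := Nat.le_of_dvd Nat.card_pos (Subgroup.card_dvd_of_le hle)
    rw [hKc, hs, Nat.pow_le_pow_iff_right hp.one_lt] at this
    omega
  have hk0' : act k0 ≠ 1 := fun h => hk0 (congrArg Subtype.val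
    (Equiv.congr_fun h ⟨a, MulAction.mem_orbit_self a⟩))
  haveI : Nontrivial act.range :=
    ⟨⟨⟨act k0, k0, rfl⟩, 1, fun h => hk0' (congrArg Subtype.val h)⟩⟩
  have hW : IsPGroup p act.range :=
    (P.2.to_subgroup K).of_surjective act.rangeRestrict act.rangeRestrict_surjective
  haveI := hW.isNilpotent
  obtain ⟨q, hq⟩ : ∃ q : Abelianization act.range, q ≠ 1 := by
    by_contra hall
    push Not at hall
    refine (Group.IsSolvable.commutator_lt_top_of_nontrivial act.range).ne (eq_top_iff.mpr fun x _ => ?_)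
    rw [← Abelianization.ker_of act.range]
    exact hall (Abelianization.of x)
  obtain ⟨ξ, hξ⟩ := CommGroup.exists_apply_ne_one_of_hasEnoughRootsOfUnity (Abelianization act.range) ℂ hq
  let f : K →* ℂˣ := ξ.comp (Abelianization.of.comp act.rangeRestrict)
  obtain ⟨w, rfl⟩ : ∃ w, Abelianization.of w = q := QuotientGroup.mk'_surjective _ q
  obtain ⟨⟨k, hk⟩, hkw⟩ := act.rangeRestrict_surjective w
  -- its restriction to the block
  have hsub : ∀ x : α, ((k : Perm α) x ∈ B ↔ x ∈ B) := fun x => by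
    show ((⟨k, hk⟩ : K) • x) ∈ B ↔ _
    rw [hB, MulAction.mem_orbit_iff, MulAction.mem_orbit_iff]
    exact ⟨fun ⟨z, hz⟩ => ⟨(⟨k, hk⟩ : K)⁻¹ * z, by rw [mul_smul, hz, inv_smul_smul]⟩,
      fun ⟨z, hz⟩ => ⟨⟨k, hk⟩ * z, by rw [mul_smul, hz]⟩⟩
  set kB : Perm α := Equiv.Perm.ofSubtype (p := fun x => x ∈ B) ((k : Perm α).subtypePerm hsub)
  have hkBin : ∀ x ∈ B, kB x = (k : Perm α) x := fun x hx => by
    simp only [kB]
    rw [ofSubtype_apply_of_mem _ hx]
    rfl
  have hkBout : ∀ x ∉ B, kB x = x := fun x hx => by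
    simp only [kB]
    exact ofSubtype_apply_of_not_mem _ hx
  have hBinv : ∀ (h : K) (x : α), (h : G) • x ∈ B ↔ x ∈ B := fun h x => by
    show h • x ∈ B ↔ _
    rw [hB, MulAction.mem_orbit_iff, MulAction.mem_orbit_iff]
    exact ⟨fun ⟨z, hz⟩ => ⟨h⁻¹ * z, by rw [mul_smul, hz, inv_smul_smul]⟩,
      fun ⟨z, hz⟩ => ⟨h * z, by rw [mul_smul, hz]⟩⟩
  have hglue : kB ∈ glue (K.map (P : Subgroup (Perm α)).subtype) := by
    intro x
    by_cases hx : x ∈ B
    · exact ⟨_, ⟨k, hk, rfl⟩, fun h hh => by
        obtain ⟨h', hh', rfl⟩ := hh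
        exact hkBin _ ((hBinv ⟨h', hh'⟩ x).mpr hx)⟩
    · exact ⟨1, one_mem _, fun h hh => by
        obtain ⟨h', hh', rfl⟩ := hh
        exact hkBout _ fun hmem => hx ((hBinv ⟨h', hh'⟩ x).mp hmem)⟩
  have hkBP : kB ∈ (P : Subgroup (Perm α)) := by
    refine glue_le P (Subgroup.map_subtype_le K) (fun g hg y hy => ?_) hglue
    obtain ⟨y', hy', rfl⟩ := hy
    exact ⟨⟨g, hg⟩ * y' * (⟨g, hg⟩ : G)⁻¹, hKn.conj_mem y' hy' _, rfl⟩
  have hfix : ∀ x : G, x • a ∈ B → x ∈ K := fun x hx => by
    obtain ⟨h, hh⟩ := hx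
    have : (h : G)⁻¹ * x ∈ MulAction.stabilizer G a := by
      rw [MulAction.mem_stabilizer_iff, mul_smul, ← hh]
      exact inv_smul_smul (h : G) a
    have := mul_mem h.2 (hKle this)
    rwa [mul_inv_cancel_left] at this
  have hkBK : (⟨kB, hkBP⟩ : G) ∈ K := hfix _ (by
    show kB a ∈ B
    rw [hkBin a (MulAction.mem_orbit_self a)]
    exact ⟨⟨k, hk⟩, rfl⟩)
  obtain ⟨g, hg⟩ : ∃ g : G, g ∉ K := by
    by_contra hall
    push Not at hall
    rw [show K = ⊤ from eq_top_iff.mpr fun x _ => hall x, Subgroup.index_top] at hKidx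
    exact hp.ne_one hKidx.symm
  refine hasDegree_of_linear hp K hKidx f (g := g) (k := ⟨_, hkBK⟩) ?_
  have h1 : act ⟨_, hkBK⟩ = act ⟨k, hk⟩ := Equiv.ext fun ⟨x, hx⟩ => Subtype.ext (hkBin x hx)
  have h2 : act ⟨g * ⟨kB, hkBP⟩ * g⁻¹, hKn.conj_mem _ hkBK g⟩ = 1 := Equiv.ext fun ⟨x, hx⟩ =>
    Subtype.ext (by
      show (g : Perm α) (kB ((g : Perm α)⁻¹ x)) = x
      rw [hkBout, Perm.coe_inv, Equiv.apply_symm_apply]
      intro hmem
      obtain ⟨h, hh⟩ := hmem
      obtain ⟨h', hh'⟩ := hx
      refine hg ?_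
      have e : g • ((h : G) • a) = (h' : G) • a := by
        show (g : Perm α) (h • a) = h' • a
        simp only at hh hh'
        rw [hh, hh', Perm.coe_inv, Equiv.apply_symm_apply]
      have hmemB : (g * (h : G)) • a ∈ B := by
        rw [mul_smul, e]
        exact MulAction.mem_orbit a h'
      have := mul_mem (hfix _ hmemB) (inv_mem h.2)
      rwa [mul_inv_cancel_right] at this)
  intro he
  refine hξ ?_
  have e1 : act.rangeRestrict ⟨_, hkBK⟩ = w := (Subtype.ext h1).trans hkw
  have e2 : act.rangeRestrict ⟨g * ⟨kB, hkBP⟩ * g⁻¹, hKn.conj_mem _ hkBK g⟩ = 1 := Subtype.ext h2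
  simp only [f, MonoidHom.coe_comp, Function.comp_apply] at he
  rw [e1, e2, map_one, map_one] at he
  exact he.symm

end Glue

/-- Sylow subgroups of symmetric groups of degree at least `p ^ 2` have a character of degree `p`. -/
theorem hasDegree_sylow_perm [Fact p.Prime] {α : Type*} [Fintype α] [DecidableEq α]
    (h : p ^ 2 ≤ Fintype.card α) (P : Sylow p (Perm α)) :
    HasDegree (P : Subgroup (Perm α)) p := by
  obtain ⟨H, hH, a, ha, b, hb, hab⟩ : ∃ H : Subgroup (Perm (Fin (Fintype.card α))), IsPGroup p H ∧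
      ∃ a ∈ H, ∃ b ∈ H, a * b ≠ b * a := by
    by_cases h6 : 6 ≤ Fintype.card α
    · obtain ⟨a, b, hab, H, hH, ha, hb⟩ := AltSylow.exists_noncommuting (p := p) h6 h
      exact ⟨H.map (alternatingGroup _).subtype, hH.map _, a, ⟨a, ha, rfl⟩, b, ⟨b, hb, rfl⟩,
        fun e => hab (Subtype.ext e)⟩
    · obtain rfl : p = 2 := by
        have := (Fact.out : p.Prime).two_le
        by_contra hne
        have : 9 ≤ p ^ 2 := by
          have := Nat.pow_le_pow_left (show 3 ≤ p by omega) 2
          omega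
        omega
      let ι : Fin 4 ↪ Fin (Fintype.card α) := Fin.castLEEmb (by simpa using h)
      let x : Perm (Fin 4) := swap 0 1 * swap 2 3
      have hmem : ∀ y : Perm (Fin 4), y * x = x * y → y ∈ Subgroup.centralizer ({x} : Set (Perm (Fin 4))) :=
        fun y hy => Subgroup.mem_centralizer_singleton_iff.mpr hy
      refine ⟨(Subgroup.centralizer ({x} : Set (Perm (Fin 4)))).map (viaEmbeddingHom ι),
        (IsPGroup.of_card (n := 3) ?_).map _, _, ⟨swap 0 1, hmem _ (by decide +kernel), rfl⟩,
        _, ⟨swap 0 2 * swap 1 3, hmem _ (by decide +kernel), rfl⟩, ?_⟩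
      · rw [Equiv.Perm.nat_card_centralizer,
          show x.cycleType = {2, 2} by decide +kernel]
        decide
      · rw [← map_mul, ← map_mul]
        exact fun e => absurd (viaEmbeddingHom_injective ι e) (by decide +kernel)
  let E : Perm (Fin (Fintype.card α)) ≃* Perm α :=
    (Fintype.equivFin α).symm.permCongrHom
  obtain ⟨Q, hQ⟩ := (hH.map E.toMonoidHom).exists_le_sylow
  have hQdeg := hasDegree_sylow Q (u := E a) (v := E b) (hQ ⟨a, ha, rfl⟩) (hQ ⟨b, hb, rfl⟩)
    (by rw [← map_mul, ← map_mul]; exact E.injective.ne hab)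
  exact hQdeg.comp (Sylow.equiv P Q).toMonoidHom (Sylow.equiv P Q).surjective

theorem factorization_card_alt [Fact p.Prime] {m : ℕ} (hm : 2 ≤ m) :
    (Nat.card (alternatingGroup (Fin m))).factorization p + (if p = 2 then 1 else 0) =
      (m !).factorization p := by
  have hp : p.Prime := Fact.out
  haveI : Nontrivial (Fin m) := Fin.nontrivial_iff_two_le.mpr hm
  have h : 2 * Nat.card (alternatingGroup (Fin m)) = m ! := by
    rw [two_mul_nat_card_alternatingGroup, Nat.card_perm, Nat.card_fin]
  rw [← h, Nat.factorization_mul two_ne_zero Nat.card_pos.ne', Finsupp.add_apply, add_comm]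
  split_ifs with hp2
  · subst hp2
    rw [Nat.prime_two.factorization_self]
  · rw [Nat.factorization_eq_zero_of_not_dvd fun hd => hp2 ((Nat.prime_dvd_prime_iff_eq hp Nat.prime_two).mp hd)]

/-- For odd `p`. -/
theorem hasDegree_alt_odd [Fact p.Prime] (h2 : p ≠ 2) {m : ℕ} (h : p ^ 2 ≤ m)
    (T : Sylow p (alternatingGroup (Fin m))) :
    HasDegree (T : Subgroup (alternatingGroup (Fin m))) p := by
  have hm : 2 ≤ m := le_trans (le_trans (Fact.out : p.Prime).two_le (Nat.le_self_pow two_ne_zero p)) h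
  have hv := factorization_card_alt (p := p) hm
  rw [if_neg h2, add_zero] at hv
  set emb := (alternatingGroup (Fin m)).subtype
  have hcard : Nat.card ((T : Subgroup (alternatingGroup (Fin m))).map emb) =
      p ^ (Nat.card (Perm (Fin m))).factorization p := by
    rw [Subgroup.card_map_of_injective Subtype.val_injective, T.card_eq_multiplicity, Nat.card_perm,
      Nat.card_fin, hv]
  have hd : HasDegree ((T : Subgroup (alternatingGroup (Fin m))).map emb) p := by
    have := hasDegree_sylow_perm (by rwa [Fintype.card_fin]) (Sylow.ofCard _ hcard)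
    rwa [Sylow.coe_ofCard] at this
  let E := Subgroup.equivMapOfInjective (T : Subgroup (alternatingGroup (Fin m))) emb Subtype.val_injective
  exact hd.comp E.toMonoidHom E.surjective

theorem exists_fixedPointFree (w : ℕ) :
    ∃ x : Perm (Fin (2 * w)), x.cycleType = Multiset.replicate w 2 := by
  refine (exists_with_cycleType_iff (Fin (2 * w))).mpr ⟨?_, fun a ha => ?_⟩
  · rw [Multiset.sum_replicate, Fintype.card_fin, smul_eq_mul, mul_comm]
  · rw [Multiset.eq_of_mem_replicate ha]

/-- For `p = 2`: the action on the pairs. -/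
theorem hasDegree_alt_two {w : ℕ} (hw : 4 ≤ w) (T : Sylow 2 (alternatingGroup (Fin (2 * w)))) :
    HasDegree (T : Subgroup (alternatingGroup (Fin (2 * w)))) 2 := by
  classical
  obtain ⟨x, hx⟩ := exists_fixedPointFree w
  set C := Subgroup.centralizer ({x} : Set (Perm (Fin (2 * w)))) with hC
  set A1 : Subgroup C := (alternatingGroup (Fin (2 * w))).subgroupOf C
  have hcyc : ∀ c : x.cycleFactorsFinset, (c : Perm (Fin (2 * w))).support.card = 2 := fun c => by
    refine Multiset.eq_of_mem_replicate (n := w) ?_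
    rw [← hx, cycleType_def]
    exact Multiset.mem_map_of_mem _ c.2
  have hcount : Fintype.card x.cycleFactorsFinset = w := by
    have h := congrArg Multiset.card hx
    rwa [cycleType_def, Multiset.card_map, Multiset.card_replicate, ← Finset.card_def,
      ← Fintype.card_coe] at h
  let ψ : A1 →* Perm x.cycleFactorsFinset := (OnCycleFactors.toPermHom x).comp A1.subtype
  obtain ⟨c0⟩ : Nonempty x.cycleFactorsFinset := Fintype.card_pos_iff.mp (by omega)
  have hc0C : (c0 : Perm (Fin (2 * w))) ∈ C :=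
    Subgroup.mem_centralizer_singleton_iff.mpr (self_mem_cycle_factors_commute c0.2)
  have hker : OnCycleFactors.toPermHom x ⟨_, hc0C⟩ = 1 :=
    MonoidHom.mem_ker.mp ((OnCycleFactors.mem_ker_toPermHom_iff x _).mpr fun c hc => by
      by_cases he : c = c0
      · subst he; exact Commute.refl _
      · exact x.cycleFactorsFinset_mem_commute c0.2 hc (Ne.symm he))
  have hsign : Perm.sign (c0 : Perm (Fin (2 * w))) = -1 := by
    rw [(mem_cycleFactorsFinset_iff.mp c0.2).1.sign, hcyc]; rfl
  have hψ : Function.Surjective ψ := by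
    intro π
    obtain ⟨y, hy⟩ : π ∈ (OnCycleFactors.toPermHom x).range :=
      OnCycleFactors.mem_range_toPermHom_iff.mpr fun c => (hcyc _).trans (hcyc c).symm
    rcases Int.units_eq_one_or (Perm.sign (y : Perm (Fin (2 * w)))) with hs | hs
    · exact ⟨⟨y, mem_alternatingGroup.mpr hs⟩, hy⟩
    · refine ⟨⟨y * ⟨_, hc0C⟩, mem_alternatingGroup.mpr ?_⟩, ?_⟩
      · show Perm.sign ((y : Perm (Fin (2 * w))) * (c0 : Perm (Fin (2 * w)))) = 1
        rw [map_mul, hs, hsign]; rfl
      · show OnCycleFactors.toPermHom x (y * ⟨_, hc0C⟩) = π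
        rw [map_mul, hker, mul_one, hy]
  have hvC : (Nat.card C).factorization 2 = ((2 * w)!).factorization 2 := by
    rw [hC, Equiv.Perm.nat_card_centralizer, hx, Multiset.sum_replicate, smul_eq_mul, Fintype.card_fin,
      mul_comm w 2, Nat.sub_self, Multiset.prod_replicate, Nat.factorial_zero, one_mul,
      Multiset.toFinset_replicate, if_neg (by omega), Finset.prod_singleton,
      Multiset.count_replicate_self, Nat.factorization_mul (by positivity) (Nat.factorial_pos w).ne',
      Finsupp.add_apply, Nat.prime_two.factorization_pow, Finsupp.single_eq_same]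
    conv_rhs => rw [Nat.factorization_def _ Nat.prime_two, padicValNat_factorial_mul,
      ← Nat.factorization_def _ Nat.prime_two]
    exact add_comm _ _
  have hvA : (Nat.card A1).factorization 2 + 1 = (Nat.card C).factorization 2 := by
    have hidx : A1.index = 2 := by
      rw [Subgroup.index_eq_two_iff]
      refine ⟨⟨_, hc0C⟩, fun y => ?_⟩
      show (y * ⟨_, hc0C⟩ ∈ A1 ∧ y ∉ A1) ∨ (y ∈ A1 ∧ y * ⟨_, hc0C⟩ ∉ A1)
      simp only [A1, Subgroup.mem_subgroupOf, mem_alternatingGroup, Subgroup.coe_mul, map_mul, hsign]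
      rcases Int.units_eq_one_or (Perm.sign (y : Perm (Fin (2 * w)))) with h | h <;> rw [h] <;> simp
    rw [← A1.card_mul_index, hidx, Nat.factorization_mul Nat.card_pos.ne' two_ne_zero,
      Finsupp.add_apply, Nat.prime_two.factorization_self]
  obtain ⟨P1⟩ : Nonempty (Sylow 2 A1) := inferInstance
  let Q := P1.mapSurjective hψ
  have hQ : HasDegree (Q : Subgroup (Perm x.cycleFactorsFinset)) 2 :=
    hasDegree_sylow_perm (by rw [hcount]; omega) Q
  have h1 : HasDegree (P1 : Subgroup A1) 2 := by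
    let e := MulEquiv.subgroupCongr (Sylow.coe_mapSurjective hψ P1).symm
    exact hQ.comp (e.toMonoidHom.comp (ψ.subgroupMap (P1 : Subgroup A1)))
      (e.surjective.comp (ψ.subgroupMap_surjective _))
  let j : A1 →* alternatingGroup (Fin (2 * w)) :=
    { toFun := fun y => ⟨((y : C) : Perm (Fin (2 * w))), y.2⟩
      map_one' := rfl
      map_mul' := fun _ _ => rfl }
  have hj : Function.Injective j := fun u v h => Subtype.ext (Subtype.ext (Subtype.ext_iff.mp h :))
  have hcard : Nat.card ((P1 : Subgroup A1).map j) =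
      2 ^ (Nat.card (alternatingGroup (Fin (2 * w)))).factorization 2 := by
    rw [Subgroup.card_map_of_injective hj, P1.card_eq_multiplicity]
    congr 1
    have := factorization_card_alt (p := 2) (m := 2 * w) (by omega)
    rw [if_pos rfl] at this
    omega
  let T' : Sylow 2 (alternatingGroup (Fin (2 * w))) := Sylow.ofCard _ hcard
  have hT' : HasDegree (T' : Subgroup (alternatingGroup (Fin (2 * w)))) 2 := by
    rw [Sylow.coe_ofCard]
    let E := Subgroup.equivMapOfInjective (P1 : Subgroup A1) j hj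
    exact h1.comp E.symm.toMonoidHom E.symm.surjective
  exact hT'.comp (Sylow.equiv T T').toMonoidHom (Sylow.equiv T T').surjective

/-- Six points. -/
theorem hasDegree_alt_six (T : Sylow 2 (alternatingGroup (Fin 6))) :
    HasDegree (T : Subgroup (alternatingGroup (Fin 6))) 2 := by
  classical
  obtain ⟨a, b, hab, H, hH, ha, hb⟩ := AltSylow.exists_noncommuting (p := 2) (n := 6) le_rfl (by norm_num)
  obtain ⟨Q, hQ⟩ := hH.exists_le_sylow
  suffices h : HasDegree (Q : Subgroup (alternatingGroup (Fin 6))) 2 from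
    h.comp (Sylow.equiv T Q).toMonoidHom (Sylow.equiv T Q).surjective
  set G := ↥(Q : Subgroup (alternatingGroup (Fin 6)))
  haveI : Fintype G := Fintype.ofFinite _
  have hcard : Nat.card G = 2 ^ 3 := by
    rw [Q.card_eq_multiplicity]
    congr 1
    have h := factorization_card_alt (p := 2) (m := 6) (by omega)
    have h720 : ((6 : ℕ)!).factorization 2 = 4 := by
      rw [show (6 : ℕ)! = 2 ^ 4 * 45 from rfl, Nat.factorization_mul (by omega) (by omega),
        Finsupp.add_apply, Nat.prime_two.factorization_pow, Finsupp.single_eq_same,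
        Nat.factorization_eq_zero_of_not_dvd (by omega)]
    rw [if_pos rfl, h720] at h
    omega
  obtain ⟨χ, hχ⟩ : ∃ χ : IrrCharacter G, (χ : G → ℂ) 1 ≠ 1 := by
    by_contra hall
    push Not at hall
    exact hab (congrArg Subtype.val
      (CharactersDeep.PrimePowerDegrees.comm_of_linear hall ⟨a, hQ ha⟩ ⟨b, hQ hb⟩))
  refine ⟨χ, ?_⟩
  have hd := Blocks.charDegree_dvd_card χ
  rw [hcard] at hd
  obtain ⟨i, hi, he⟩ := (Nat.dvd_prime_pow Nat.prime_two).mp hd
  have h := Characters.sum_degree_sq (G := G)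
  simp only [← Blocks.charDegree_cast, ← Nat.cast_pow, ← Nat.cast_sum, Nat.cast_inj] at h
  have hsq : Cfsg.charDegree (χ : G → ℂ) ^ 2 ≤ 8 := by
    rw [show 8 = Nat.card G by rw [hcard]; norm_num, ← h]
    exact Finset.single_le_sum (f := fun ψ : IrrCharacter G => Cfsg.charDegree (ψ : G → ℂ) ^ 2)
      (fun ψ _ => Nat.zero_le _) (Finset.mem_univ χ)
  rw [he] at hsq ⊢
  rcases i with _ | _ | i
  · rw [pow_zero] at he
    exact absurd (by rw [← Blocks.charDegree_cast χ, he, Nat.cast_one]) hχ
  · rfl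
  · have : 4 ≤ 2 ^ (i + 2) := by
      rw [pow_add]; have := Nat.one_le_two_pow (n := i); omega
    nlinarith

/-- **The Sylow subgroups of an alternating group of degree `p w`.** -/
theorem hasDegree_alt [Fact p.Prime] {w : ℕ} (hw : p ≤ w) (hw2 : p = 2 → 3 ≤ w)
    (T : Sylow p (alternatingGroup (Fin (p * w)))) :
    HasDegree (T : Subgroup (alternatingGroup (Fin (p * w)))) p := by
  by_cases h2 : p = 2
  · subst h2
    rcases (hw2 rfl).eq_or_lt with h | h
    · subst h; exact hasDegree_alt_six T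
    · exact hasDegree_alt_two h T
  · exact hasDegree_alt_odd h2 (by rw [sq]; exact Nat.mul_le_mul_left p hw) T

/-- In small weight they are commutative. -/
theorem commute_alt [Fact p.Prime] {w : ℕ} (hw : w < p ∨ (p = 2 ∧ w ≤ 2))
    (T : Sylow p (alternatingGroup (Fin (p * w))))
    (a b : (T : Subgroup (alternatingGroup (Fin (p * w))))) : a * b = b * a := by
  have hp : p.Prime := Fact.out
  by_cases h : w < p
  · refine Subtype.ext (Subtype.ext ?_)
    exact AltSylow.commute_of_lt_sq (p := p) (n := p * w) (by rw [sq]; exact Nat.mul_lt_mul_of_pos_left h hp.pos)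
      (T.2.map (alternatingGroup (Fin (p * w))).subtype) ⟨a, a.2, rfl⟩ ⟨b, b.2, rfl⟩
  · obtain ⟨rfl, hw⟩ := hw.resolve_left h
    obtain rfl : w = 2 := by omega
    have hv := factorization_card_alt (p := 2) (m := 2 * 2) (by omega)
    have h24 : ((4 : ℕ)!).factorization 2 = 3 := by
      rw [show (4 : ℕ)! = 2 ^ 3 * 3 from rfl, Nat.factorization_mul (by omega) (by omega),
        Finsupp.add_apply, Nat.prime_two.factorization_pow, Finsupp.single_eq_same,
        Nat.factorization_eq_zero_of_not_dvd (by omega)]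
    rw [if_pos rfl, show 2 * 2 = 4 from rfl, h24] at hv
    refine IsPGroup.commutative_of_card_eq_prime_sq (p := 2) ?_ a b
    rw [T.card_eq_multiplicity]
    congr 1
    simp only [Nat.reduceMul]
    omega

end CfsgLib.SymBlocks
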