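import Cfsg.Agent.SymBlocks.Height
import Cfsg.Agent.SymBlocks.SylowChar
import Cfsg.Agent.SymBlocks.SameBlock
import Cfsg.Agent.SymBlocks.AltDefect
import Cfsg.Agent.SymBlocks.AltRank

/-!
Defect groups and the least positive height in blocks of alternating groups.
-/

set_option autoImplicit false
set_option linter.unusedSectionVars false
set_option linter.style.haveILetI false

namespace CfsgLib.SymBlocks

open Finset Equiv Equiv.Perm
open Cfsg (IrrCharacter classInner)
open scoped Nat ComplexConjugate

variable {n N p : ℕ} [Fact p.Prime]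

/-- Even permutations supported on the points moved by `x`, as a Sylow subgroup. -/
theorem exists_supported {w : ℕ} {x : Perm (Fin n)} (hx : x.cycleType = Multiset.replicate w p) :
    ∃ (T : Sylow p (alternatingGroup (Fin (p * w)))) (R : Subgroup (Perm (Fin n))),
      R ≤ alternatingGroup (Fin n) ∧ IsPGroup p R ∧
      Nonempty ((T : Subgroup (alternatingGroup (Fin (p * w)))) ≃* R) ∧
      ∀ g ∈ Subgroup.centralizer (cycleGroup x : Set (Perm (Fin n))), ¬ p ∣ orderOf g →
        ∀ r ∈ R, r * g = g * r := by
  classical
  obtain ⟨T⟩ : Nonempty (Sylow p (alternatingGroup (Fin (p * w)))) := inferInstance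
  have hcard : x.support.card = p * w := by
    rw [← sum_cycleType, hx, Multiset.sum_replicate, smul_eq_mul, mul_comm]
  let ι : Fin (p * w) ↪ Fin n := (x.support.orderEmbOfFin hcard).toEmbedding
  have hrange : ∀ u, u ∈ Set.range ι ↔ u ∈ x.support := fun u => by
    have h := Finset.range_orderEmbOfFin x.support hcard
    show u ∈ Set.range (x.support.orderEmbOfFin hcard) ↔ _
    rw [h, Finset.mem_coe]
  let f : alternatingGroup (Fin (p * w)) →* Perm (Fin n) :=
    (viaEmbeddingHom ι).comp (alternatingGroup (Fin (p * w))).subtype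
  have hf : Function.Injective f := (viaEmbeddingHom_injective ι).comp Subtype.val_injective
  refine ⟨T, (T : Subgroup (alternatingGroup (Fin (p * w)))).map f, ?_, T.2.map f,
    ⟨Subgroup.equivMapOfInjective _ f hf⟩, ?_⟩
  · rintro _ ⟨σ, -, rfl⟩
    show viaEmbeddingHom ι (σ : Perm (Fin (p * w))) ∈ alternatingGroup (Fin n)
    rw [mem_alternatingGroup, viaEmbeddingHom_apply, Perm.viaEmbedding]
    refine Eq.trans ?_ (mem_alternatingGroup.mp σ.2)
    convert Perm.sign_extendDomain (σ : Perm (Fin (p * w))) (Equiv.ofInjective ι.1 ι.2) using 4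
  · intro g hg hreg r hr
    obtain ⟨σ, -, rfl⟩ := hr
    have hd : Perm.Disjoint (f σ) g := fun z => by
      by_cases h : z ∈ x.support
      · exact Or.inr (fix_of_commute_prime hx hg hreg z h)
      · refine Or.inl ?_
        show viaEmbeddingHom ι (σ : Perm (Fin (p * w))) z = z
        rw [viaEmbeddingHom_apply]
        exact viaEmbedding_apply_of_notMem _ _ _ fun hz => h ((hrange z).mp hz)
    exact hd.commute.eq

/-- The exponent of the order of the Sylow subgroup. -/
noncomputable def altExp (p w : ℕ) : ℕ :=
  (Nat.card (alternatingGroup (Fin (p * w)))).factorization p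

/-- One for a self-conjugate configuration and `p = 2`. -/
def selfDrop (p N : ℕ) (S : Finset ℕ) : ℕ :=
  if p = 2 ∧ refl (2 * N) S = S then 1 else 0

/-- The `p`-part of the degree of a constituent, in terms of the height. -/
theorem val_constituent (hN : n ≤ N) (hn : 2 ≤ n) {a : Fin N → ℕ}
    (hs : ∑ i, a i = n + N.choose 2) (ha : Function.Injective a) {χ : IrrCharacter (Perm (Fin n))}
    {ε : ℂ} (hε : ε = 1 ∨ ε = -1) (he : chi (n := n) a = ε • (χ : Perm (Fin n) → ℂ))
    {ξ : IrrCharacter (alternatingGroup (Fin n))}
    (hξ : classInner (res (χ : Perm (Fin n) → ℂ)) (ξ : alternatingGroup (Fin n) → ℂ) ≠ 0) :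
    (Cfsg.charDegree (ξ : alternatingGroup (Fin n) → ℂ)).factorization p +
        ((p * weight p a)!).factorization p + selfDrop p N (entries a) =
      (n !).factorization p + symHeight p (entries a) := by
  have hp : p.Prime := Fact.out
  have hd0 := Blocks.charDegree_ne_zero ξ
  have h := val_shapeDeg_height hp (entries a)
  rw [runnersExcess_entries hp.pos hN hs ha] at h
  have hexc : excess (entries a) = n := (natAbs_frob_ones hs ha).1
  rw [hexc, show shapeDeg (entries a) = Cfsg.charDegree (χ : Perm (Fin n) → ℂ) from
    (charDegree_eq hs ha hε he).symm] at h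
  have hv : (Cfsg.charDegree (χ : Perm (Fin n) → ℂ)).factorization p =
      (Cfsg.charDegree (ξ : alternatingGroup (Fin n) → ℂ)).factorization p + selfDrop p N (entries a) := by
    rcases (constituents hN hn hs ha hε he hξ).2.2 with ⟨hnorm, hdeg⟩ | ⟨hnorm, hdeg⟩
    · rw [← Blocks.charDegree_cast χ, ← Blocks.charDegree_cast ξ, Nat.cast_inj] at hdeg
      have hsym : refl (2 * N) (entries a) ≠ entries a := fun hsym => by
        rw [norm_res_of_selfConj hN hn hs ha hε he hsym] at hnorm
        norm_num at hnorm
      rw [hdeg, selfDrop, if_neg fun h => hsym h.2, add_zero]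
    · rw [← Blocks.charDegree_cast χ, ← Blocks.charDegree_cast ξ, ← Nat.cast_ofNat, ← Nat.cast_mul,
        Nat.cast_inj] at hdeg
      have hsym : refl (2 * N) (entries a) = entries a := by
        by_contra hsym
        rw [(norm_res hN hn hs ha hε he).2 hsym] at hnorm
        norm_num at hnorm
      rw [hdeg, Nat.factorization_mul two_ne_zero hd0, Finsupp.add_apply, add_comm, selfDrop]
      congr 1
      by_cases h2 : p = 2
      · rw [if_pos ⟨h2, hsym⟩, h2, Nat.prime_two.factorization_self]
      · rw [if_neg fun h => h2 h.1, Nat.factorization_eq_zero_of_not_dvd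
          fun hd => h2 ((Nat.prime_dvd_prime_iff_eq hp Nat.prime_two).mp hd)]
  omega

theorem factorial_card_alt (hn : 2 ≤ n) :
    (Nat.card (alternatingGroup (Fin n))).factorization p + (if p = 2 then 1 else 0) =
      (n !).factorization p :=
  factorization_card_alt hn

/-- The height in the alternating group. -/
theorem val_alt (hN : n ≤ N) (hn : 2 ≤ n) {a : Fin N → ℕ}
    (hs : ∑ i, a i = n + N.choose 2) (ha : Function.Injective a) {χ : IrrCharacter (Perm (Fin n))}
    {ε : ℂ} (hε : ε = 1 ∨ ε = -1) (he : chi (n := n) a = ε • (χ : Perm (Fin n) → ℂ))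
    {ξ : IrrCharacter (alternatingGroup (Fin n))}
    (hξ : classInner (res (χ : Perm (Fin n) → ℂ)) (ξ : alternatingGroup (Fin n) → ℂ) ≠ 0) :
    (Nat.card (alternatingGroup (Fin n))).factorization p ≤
        (Cfsg.charDegree (ξ : alternatingGroup (Fin n) → ℂ)).factorization p + altExp p (weight p a) ∧
      ((weight p a < p ∨ (p = 2 ∧ weight p a ≤ 2)) →
        (Cfsg.charDegree (ξ : alternatingGroup (Fin n) → ℂ)).factorization p + altExp p (weight p a) ≤
          (Nat.card (alternatingGroup (Fin n))).factorization p) ∧
      (0 < weight p a → symHeight p (entries a) = 1 → selfDrop p N (entries a) = 0 →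
        (Cfsg.charDegree (ξ : alternatingGroup (Fin n) → ℂ)).factorization p + altExp p (weight p a) =
          (Nat.card (alternatingGroup (Fin n))).factorization p + 1) := by
  have hp : p.Prime := Fact.out
  have h := val_constituent (p := p) hN hn hs ha hε he hξ
  have hG := factorial_card_alt (p := p) hn
  have hN0 : 0 < N := by omega
  have hw := runnersExcess_entries (p := p) hp.pos hN hs ha
  have hsub := entries_subset hN hs ha
  set w := weight p a with hwdef
  have hT : 0 < w → altExp p w + (if p = 2 then 1 else 0) = ((p * w)!).factorization p := fun h0 =>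
    factorization_card_alt (Nat.le_trans hp.two_le (Nat.le_mul_of_pos_right p h0))
  have hT0 : w = 0 → altExp p w = 0 ∧ ((p * w)!).factorization p = 0 := fun h0 => by
    rw [altExp, h0, mul_zero, Nat.factorial_zero, Nat.factorization_one]
    refine ⟨?_, rfl⟩
    rw [Nat.card_eq_one_iff_unique.mpr ⟨inferInstance, inferInstance⟩, Nat.factorization_one]
    rfl
  by_cases h2 : p = 2
  · subst h2
    have hsd : selfDrop 2 N (entries a) ≤ 1 := by rw [selfDrop]; split_ifs <;> omega
    have hcard : (runner 2 0 (entries a)).card + (runner 2 1 (entries a)).card = N := by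
      have h := card_entries ha
      rw [Finset.card_eq_sum_ones, sum_by_residue two_pos] at h
      simp only [Finset.sum_const, smul_eq_mul, mul_one] at h
      exact h
    have he2 : excess (runner 2 0 (entries a)) + excess (runner 2 1 (entries a)) = w := by
      rw [← hw, runnersExcess]
      simp [Finset.sum_range_succ]
    have hsymzero : w = 0 → selfDrop 2 N (entries a) = 1 := fun h0 => by
      rw [selfDrop, if_pos]
      exact ⟨rfl, selfConj_of_excess_one hN0 hsub hcard (by omega) (by omega)⟩
    have hz : w < 2 → symHeight 2 (entries a) = 0 := fun h0 => symHeight_eq_zero_of_lt hp (hw ▸ h0)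
    rw [if_pos rfl] at hG hT
    refine ⟨?_, fun hsm => ?_, fun h0 h1 h1' => ?_⟩
    · rcases Nat.eq_zero_or_pos w with h0 | h0
      · have := hsymzero h0
        have := hz (by omega)
        have := hT0 h0
        omega
      · have := hT h0
        by_cases hsym : refl (2 * N) (entries a) = entries a
        · have := one_le_symHeight_of_selfConj hN0 hsub hsym (hw ▸ h0)
          omega
        · have : selfDrop 2 N (entries a) = 0 := by rw [selfDrop, if_neg fun h => hsym h.2]
          omega
    · have hw2 : w ≤ 2 := by omega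
      rcases Nat.eq_zero_or_pos w with h0 | h0
      · have := hsymzero h0
        have := hz (by omega)
        have := hT0 h0
        omega
      · have := hT h0
        rcases (show w = 1 ∨ w = 2 by omega) with h1 | h1
        · have := hz (by omega)
          omega
        · -- weight two
          have hdvd : ∀ r, (shapeDeg (runner 2 r (entries a))).factorization 2 = 0 ∨
              3 ≤ excess (runner 2 r (entries a)) := fun r => by
            by_cases hge : 3 ≤ excess (runner 2 r (entries a))
            · exact Or.inr hge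
            refine Or.inl (Nat.factorization_eq_zero_of_not_dvd fun hd => ?_)
            obtain ⟨hpos, -, hsq⟩ := shapeDeg_spec (runner 2 r (entries a))
            have : (excess (runner 2 r (entries a)))! ≤ 2 :=
              (Nat.factorial_le (show excess (runner 2 r (entries a)) ≤ 2 by omega)).trans (le_of_eq rfl)
            have := Nat.le_of_dvd hpos hd
            have := Nat.mul_le_mul this this
            omega
          have hf0 := (hdvd 0).resolve_right (by omega)
          have hf1 := (hdvd 1).resolve_right (by omega)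
          have hS : symHeight 2 (entries a) = ((2 : ℕ)!).factorization 2 -
              (((excess (runner 2 0 (entries a)))!).factorization 2 +
                ((excess (runner 2 1 (entries a)))!).factorization 2) := by
            rw [symHeight, hw, h1]
            simp [Finset.sum_range_succ, hf0, hf1]
          have hv2 : ((2 : ℕ)!).factorization 2 = 1 := Nat.prime_two.factorization_self
          by_cases hone : excess (runner 2 0 (entries a)) = 1
          · have : selfDrop 2 N (entries a) = 1 := by
              rw [selfDrop, if_pos]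
              exact ⟨rfl, selfConj_of_excess_one hN0 hsub hcard hone.le (by omega)⟩
            omega
          · rcases (show excess (runner 2 0 (entries a)) = 0 ∨ excess (runner 2 0 (entries a)) = 2 by omega)
              with h3 | h3
            · rw [h3, show excess (runner 2 1 (entries a)) = 2 by omega] at hS
              omega
            · rw [h3, show excess (runner 2 1 (entries a)) = 0 by omega] at hS
              omega
    · have := hT h0
      omega
  · have hsd : selfDrop p N (entries a) = 0 := by rw [selfDrop, if_neg fun h => h2 h.1]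
    rw [if_neg h2, add_zero] at hG hT
    have hTall : altExp p w = ((p * w)!).factorization p := by
      rcases Nat.eq_zero_or_pos w with h0 | h0
      · rw [(hT0 h0).1, (hT0 h0).2]
      · exact hT h0
    refine ⟨by omega, fun hsm => ?_, fun _ h1 _ => by omega⟩
    have := symHeight_eq_zero_of_lt (S := entries a) hp (hw ▸ hsm.resolve_right fun h => h2 h.1)
    omega

/-- **Blocks of alternating groups: the least positive height.** -/
theorem height_one_or_none {M : Ideal Cfsg.AlgInt} [M.IsPrime] (hM : Cfsg.IsPModular p M)
    {B : Set (IrrCharacter (alternatingGroup (Fin n)))} (hB : Cfsg.IsPBlock M B)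
    {D : Subgroup (alternatingGroup (Fin n))} (hD : Cfsg.IsDefectGroup p M B D) :
    ((∃ χ : IrrCharacter (alternatingGroup (Fin n)), χ ∈ B ∧
        Cfsg.blockHeight p B (χ : alternatingGroup (Fin n) → ℂ) = 1) ∧
      (∃ ξ : IrrCharacter D, Cfsg.charDegree (ξ : D → ℂ) = p)) ∨
    ((∀ χ : IrrCharacter (alternatingGroup (Fin n)), χ ∈ B →
        Cfsg.blockHeight p B (χ : alternatingGroup (Fin n) → ℂ) = 0) ∧
      ∀ u v : D, u * v = v * u) := by
  classical
  have hp : p.Prime := Fact.out
  by_cases hn : n < 2
  · refine Or.inr ⟨fun χ hχ => ?_, fun u v => ?_⟩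
    · haveI : Subsingleton (Fin n) := Fin.subsingleton_iff_le_one.mpr (by omega)
      have hd := Blocks.charDegree_dvd_card χ
      rw [Nat.card_eq_one_iff_unique.mpr ⟨inferInstance, inferInstance⟩, Nat.dvd_one] at hd
      simp [Cfsg.blockHeight, hd]
    · haveI : Subsingleton (Fin n) := Fin.subsingleton_iff_le_one.mpr (by omega)
      exact Subtype.ext (Subsingleton.elim _ _)
  have hn : 2 ≤ n := by omega
  obtain ⟨θ, hθ⟩ := Blocks.isPBlock_nonempty hB
  obtain ⟨χ0, hχ0, hcov⟩ :=
    CharactersDeep.Clifford.exists_over (alternatingGroup (Fin n)) (G := Perm (Fin n)) θ.2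
  set χ : IrrCharacter (Perm (Fin n)) := ⟨χ0, hχ0⟩
  change classInner (res (χ : Perm (Fin n) → ℂ)) (θ : alternatingGroup (Fin n) → ℂ) ≠ 0 at hcov
  set N := n + 2 * p with hNdef
  have hN : n ≤ N := by omega
  obtain ⟨a, ha, hinj, ε, hε, he⟩ := exists_chi hN χ
  have hχ : χ ∈ blockSet n N p (resid p a) := ⟨a, Finset.mem_filter.mpr ⟨mem_tuples.mpr ha, rfl⟩, by
    rw [he, Characters.classInner_smul_left, Characters.classInner_irr, if_pos rfl, mul_one]
    rcases hε with rfl | rfl <;> norm_num⟩
  set w := weight p a with hw
  set t := altExp p w with ht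
  -- every degree is large
  have hall : ∀ ξ ∈ B, (Nat.card (alternatingGroup (Fin n))).factorization p ≤
        (Cfsg.charDegree (ξ : alternatingGroup (Fin n) → ℂ)).factorization p + t ∧
      ((w < p ∨ (p = 2 ∧ w ≤ 2)) →
        (Cfsg.charDegree (ξ : alternatingGroup (Fin n) → ℂ)).factorization p + t ≤
          (Nat.card (alternatingGroup (Fin n))).factorization p) := by
    intro ξ hξ
    obtain ⟨b, hb, hbinj, χ', ε', hε', he', hne⟩ := exists_over_of_mem hM hN hB hθ hcov hχ hξ
    have hbs := mem_tuples.mp (Finset.mem_filter.mp hb).1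
    have hwb : weight p b = w :=
      weight_congr hp.pos hbinj hinj (Finset.mem_filter.mp hb).2 (hbs.trans ha.symm)
    have h := val_alt (p := p) hN hn hbs hbinj hε' he' hne
    rw [hwb] at h
    exact ⟨h.1, h.2.1⟩
  -- the defect group
  obtain ⟨x, hx⟩ := exists_cycleType (p := p) ha hinj
  obtain ⟨T, R, hRA, hRp, ⟨E⟩, hcomm⟩ := exists_supported hx
  obtain ⟨f, hf⟩ := exists_embedding hM hB hD hθ hcov ha hinj he hx hRA hRp hcomm
  obtain ⟨d, hd⟩ := IsPGroup.iff_card.mp (Blocks.IsDefectGroup.isPGroup hD)
  have hRcard : Nat.card R = p ^ t := by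
    rw [← Nat.card_congr E.toEquiv, T.card_eq_multiplicity]
    rfl
  have hle : t ≤ d := by
    rw [← Nat.pow_le_pow_iff_right hp.one_lt, ← hRcard, ← hd]
    exact Nat.card_le_card_of_injective f hf
  have hvD : (Nat.card D).factorization p = d := by
    rw [hd, hp.factorization_pow, Finsupp.single_eq_same]
  have hdt : d = t := by
    obtain ⟨ξ, hξ, hξe⟩ := Blocks.exists_degree_eq hM hB hD
    have := (hall ξ hξ).1
    omega
  have hbij : Function.Bijective f := by
    refine (Nat.bijective_iff_injective_and_card f).mpr ⟨hf, ?_⟩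
    rw [hRcard, hd, hdt]
  let F : D ≃* (T : Subgroup (alternatingGroup (Fin (p * w)))) :=
    (MulEquiv.ofBijective f hbij).symm.trans E.symm
  have hsInf := Blocks.sInf_degree_eq hM hB hD
  rw [hvD, hdt] at hsInf
  by_cases hsmall : w < p ∨ (p = 2 ∧ w ≤ 2)
  · refine Or.inr ⟨fun ξ hξ => ?_, fun u v => F.injective (by rw [map_mul, map_mul]; exact commute_alt hsmall T (F u) (F v))⟩
    have := (hall ξ hξ).2 hsmall
    rw [Cfsg.blockHeight]
    omega
  rw [not_or, not_and, not_lt] at hsmall
  obtain ⟨hwp, hw2⟩ := hsmall
  have hw2' : p = 2 → 3 ≤ w := fun h => by have := hw2 h; omega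
  refine Or.inl ⟨?_, ?_⟩
  · obtain ⟨b, hbs, hbinj, hres, hh, hdrop⟩ : ∃ b : Fin N → ℕ, (∑ i, b i = n + N.choose 2) ∧
        Function.Injective b ∧ resid p b = resid p a ∧ symHeight p (entries b) = 1 ∧
        selfDrop p N (entries b) = 0 := by
      by_cases h2 : p = 2
      · obtain ⟨b, h1, h3, h4, h5, h6⟩ : ∃ b : Fin N → ℕ, (∑ i, b i = n + N.choose 2) ∧
            Function.Injective b ∧ resid p b = resid p a ∧ symHeight p (entries b) = 1 ∧
            refl (2 * N) (entries b) ≠ entries b := by
          subst h2
          exact exists_height_one_two (by omega) ha hinj (hw2' rfl)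
        exact ⟨b, h1, h3, h4, h5, by rw [selfDrop, if_neg fun h => h6 h.2]⟩
      · obtain ⟨b, h1, h3, h4, h5⟩ := exists_height_one_odd hp h2 (le_refl N) ha hinj hwp
        exact ⟨b, h1, h3, h4, h5, by rw [selfDrop, if_neg fun h => h2 h.1]⟩
    obtain ⟨χ', ε', hε', he'⟩ := exists_irr_chi hbs hbinj
    have hsame := blockOf_eq_of_resid hM ha hinj hbs hbinj hres.symm hε hε' he he'
    obtain ⟨ψ, hψ⟩ := BlocksLocal.exists_constituent (alternatingGroup (Fin n)) χ'
    obtain ⟨g, ξ, hξ, rfl⟩ := BlocksLocal.mem_coverSet_of_covers (alternatingGroup (Fin n))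
      (Blocks.isPBlock_blockOf (M := M) χ) hB (Blocks.mem_blockOf_self χ) hθ hcov
      (hsame ▸ Blocks.mem_blockOf_self χ') hψ
    refine ⟨ξ, hξ, ?_⟩
    have hwb : weight p b = w := weight_congr hp.pos hbinj hinj hres (hbs.trans ha.symm)
    have h := (val_alt (p := p) hN hn hbs hbinj hε' he' hψ).2.2 (by have := hp.pos; omega) hh hdrop
    have hdeg : Cfsg.charDegree (BlocksLocal.conjIrr (alternatingGroup (Fin n)) ξ g :
        alternatingGroup (Fin n) → ℂ) = Cfsg.charDegree (ξ : alternatingGroup (Fin n) → ℂ) := by
      simp [Cfsg.charDegree, BlocksLocal.coe_conjIrr, OddOrderChar.conjBy]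
      rfl
    rw [hdeg, hwb] at h
    rw [Cfsg.blockHeight]
    omega
  · exact (hasDegree_alt hwp hw2' T).comp F.toMonoidHom F.surjective

end CfsgLib.SymBlocks
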