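import Cfsg.Agent.SymBlocks.Defect
import Mathlib.GroupTheory.Perm.ViaEmbedding
import Mathlib.GroupTheory.SpecificGroups.Alternating

/-!
Elementary abelian subgroups of alternating groups attached to products of cycles of length `p`.
-/

set_option autoImplicit false
set_option linter.unusedSectionVars false
set_option linter.style.haveILetI false

namespace CfsgLib.SymBlocks

open Finset Equiv Equiv.Perm

variable {n p : ℕ}

/-- An elementary abelian `p`-subgroup of the alternating group. -/
def IsElem (p : ℕ) (R : Subgroup (Perm (Fin n))) : Prop :=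
  R ≤ alternatingGroup (Fin n) ∧ (∀ a ∈ R, ∀ b ∈ R, a * b = b * a) ∧ ∀ a ∈ R, a ^ p = 1

/-- For odd `p` the cycles themselves lie in the alternating group. -/
theorem isElem_cycleGroup [Fact p.Prime] (hp2 : p ≠ 2) {w : ℕ} {x : Perm (Fin n)}
    (hx : x.cycleType = Multiset.replicate w p) : IsElem p (cycleGroup x) := by
  refine ⟨fun a ha => ?_, cycleGroup_elementary hx⟩
  rw [Equiv.Perm.mem_alternatingGroup]
  have h := congrArg Perm.sign ((cycleGroup_elementary hx).2 a ha)
  rw [map_pow, map_one] at h
  rcases Int.units_eq_one_or (Perm.sign a) with e | e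
  · exact e
  · rw [e, ((Fact.out : p.Prime).odd_of_ne_two hp2).neg_one_pow] at h
    exact absurd h (by decide)

/-- The even products of transpositions. -/
theorem isElem_even {w : ℕ} {x : Perm (Fin n)} (hx : x.cycleType = Multiset.replicate w 2) :
    IsElem 2 (cycleGroup x ⊓ alternatingGroup (Fin n)) ∧
      2 ^ w ≤ 2 * Nat.card ↥(cycleGroup x ⊓ alternatingGroup (Fin n)) := by
  refine ⟨⟨inf_le_right, fun a ha b hb => (cycleGroup_elementary hx).1 a ha.1 b hb.1,
    fun a ha => (cycleGroup_elementary hx).2 a ha.1⟩, ?_⟩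
  rw [← card_cycleGroup (p := 2) hx]
  have h1 := Subgroup.card_mul_index ((cycleGroup x ⊓ alternatingGroup (Fin n)).subgroupOf (cycleGroup x))
  rw [Nat.card_congr (Subgroup.subgroupOfEquivOfLe inf_le_left).toEquiv] at h1
  rw [← h1, mul_comm 2]
  refine Nat.mul_le_mul_left _ ?_
  rw [Subgroup.inf_subgroupOf_left]
  change (alternatingGroup (Fin n)).relIndex (cycleGroup x) ≤ 2
  rcases Nat.lt_or_ge 1 n with hn | hn
  · haveI : Nontrivial (Fin n) := Fin.nontrivial_iff_two_le.mpr hn
    have hidx : (alternatingGroup (Fin n)).index = 2 := alternatingGroup.index_eq_two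
    exact Nat.le_of_dvd two_pos (hidx ▸ Subgroup.relIndex_dvd_index_of_normal _ _)
  · haveI : Subsingleton (Fin n) := Fin.subsingleton_iff_le_one.mpr hn
    rw [Subgroup.relIndex, Subgroup.index_eq_card]
    exact le_trans (Nat.le_of_eq (Nat.card_eq_one_iff_unique.mpr ⟨inferInstance, inferInstance⟩))
      one_le_two

/-- An element of odd order commuting with the transpositions of `x` fixes their points. -/
theorem fix_of_commute {w : ℕ} {x : Perm (Fin n)} (hx : x.cycleType = Multiset.replicate w 2)
    {g : Perm (Fin n)} (hg : g ∈ Subgroup.centralizer (cycleGroup x : Set (Perm (Fin n))))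
    (hodd : ¬ 2 ∣ orderOf g) : ∀ z ∈ x.support, g z = z := by
  intro z hz
  have hc := cycleOf_mem_cycleFactorsFinset_iff.mpr hz
  set c := x.cycleOf z
  have hcy := (mem_cycleFactorsFinset_iff.mp hc).1
  have hcard : c.support.card = 2 := by
    have : c.support.card ∈ x.cycleType := by
      rw [cycleType_def]; exact Multiset.mem_map_of_mem _ hc
    rw [hx] at this
    exact Multiset.eq_of_mem_replicate this
  have hcm : c ∈ cycleGroup x := by
    rw [cycleGroup_eq]
    exact Subgroup.mem_iSup_of_mem (⟨c, hc⟩ : x.cycleFactorsFinset) (Subgroup.mem_zpowers _)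
  have hcomm : ∀ u, c (g u) = g (c u) := fun u => by
    have := Subgroup.mem_centralizer_iff.mp hg c hcm
    exact congrFun (congrArg DFunLike.coe this) u
  have hzc : z ∈ c.support := by
    rw [mem_support_cycleOf_iff]; exact ⟨SameCycle.refl _ _, hz⟩
  obtain ⟨u, v, huv, hs⟩ := Finset.card_eq_two.mp hcard
  have hswap := (Equiv.Perm.card_support_eq_two.mp hcard)
  have hne := mem_support.mp hzc
  have hgz : g z ∈ c.support := by
    rw [mem_support, hcomm]
    exact g.injective.ne hne
  have hcz : c z ∈ c.support := apply_mem_support.mpr hzc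
  have hmem : g z = z ∨ g z = c z := by
    rw [hs, Finset.mem_insert, Finset.mem_singleton] at hgz hzc hcz
    rcases hgz with e | e <;> rcases hzc with e' | e' <;> rcases hcz with e'' | e'' <;>
      simp_all
  rcases hmem with e | e
  · exact e
  exfalso
  have hcc : c (c z) = z := by
    obtain ⟨a, b, hab, hcs⟩ := hswap
    rw [hcs]; simp
  have key : ∀ k : ℕ, (g ^ (2 * k)) z = z := by
    intro k
    induction k with
    | zero => simp
    | succ k ih =>
      rw [show 2 * (k + 1) = 2 + 2 * k by ring, pow_add, Perm.mul_apply, ih, sq, Perm.mul_apply, e,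
        ← hcomm, e, hcc]
  obtain ⟨k, hk⟩ : Odd (orderOf g) := Nat.not_even_iff_odd.mp fun h => hodd h.two_dvd
  have h1 := congrFun (congrArg DFunLike.coe (pow_orderOf_eq_one g)) z
  rw [hk, pow_add, pow_one, Perm.mul_apply, e] at h1
  have h2 := congrArg c h1
  rw [Perm.one_apply] at h2
  have h3 : (g ^ (2 * k)) (c z) = c ((g ^ (2 * k)) z) := by
    have hp : c * g ^ (2 * k) = g ^ (2 * k) * c :=
      ((show Commute c g from Subgroup.mem_centralizer_iff.mp hg c hcm).pow_right _).eq
    exact (congrFun (congrArg DFunLike.coe hp) z).symm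
  rw [h3, key, hcc] at h2
  exact hne h2.symm

/-- The Klein four-group. -/
abbrev Four : Type := Multiplicative (ZMod 2 × ZMod 2)

theorem four_mul_self (v : Four) : v * v = 1 := by
  revert v; decide

/-- Translations of `k` copies of the Klein four-group, placed in `Fin n`. -/
noncomputable def fours {k : ℕ} (ι : (Fin k × Four) ↪ Fin n) : (Fin k → Four) →* Perm (Fin n) :=
  (viaEmbeddingHom ι).comp
    { toFun := fun f =>
        { toFun := fun z => (z.1, f z.1 * z.2)
          invFun := fun z => (z.1, f z.1 * z.2)
          left_inv := fun z => by simp [← mul_assoc, four_mul_self]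
          right_inv := fun z => by simp [← mul_assoc, four_mul_self] }
      map_one' := Equiv.ext fun z => by simp
      map_mul' := fun f g => Equiv.ext fun z => by simp [mul_assoc] }

theorem fours_apply {k : ℕ} (ι : (Fin k × Four) ↪ Fin n) (f : Fin k → Four) (z : Fin k × Four) :
    fours ι f (ι z) = ι (z.1, f z.1 * z.2) := by
  rw [fours, MonoidHom.comp_apply, viaEmbeddingHom_apply, viaEmbedding_apply]
  rfl

theorem fours_apply_of_notMem {k : ℕ} (ι : (Fin k × Four) ↪ Fin n) (f : Fin k → Four) {u : Fin n}
    (hu : u ∉ Set.range ι) : fours ι f u = u := by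
  rw [fours, MonoidHom.comp_apply, viaEmbeddingHom_apply, viaEmbedding_apply_of_notMem _ _ _ hu]

theorem fours_injective {k : ℕ} (ι : (Fin k × Four) ↪ Fin n) : Function.Injective (fours ι) := by
  intro f g h
  funext i
  have := congrFun (congrArg DFunLike.coe h) (ι (i, 1))
  rw [fours_apply, fours_apply, mul_one, mul_one] at this
  exact (Prod.ext_iff.mp (ι.injective this)).2

theorem cycleType_fours {k : ℕ} (ι : (Fin k × Four) ↪ Fin n) (f : Fin k → Four) :
    (fours ι f).cycleType =
      Multiset.replicate (2 * (Finset.univ.filter fun i => f i ≠ 1).card) 2 := by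
  classical
  have hsq : fours ι f * fours ι f = 1 := by
    rw [← map_mul, show f * f = 1 from funext fun i => four_mul_self (f i), map_one]
  have h2 : ∀ m ∈ (fours ι f).cycleType, m = 2 := fun m hm => by
    have h1 := dvd_of_mem_cycleType hm
    have h3 : orderOf (fours ι f) ∣ 2 := orderOf_dvd_of_pow_eq_one (by rw [sq, hsq])
    have h4 := two_le_of_mem_cycleType hm
    have := Nat.le_of_dvd two_pos (h1.trans h3)
    omega
  have hsupp : (fours ι f).support =
      ((Finset.univ.filter fun i => f i ≠ 1) ×ˢ (Finset.univ : Finset Four)).map ι := by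
    ext u
    rw [mem_support, Finset.mem_map]
    by_cases hu : u ∈ Set.range ι
    · obtain ⟨z, rfl⟩ := hu
      rw [fours_apply]
      constructor
      · intro h
        refine ⟨z, Finset.mem_product.mpr ⟨Finset.mem_filter.mpr ⟨Finset.mem_univ _, fun e => ?_⟩,
          Finset.mem_univ _⟩, rfl⟩
        exact h (by rw [e, one_mul])
      · rintro ⟨z', hz', e⟩ h
        rw [ι.injective e] at hz'
        have := congrArg Prod.snd (ι.injective h)
        simp only [mul_eq_right] at this
        exact (Finset.mem_filter.mp (Finset.mem_product.mp hz').1).2 this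
    · rw [fours_apply_of_notMem ι f hu]
      simp only [ne_eq, not_true_eq_false, false_iff, not_exists, not_and]
      exact fun z _ e => hu ⟨z, e⟩
  have hsum := (fours ι f).sum_cycleType
  rw [hsupp, Finset.card_map, Finset.card_product, Finset.card_univ,
    show Fintype.card Four = 4 from rfl] at hsum
  have he := Multiset.eq_replicate_card.mpr h2
  rw [he, Multiset.sum_replicate, smul_eq_mul] at hsum
  rw [he]
  congr 1
  omega

/-- A product of an even number of transpositions with an elementary abelian subgroup of full rank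
on its support. -/
theorem exists_fours {k : ℕ} (hk : 4 * k ≤ n) :
    ∃ (x : Perm (Fin n)) (R : Subgroup (Perm (Fin n))),
      x.cycleType = Multiset.replicate (2 * k) 2 ∧ IsElem 2 R ∧ Nat.card R = 2 ^ (2 * k) ∧
        ∀ g : Perm (Fin n), (∀ z ∈ x.support, g z = z) → ∀ r ∈ R, r * g = g * r := by
  obtain ⟨ι⟩ : Nonempty ((Fin k × Four) ↪ Fin n) := by
    refine Function.Embedding.nonempty_of_card_le ?_
    rw [Fintype.card_prod, Fintype.card_fin, Fintype.card_fin, show Fintype.card Four = 4 from rfl]
    omega
  let f0 : Fin k → Four := fun _ => Multiplicative.ofAdd (1, 0)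
  have hf0 : (Finset.univ.filter fun i => f0 i ≠ 1) = Finset.univ :=
    Finset.filter_true_of_mem fun i _ => by simp only [f0]; decide
  refine ⟨fours ι f0, (fours ι).range, ?_, ⟨?_, ?_, ?_⟩, ?_, ?_⟩
  · rw [cycleType_fours, hf0, Finset.card_univ, Fintype.card_fin]
  · rintro _ ⟨f, rfl⟩
    rw [Equiv.Perm.mem_alternatingGroup, Equiv.Perm.sign_of_cycleType, cycleType_fours,
      Multiset.sum_replicate, Multiset.card_replicate, smul_eq_mul]
    exact Even.neg_one_pow (by simp [Nat.even_add])
  · rintro _ ⟨f, rfl⟩ _ ⟨g, rfl⟩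
    rw [← map_mul, ← map_mul, mul_comm]
  · rintro _ ⟨f, rfl⟩
    rw [← map_pow, show f ^ 2 = 1 from funext fun i => by rw [Pi.pow_apply, sq]; exact four_mul_self _,
      map_one]
  · rw [Nat.card_congr (MonoidHom.ofInjective (fours_injective ι)).toEquiv.symm, Nat.card_fun,
      Nat.card_eq_fintype_card, Nat.card_eq_fintype_card, Fintype.card_fin,
      show Fintype.card Four = 2 ^ 2 from rfl, pow_mul]
  · rintro g hg _ ⟨f, rfl⟩
    have hfix : ∀ z, g (ι z) = ι z := fun z => hg _ (by
      rw [mem_support, fours_apply]
      intro e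
      have := congrArg Prod.snd (ι.injective e)
      simp only [mul_eq_right] at this
      exact absurd this (by simp only [f0]; decide))
    refine Equiv.ext fun u => ?_
    rw [Perm.mul_apply, Perm.mul_apply]
    by_cases hu : u ∈ Set.range ι
    · obtain ⟨z, rfl⟩ := hu
      rw [hfix, fours_apply, hfix]
    · rw [fours_apply_of_notMem ι f hu, fours_apply_of_notMem ι f]
      rintro ⟨z, hz⟩
      exact hu ⟨z, by rw [← hfix z] at hz; exact g.injective hz⟩

end CfsgLib.SymBlocks
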