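import Cfsg.Agent.SymBlocks.Irr
import Cfsg.Agent.SymBlocks.Core
import Cfsg.Agent.Blocks.RegularSupport

/-!
Sets of irreducible characters of a symmetric group with a common core are unions of blocks.
-/

set_option autoImplicit false
set_option linter.unusedSectionVars false

namespace CfsgLib.SymBlocks

open Finset Equiv Equiv.Perm
open Cfsg (IrrCharacter classInner)
open CfsgLib.Blocks (IsBlockUnion)
open scoped ComplexConjugate

variable {n N p : ℕ}

theorem not_mem_parts_of_regular (hp : p.Prime) {σ : Perm (Fin n)} (h : ¬ p ∣ orderOf σ) {m : ℕ}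
    (hm : p ∣ m) : m ∉ σ.partition.parts := by
  intro hmem
  rw [Equiv.Perm.parts_partition] at hmem
  rcases Multiset.mem_add.mp hmem with h1 | h1
  · exact h (hm.trans (dvd_of_mem_cycleType h1))
  · rw [Multiset.eq_of_mem_replicate h1] at hm
    exact hp.not_dvd_one hm

theorem exists_dvd_of_dvd_lcm (hp : p.Prime) (s : Multiset ℕ) (h : p ∣ s.lcm) :
    ∃ m ∈ s, p ∣ m := by
  induction s using Multiset.induction_on with
  | empty =>
    rw [Multiset.lcm_zero] at h
    exact absurd h hp.not_dvd_one
  | cons m s ih =>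
    rw [Multiset.lcm_cons] at h
    rcases hp.dvd_mul.mp (h.trans (Nat.lcm_dvd_mul _ _)) with h1 | h1
    · exact ⟨m, Multiset.mem_cons_self _ _, h1⟩
    · obtain ⟨m', hm', h2⟩ := ih h1
      exact ⟨m', Multiset.mem_cons_of_mem hm', h2⟩

theorem exists_dvd_mem_parts (hp : p.Prime) {σ : Perm (Fin n)} (h : p ∣ orderOf σ) :
    ∃ m ∈ σ.partition.parts, p ∣ m := by
  obtain ⟨m, hm, hm'⟩ := exists_dvd_of_dvd_lcm hp σ.cycleType (by rwa [lcm_cycleType])
  exact ⟨m, by rw [Equiv.Perm.parts_partition]; exact Multiset.mem_add.mpr (Or.inl hm), hm'⟩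

/-- The coefficient vectors with given residues. -/
noncomputable def resTuples (n N p : ℕ) (c : Multiset ℕ) : Finset (Fin N → ℕ) :=
  (tuples n N).filter fun a => resid p a = c

/-- The irreducible characters attached to vectors with given residues. -/
def blockSet (n N p : ℕ) (c : Multiset ℕ) : Set (IrrCharacter (Perm (Fin n))) :=
  {θ | ∃ a ∈ resTuples n N p c, classInner (chi (n := n) a) (θ : Perm (Fin n) → ℂ) ≠ 0}

theorem exists_eq_smul_of_mem {c : Multiset ℕ} {θ : IrrCharacter (Perm (Fin n))}
    (h : θ ∈ blockSet n N p c) :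
    ∃ a ∈ resTuples n N p c, Function.Injective a ∧
      ∃ ε : ℂ, (ε = 1 ∨ ε = -1) ∧ (θ : Perm (Fin n) → ℂ) = ε • chi (n := n) a := by
  classical
  obtain ⟨a, ha, hne⟩ := h
  have hinj : Function.Injective a := by
    by_contra h; rw [chi_eq_zero h] at hne; simp [classInner] at hne
  obtain ⟨θ', ε, hε, e⟩ := exists_irr_chi (mem_tuples.mp (Finset.mem_filter.mp ha).1) hinj
  rw [e, Characters.classInner_smul_left, Characters.classInner_irr] at hne
  split_ifs at hne with h
  swap
  · simp at hne
  refine ⟨a, ha, hinj, ε, hε, ?_⟩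
  rw [e, ← h, smul_smul, show ε * ε = 1 by rcases hε with rfl | rfl <;> norm_num, one_smul]

theorem sum_blockSet_eq_zero (hp : p.Prime) (hN : n ≤ N) (c : Multiset ℕ)
    [DecidablePred (· ∈ blockSet n N p c)] {x y : Perm (Fin n)} (hx : ¬ p ∣ orderOf x)
    (hy : p ∣ orderOf y) :
    (∑ θ : IrrCharacter (Perm (Fin n)), if θ ∈ blockSet n N p c then
      (θ : Perm (Fin n) → ℂ) y * conj ((θ : Perm (Fin n) → ℂ) x) else 0) = 0 := by
  obtain ⟨m, hm, hpm⟩ := exists_dvd_mem_parts hp hy
  have hm1 : 1 ≤ m := y.partition.parts_pos hm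
  have h0 := sum_frob_mul_frob_eq_zero (N := N) (fun a => resid p a = c)
    (L := x.partition.parts) (L' := y.partition.parts) hm1 (not_mem_parts_of_regular hp hx hpm) hm
    (by rw [sum_parts, sum_parts]) (by rw [sum_parts]; exact hN)
    (fun b i j h => by rw [resid_raise b hpm] at h ⊢; exact h)
  have h1 := sum_chi_mul (n := n) (N := N) (fun a => resid p a = c)
    (fun a π h => by rw [resid_comp]; exact h) (blockSet n N p c) (fun θ => Iff.rfl) y x
  have h2 : ∑ a ∈ (tuples n N).filter (fun a => resid p a = c),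
      chi (n := n) a y * chi (n := n) a x = 0 := by
    rw [sum_parts] at h0
    have h' := congrArg (fun z : ℤ => (z : ℂ)) h0
    simp only [Int.cast_sum, Int.cast_mul, Int.cast_zero] at h'
    rw [← h', tuples]
    exact Finset.sum_congr rfl fun a _ => by simp [chi, mul_comm]
  rw [h2] at h1
  exact (mul_eq_zero.mp h1.symm).resolve_left (Nat.cast_ne_zero.mpr (Nat.factorial_pos N).ne')

variable {M : Ideal Cfsg.AlgInt} [M.IsPrime]

/-- **Nakayama's conjecture, one direction.** Characters in one block have the same core. -/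
theorem isBlockUnion_blockSet [Fact p.Prime] (hM : Cfsg.IsPModular p M) (hN : n ≤ N)
    (c : Multiset ℕ) : IsBlockUnion M (blockSet n N p c) := by
  classical
  refine Blocks.isBlockUnion_of_memLocalRing fun g => ?_
  rw [Blocks.blockCoeff_eq_sum]
  by_cases hg : p ∣ orderOf g
  · have h := sum_blockSet_eq_zero (n := n) (N := N) hM.1 hN c (x := 1) (y := g)
      (by rw [orderOf_one]; exact hM.1.not_dvd_one) hg
    have h' := congrArg conj h
    simp only [map_sum, apply_ite conj, map_mul, map_zero, Complex.conj_conj] at h'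
    rw [show (∑ θ : IrrCharacter (Perm (Fin n)), if θ ∈ blockSet n N p c then
      (θ : Perm (Fin n) → ℂ) 1 * conj ((θ : Perm (Fin n) → ℂ) g) else 0) = 0 from
      Eq.trans (Finset.sum_congr rfl fun θ _ => by split_ifs <;> ring) h', mul_zero]
    exact Subring.zero_mem (Blocks.localRing M)
  set F : Perm (Fin n) → ℂ := fun x => ∑ θ : IrrCharacter (Perm (Fin n)),
    if θ ∈ blockSet n N p c then (θ : Perm (Fin n) → ℂ) x * conj ((θ : Perm (Fin n) → ℂ) g) else 0
    with hF
  have hgen : Cfsg.IsGeneralizedCharacter (Perm (Fin n)) F := by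
    have e : F = ∑ θ : IrrCharacter (Perm (Fin n)),
        if θ ∈ blockSet n N p c then conj ((θ : Perm (Fin n) → ℂ) g) • (θ : Perm (Fin n) → ℂ)
        else 0 := by
      funext x
      simp only [hF, Finset.sum_apply]
      refine Finset.sum_congr rfl fun θ _ => ?_
      split_ifs
      · rw [Pi.smul_apply, smul_eq_mul, mul_comm]
      · rfl
    rw [e]
    refine Characters.isGen_sum _ _ fun θ _ => ?_
    split_ifs with h
    · obtain ⟨a, -, -, ε, hε, he⟩ := exists_eq_smul_of_mem h
      obtain ⟨z, hz⟩ : ∃ z : ℤ, conj ((θ : Perm (Fin n) → ℂ) g) = (z : ℂ) := by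
        rw [he]
        rcases hε with rfl | rfl
        · exact ⟨frob g.partition.parts a, by simp [chi]⟩
        · exact ⟨-frob g.partition.parts a, by simp [chi]⟩
      rw [hz]
      exact Characters.isGen_zsmul (Characters.isGen_of_isIrr θ.2) z
    · exact Characters.isGen_zero
  obtain ⟨P⟩ := (inferInstance : Nonempty (Sylow p (Perm (Fin n))))
  haveI : Fintype (P : Subgroup (Perm (Fin n))) := Fintype.ofFinite _
  obtain ⟨z, hz⟩ := Characters.classInner_gen
    (Characters.isGen_restrict (P : Subgroup (Perm (Fin n))) hgen) Characters.isGen_one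
  rw [Cfsg.classInner, Finset.sum_eq_single (1 : (P : Subgroup (Perm (Fin n))))
    (fun x _ hx => by
      have hne : (x : Perm (Fin n)) ≠ 1 := fun h => hx (Subtype.ext h)
      obtain ⟨k, hk⟩ := IsPGroup.iff_orderOf.mp P.isPGroup' x
      have hdvd : p ∣ orderOf (x : Perm (Fin n)) := by
        rw [Subgroup.orderOf_coe, hk]
        rcases k with _ | k
        · rw [pow_zero, orderOf_eq_one_iff] at hk; exact absurd hk hx
        · exact dvd_pow_self p k.succ_ne_zero
      show F x * _ = 0
      rw [hF]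
      simp only
      rw [sum_blockSet_eq_zero (n := n) (N := N) hM.1 hN c hg hdvd, zero_mul]) (by simp),
    map_one, mul_one] at hz
  have hidx := (P : Subgroup (Perm (Fin n))).card_mul_index
  have hP : (Nat.card (P : Subgroup (Perm (Fin n))) : ℂ) ≠ 0 := Nat.cast_ne_zero.mpr Nat.card_pos.ne'
  have e : (Nat.card (Perm (Fin n)) : ℂ)⁻¹ * F 1 =
      (z : ℂ) * ((P : Subgroup (Perm (Fin n))).index : ℂ)⁻¹ := by
    rw [← hz, ← hidx, Nat.cast_mul, mul_inv]
    simp only [OneMemClass.coe_one]
    ring
  change Cfsg.MemLocalRing M ((Nat.card (Perm (Fin n)) : ℂ)⁻¹ * F 1)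
  rw [e]
  refine Subring.mul_mem (Blocks.localRing M) ?_
    (Blocks.memLocalRing_natCast_inv hM (Sylow.not_dvd_index P))
  exact intCast_mem _ z

end CfsgLib.SymBlocks
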