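import Cfsg.Agent.SymBlocks.Frob
import Cfsg.Agent.Perm.PermChar
import Cfsg.Agent.Characters.Generalized

/-!
The alternant coefficients are generalized characters of symmetric groups.
-/

set_option autoImplicit false
set_option linter.unusedSectionVars false

namespace CfsgLib.SymBlocks

open Finset Equiv Equiv.Perm
open MvPolynomial hiding support

variable {n N : ℕ}

/-- The orbit of a point, as a finite set. -/
noncomputable def cls (σ : Perm (Fin n)) (x : Fin n) : Finset (Fin n) :=
  if x ∈ σ.support then (σ.cycleOf x).support else {x}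

theorem mem_cls {σ : Perm (Fin n)} {x y : Fin n} : y ∈ cls σ x ↔ σ.SameCycle x y := by
  rw [cls]
  split_ifs with h
  · rw [mem_support_cycleOf_iff]
    exact and_iff_left h
  · rw [Finset.mem_singleton]
    exact ⟨fun e => e ▸ SameCycle.refl _ _, fun hs => by
      obtain ⟨i, rfl⟩ := hs
      exact zpow_apply_eq_self_of_apply_eq_self (notMem_support.mp h) i⟩

theorem cls_eq_iff {σ : Perm (Fin n)} {x y : Fin n} : cls σ x = cls σ y ↔ σ.SameCycle x y := by
  refine ⟨fun h => mem_cls.mp (h ▸ mem_cls.mpr (SameCycle.refl _ _) : y ∈ cls σ x), fun h => ?_⟩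
  ext z
  rw [mem_cls, mem_cls]
  exact ⟨fun hz => h.symm.trans hz, fun hz => h.trans hz⟩

/-- The orbits of a permutation. -/
noncomputable def orbits (σ : Perm (Fin n)) : Finset (Finset (Fin n)) := Finset.univ.image (cls σ)

theorem parts_eq_orbits (σ : Perm (Fin n)) : σ.partition.parts = (orbits σ).1.map Finset.card := by
  classical
  have hdisj : Disjoint (σ.cycleFactorsFinset.image support)
      (σ.supportᶜ.image fun x => ({x} : Finset (Fin n))) := by
    rw [Finset.disjoint_left]
    intro s hs hs'
    obtain ⟨c, hc, rfl⟩ := Finset.mem_image.mp hs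
    obtain ⟨x, -, hx⟩ := Finset.mem_image.mp hs'
    have h2 := (mem_cycleFactorsFinset_iff.mp hc).1.two_le_card_support
    rw [← hx, Finset.card_singleton] at h2
    omega
  have horb : orbits σ = (σ.cycleFactorsFinset.image support).disjUnion
      (σ.supportᶜ.image fun x => ({x} : Finset (Fin n))) hdisj := by
    ext s
    simp only [orbits, Finset.mem_image, Finset.mem_univ, true_and, Finset.mem_disjUnion,
      Finset.mem_compl]
    constructor
    · rintro ⟨x, rfl⟩
      by_cases h : x ∈ σ.support
      · exact Or.inl ⟨_, cycleOf_mem_cycleFactorsFinset_iff.mpr h, by rw [cls, if_pos h]⟩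
      · exact Or.inr ⟨x, h, by rw [cls, if_neg h]⟩
    · rintro (⟨c, hc, rfl⟩ | ⟨x, hx, rfl⟩)
      · obtain ⟨x, hx⟩ := Finset.card_pos.mp
          (zero_lt_two.trans_le (mem_cycleFactorsFinset_iff.mp hc).1.two_le_card_support)
        refine ⟨x, ?_⟩
        rw [cls, if_pos (mem_cycleFactorsFinset_support_le hc hx),
          ← cycle_is_cycleOf hx hc]
      · exact ⟨x, by rw [cls, if_neg hx]⟩
  rw [horb, Finset.disjUnion_val, Multiset.map_add, Equiv.Perm.parts_partition]
  congr 1
  · rw [Finset.image_val_of_injOn, Multiset.map_map, cycleType_def]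
    intro c hc c' hc' e
    obtain ⟨x, hx⟩ := Finset.card_pos.mp
      (zero_lt_two.trans_le (mem_cycleFactorsFinset_iff.mp hc).1.two_le_card_support)
    rw [cycle_is_cycleOf hx hc, cycle_is_cycleOf (show x ∈ c'.support from e ▸ hx) hc']
  · rw [Finset.image_val_of_injOn (fun x _ y _ h => Finset.singleton_injective h), Multiset.map_map]
    have h1 : (σ.supportᶜ).1.map (Finset.card ∘ fun x => ({x} : Finset (Fin n))) =
        Multiset.replicate (σ.supportᶜ).card 1 := by
      rw [show (Finset.card ∘ fun x => ({x} : Finset (Fin n))) = Function.const _ 1 from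
        funext fun x => Finset.card_singleton x, Multiset.map_const, Finset.card_def]
    rw [h1, Finset.card_compl]

/-- Colourings with prescribed class sizes. -/
def Colouring (n : ℕ) (c : Fin N → ℕ) : Type :=
  {f : Fin n → Fin N // ∀ i, (Finset.univ.filter fun x => f x = i).card = c i}

noncomputable instance (c : Fin N → ℕ) : Fintype (Colouring n c) := by
  classical exact inferInstanceAs (Fintype {_f : Fin n → Fin N // _})

instance (c : Fin N → ℕ) : MulAction (Perm (Fin n)) (Colouring n c) where
  smul σ f := ⟨f.1 ∘ σ.symm, fun i => by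
    rw [← f.2 i]
    exact Finset.card_bij (fun x _ => σ.symm x) (fun x hx => by simpa using hx)
      (fun x _ y _ h => σ.symm.injective h) (fun y hy => ⟨σ y, by simpa using hy, by simp⟩)⟩
  one_smul f := Subtype.ext rfl
  mul_smul σ τ f := Subtype.ext rfl

/-- The number of colourings fixed by a permutation is a coefficient of power sums. -/
theorem card_fixed_colouring (σ : Perm (Fin n)) (c : Fin N → ℕ) :
    (Nat.card (MulAction.fixedBy (Colouring n c) σ) : ℤ) = pcoeff σ.partition.parts c := by
  classical
  have hP : (σ.partition.parts.map (powerSum N)).prod =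
      ∑ g : ↥(orbits σ) → Fin N, monomial (∑ o, Finsupp.single (g o) (o : Finset (Fin n)).card) (1 : ℤ) := by
    rw [parts_eq_orbits, Multiset.map_map]
    show ∏ o ∈ orbits σ, powerSum N o.card = _
    rw [← Finset.prod_coe_sort]
    simp only [powerSum]
    rw [Fintype.prod_sum]
    refine Finset.sum_congr rfl fun g _ => ?_
    simp only [X_pow_eq_monomial]
    rw [← monomial_sum_one]
  rw [pcoeff, hP, coeff_sum]
  simp only [coeff_monomial]
  rw [Finset.sum_boole, Nat.cast_inj, ← Nat.card_eq_finsetCard]
  let k : Fin n → ↥(orbits σ) := fun x => ⟨cls σ x, Finset.mem_image_of_mem _ (Finset.mem_univ x)⟩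
  have hksurj : Function.Surjective k := fun ⟨o, ho⟩ => by
    obtain ⟨x, -, hx⟩ := Finset.mem_image.mp ho
    exact ⟨x, Subtype.ext hx⟩
  have hmem : ∀ (o : ↥(orbits σ)) x, x ∈ (o : Finset (Fin n)) ↔ k x = o := fun o x => by
    obtain ⟨y, rfl⟩ := hksurj o
    exact ⟨fun h => Subtype.ext (cls_eq_iff.mpr (mem_cls.mp h)).symm,
      fun h => mem_cls.mpr (cls_eq_iff.mp (congrArg Subtype.val h).symm)⟩
  have hw : ∀ g : ↥(orbits σ) → Fin N,
      (∑ o, Finsupp.single (g o) (o : Finset (Fin n)).card) = Finsupp.equivFunOnFinite.symm c ↔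
        ∀ i, (Finset.univ.filter fun x => g (k x) = i).card = c i := by
    intro g
    have hcount : ∀ i, (∑ o, Finsupp.single (g o) (o : Finset (Fin n)).card) i =
        (Finset.univ.filter fun x => g (k x) = i).card := by
      intro i
      rw [Finsupp.finsetSum_apply, Finset.card_eq_sum_card_fiberwise (f := k) (t := Finset.univ)
        (fun x _ => Finset.mem_univ _)]
      refine Finset.sum_congr rfl fun o _ => ?_
      rw [Finsupp.single_apply]
      split_ifs with h
      · refine congrArg Finset.card ?_
        ext x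
        simp only [hmem, Finset.mem_filter, Finset.mem_univ, true_and]
        exact ⟨fun hx => ⟨hx ▸ h, hx⟩, fun hx => hx.2⟩
      · symm
        rw [Finset.card_eq_zero, Finset.filter_eq_empty_iff]
        intro x hx e
        simp only [Finset.mem_filter, Finset.mem_univ, true_and] at hx
        exact h (e ▸ hx)
    rw [Finsupp.ext_iff]
    simp only [hcount, Finsupp.equivFunOnFinite_symm_apply_apply]
  let S := Finset.univ.filter fun g : ↥(orbits σ) → Fin N =>
    (∑ o, Finsupp.single (g o) (o : Finset (Fin n)).card) = Finsupp.equivFunOnFinite.symm c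
  have hfixed : ∀ g : ↥S, (⟨g.1 ∘ k, (hw g.1).mp (Finset.mem_filter.mp g.2).2⟩ : Colouring n c) ∈
      MulAction.fixedBy (Colouring n c) σ := fun g => by
    apply Subtype.ext
    funext x
    show g.1 (k (σ.symm x)) = g.1 (k x)
    have hk : k (σ.symm x) = k x := by
      apply Subtype.ext
      exact cls_eq_iff.mpr ⟨1, by simp⟩
    rw [hk]
  refine Nat.card_congr (Equiv.ofBijective (fun g : ↥S => ⟨_, hfixed g⟩) ⟨?_, ?_⟩).symm
  · intro g g' h
    refine Subtype.ext (funext fun o => ?_)
    obtain ⟨x, rfl⟩ := hksurj o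
    exact congrFun (congrArg (fun f : MulAction.fixedBy (Colouring n c) σ => f.1.1) h) x
  · rintro ⟨⟨f, hf⟩, hfix⟩
    have h1 : ∀ x, f (σ.symm x) = f x := congrFun (congrArg Subtype.val hfix)
    have h2 : ∀ (m : ℕ) x, f ((σ ^ m) x) = f x := by
      intro m
      induction m with
      | zero => simp
      | succ m ih =>
        intro x
        rw [pow_succ', Perm.mul_apply, ← h1 (σ _), Equiv.symm_apply_apply, ih]
    have hconst : ∀ x y, k x = k y → f x = f y := by
      intro x y hxy
      obtain ⟨m, hm⟩ := (cls_eq_iff.mp (congrArg Subtype.val hxy)).exists_nat_pow_eq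
      rw [← hm, h2]
    let r := Function.surjInv hksurj
    have e : (fun o => f (r o)) ∘ k = f :=
      funext fun x => hconst _ _ (Function.surjInv_eq hksurj (k x))
    refine ⟨⟨fun o => f (r o), Finset.mem_filter.mpr ⟨Finset.mem_univ _, (hw _).mpr fun i => ?_⟩⟩,
      Subtype.ext (Subtype.ext e)⟩
    rw [← hf i]
    exact congrArg Finset.card (Finset.filter_congr fun x _ => by
      rw [show f (r (k x)) = f x from congrFun e x])

/-- The character indexed by an exponent vector. -/
noncomputable def chi (a : Fin N → ℕ) : Perm (Fin n) → ℂ := fun σ => (frob σ.partition.parts a : ℂ)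

theorem isGen_chi (a : Fin N → ℕ) :
    Cfsg.IsGeneralizedCharacter (Perm (Fin n)) (chi (n := n) a) := by
  classical
  have e : chi (n := n) a = ∑ π : Perm (Fin N), ((Perm.sign π : ℤ) : ℂ) •
      (if ∀ k, stair π k ≤ a k then
        CfsgLib.Perm.PermChar.perm (Perm (Fin n)) (Colouring n (a - stair π)) else 0) := by
    funext σ
    simp only [chi, frob, Finset.sum_apply, Pi.smul_apply, smul_eq_mul, Int.cast_sum, Int.cast_mul]
    refine Finset.sum_congr rfl fun π _ => ?_
    congr 1
    split_ifs
    · rw [← card_fixed_colouring]; simp [CfsgLib.Perm.PermChar.perm]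
    · simp
  rw [e]
  refine Characters.isGen_sum _ _ fun π _ => Characters.isGen_zsmul ?_ _
  split_ifs
  · exact Characters.isGen_of_isCharacter CfsgLib.Perm.PermChar.isCharacter_perm
  · exact Characters.isGen_zero

end CfsgLib.SymBlocks
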