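import Cfsg.Agent.SymBlocks.Count

/-!
Reflected complements of sets of beads, runner by runner.
-/

set_option autoImplicit false
set_option linter.unusedSectionVars false

namespace CfsgLib.SymBlocks

open Finset

/-- The reflected complement of a set of beads below `L`. -/
def refl (L : ℕ) (S : Finset ℕ) : Finset ℕ := (Finset.range L \ S).image fun x => L - 1 - x

theorem mem_refl {L x : ℕ} {S : Finset ℕ} : x ∈ refl L S ↔ x < L ∧ L - 1 - x ∉ S := by
  simp only [refl, Finset.mem_image, Finset.mem_sdiff, Finset.mem_range]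
  constructor
  · rintro ⟨y, ⟨hy, hyS⟩, rfl⟩
    refine ⟨by omega, ?_⟩
    rwa [show L - 1 - (L - 1 - y) = y by omega]
  · rintro ⟨hx, hS⟩
    exact ⟨L - 1 - x, ⟨by omega, hS⟩, by omega⟩

theorem refl_injOn (L : ℕ) : Set.InjOn (fun x => L - 1 - x) (Finset.range L : Set ℕ) := by
  intro x hx y hy h
  simp only [Finset.coe_range, Set.mem_Iio] at hx hy
  simp only at h
  omega

theorem card_refl {L : ℕ} {S : Finset ℕ} (h : S ⊆ Finset.range L) :
    (refl L S).card + S.card = L := by
  rw [refl, Finset.card_image_of_injOn ((refl_injOn L).mono (Finset.coe_subset.mpr Finset.sdiff_subset)),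
    Finset.card_sdiff_add_card_eq_card h, Finset.card_range]

theorem refl_refl {L : ℕ} {S : Finset ℕ} (h : S ⊆ Finset.range L) : refl L (refl L S) = S := by
  ext x
  simp only [mem_refl, not_and, not_not]
  constructor
  · rintro ⟨hx, h'⟩
    have := h' (by omega)
    rwa [show L - 1 - (L - 1 - x) = x by omega] at this
  · intro hx
    have := Finset.mem_range.mp (h hx)
    refine ⟨this, fun _ => ?_⟩
    rwa [show L - 1 - (L - 1 - x) = x by omega]

theorem choose_two_add (a b : ℕ) : (a + b).choose 2 = a.choose 2 + b.choose 2 + a * b := by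
  induction a with
  | zero => simp
  | succ a ih =>
    rw [show a + 1 + b = (a + b) + 1 by omega, Nat.choose_succ_succ, Nat.choose_one_right,
      Nat.choose_succ_succ, Nat.choose_one_right, Nat.add_mul, one_mul]
    change a + b + (a + b).choose 2 = a + a.choose 2 + b.choose 2 + (a * b + b)
    omega

theorem choose_two_twice (a : ℕ) : 2 * a.choose 2 + a = a * a := by
  induction a with
  | zero => simp
  | succ a ih =>
    rw [Nat.choose_succ_succ, Nat.choose_one_right, Nat.mul_add a.succ]
    change 2 * (a + a.choose 2) + (a + 1) = (a + 1) * a + (a + 1) * 1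
    rw [Nat.add_mul]
    omega

/-- Reflected complements have the same excess. -/
theorem sum_refl {L : ℕ} {S : Finset ℕ} (h : S ⊆ Finset.range L) :
    ∑ x ∈ refl L S, x + S.card.choose 2 = ∑ x ∈ S, x + (refl L S).card.choose 2 := by
  have hinj := (refl_injOn L).mono (Finset.coe_subset.mpr (Finset.sdiff_subset (t := S)))
  have hc : (refl L S).card = (Finset.range L \ S).card := Finset.card_image_of_injOn hinj
  have hcs := card_refl h
  rw [hc] at hcs ⊢
  have h1 : ∑ x ∈ refl L S, x + ∑ x ∈ Finset.range L \ S, x + (Finset.range L \ S).card =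
      (Finset.range L \ S).card * L := by
    rw [refl, Finset.sum_image hinj, Finset.card_eq_sum_ones, ← Finset.sum_add_distrib,
      ← Finset.sum_add_distrib, Finset.sum_mul]
    refine Finset.sum_congr rfl fun x hx => ?_
    have := Finset.mem_range.mp (Finset.mem_sdiff.mp hx).1
    omega
  have h2 := Finset.sum_sdiff (f := fun x => x) h
  rw [Finset.sum_range_id, ← Nat.choose_two_right] at h2
  have h3 := choose_two_add (Finset.range L \ S).card S.card
  have h4 := choose_two_twice (Finset.range L \ S).card
  rw [hcs] at h3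
  have h5 : (Finset.range L \ S).card * L =
      (Finset.range L \ S).card * (Finset.range L \ S).card + (Finset.range L \ S).card * S.card := by
    rw [← Nat.mul_add, hcs]
  omega

theorem refl_range {L c : ℕ} (h : c ≤ L) : refl L (Finset.range c) = Finset.range (L - c) := by
  ext x
  simp only [mem_refl, Finset.mem_range]
  omega

/-- The beads on one runner. -/
def runner (p r : ℕ) (S : Finset ℕ) : Finset ℕ := (S.filter fun y => y % p = r).image fun y => y / p

theorem mem_runner {p r x : ℕ} (hr : r < p) {S : Finset ℕ} : x ∈ runner p r S ↔ r + p * x ∈ S := by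
  simp only [runner, Finset.mem_image, Finset.mem_filter]
  constructor
  · rintro ⟨y, ⟨hy, rfl⟩, rfl⟩
    rwa [Nat.mod_add_div]
  · intro h
    refine ⟨_, ⟨h, ?_⟩, ?_⟩
    · rw [Nat.add_mul_mod_self_left, Nat.mod_eq_of_lt hr]
    · rw [Nat.add_mul_div_left _ _ (by omega), Nat.div_eq_of_lt hr, Nat.zero_add]

theorem eq_of_runner {p : ℕ} (hp : 0 < p) {S T : Finset ℕ}
    (h : ∀ r < p, runner p r S = runner p r T) : S = T := by
  ext y
  have hlt := Nat.mod_lt y hp
  have e := congrArg (fun X : Finset ℕ => y / p ∈ X) (h _ hlt)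
  simp only [mem_runner hlt, Nat.mod_add_div] at e
  exact Iff.of_eq e

/-- A runner of a reflected complement is the reflected complement of the opposite runner. -/
theorem runner_refl {p r r' L n : ℕ} (hr : r < p) (hr' : r' < p) (hL : 0 < L)
    (h : r + r' + p * (L - 1) + 1 = n) (S : Finset ℕ) :
    runner p r (refl n S) = refl L (runner p r' S) := by
  ext x
  rw [mem_runner hr, mem_refl, mem_refl, mem_runner hr']
  have key : r + p * x < n ↔ x < L := by
    constructor
    · intro h'
      by_contra hx
      have := Nat.mul_le_mul_left p (not_lt.mp hx)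
      have e : p * L = p * (L - 1) + p := by
        conv_lhs => rw [show L = L - 1 + 1 by omega, Nat.mul_add, mul_one]
      omega
    · intro hx
      have := Nat.mul_le_mul_left p (show x ≤ L - 1 by omega)
      omega
  rw [key]
  refine and_congr_right fun hx => ?_
  have : r' + p * (L - 1 - x) = n - 1 - (r + p * x) := by
    have := Nat.mul_le_mul_left p (show x ≤ L - 1 by omega)
    rw [Nat.mul_sub]
    omega
  rw [this]

theorem runner_subset {p r L : ℕ} (hr : r < p) {n : ℕ} (h : n ≤ r + p * L) {S : Finset ℕ}
    (hS : S ⊆ Finset.range n) : runner p r S ⊆ Finset.range L := by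
  intro x hx
  rw [mem_runner hr] at hx
  have := Finset.mem_range.mp (hS hx)
  rw [Finset.mem_range]
  by_contra hne
  have := Nat.mul_le_mul_left p (not_lt.mp hne)
  omega

/-- A self-conjugate middle runner is given by its upper half, whose weight is its excess. -/
theorem middle_excess {q : ℕ} {S : Finset ℕ} (hS : S ⊆ Finset.range (2 * q + 2))
    (hsym : refl (2 * q + 2) S = S) :
    ∑ x ∈ S, x = S.card.choose 2 +
      ∑ t ∈ (S.filter fun x => q + 1 ≤ x).image (fun x => x - (q + 1)), (2 * t + 1) ∧
    S.card = q + 1 := by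
  have hc := card_refl hS
  rw [hsym] at hc
  have hcard : S.card = q + 1 := by omega
  refine ⟨?_, hcard⟩
  have hlow : Finset.range (q + 1) \ S =
      (S.filter fun x => q + 1 ≤ x).image fun x => 2 * q + 1 - x := by
    ext y
    simp only [Finset.mem_sdiff, Finset.mem_range, Finset.mem_image, Finset.mem_filter]
    constructor
    · rintro ⟨hy, hyS⟩
      refine ⟨2 * q + 1 - y, ⟨?_, by omega⟩, by omega⟩
      by_contra hn
      exact hyS (by
        rw [← hsym, mem_refl]
        exact ⟨by omega, by rwa [show 2 * q + 2 - 1 - y = 2 * q + 1 - y by omega]⟩)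
    · rintro ⟨x, ⟨hx, hxq⟩, rfl⟩
      have hx2 := Finset.mem_range.mp (hS hx)
      refine ⟨by omega, fun h => ?_⟩
      rw [← hsym, mem_refl] at h
      refine h.2 ?_
      rwa [show 2 * q + 2 - 1 - (2 * q + 1 - x) = x by omega]
  have hinj1 : Set.InjOn (fun x => 2 * q + 1 - x) (S.filter fun x => q + 1 ≤ x : Finset ℕ) := by
    intro x hx y hy h
    simp only [Finset.coe_filter, Set.mem_ofPred_eq] at hx hy
    have := Finset.mem_range.mp (hS hx.1)
    have := Finset.mem_range.mp (hS hy.1)
    simp only at h
    omega
  have hinj2 : Set.InjOn (fun x => x - (q + 1)) (S.filter fun x => q + 1 ≤ x : Finset ℕ) := by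
    intro x hx y hy h
    simp only [Finset.coe_filter, Set.mem_ofPred_eq] at hx hy
    simp only at h
    omega
  have h1 := Finset.sum_sdiff (f := fun x => x)
    (show S.filter (fun x => x < q + 1) ⊆ Finset.range (q + 1) from fun x hx =>
      Finset.mem_range.mpr (Finset.mem_filter.mp hx).2)
  rw [show Finset.range (q + 1) \ S.filter (fun x => x < q + 1) = Finset.range (q + 1) \ S by
    ext x
    simp only [Finset.mem_sdiff, Finset.mem_range, Finset.mem_filter, not_and, not_lt]
    exact ⟨fun h => ⟨h.1, fun hx => by have := h.2 hx; omega⟩, fun h => ⟨h.1, fun hx => absurd hx h.2⟩⟩,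
    hlow, Finset.sum_image hinj1, Finset.sum_range_id,
    ← Nat.choose_two_right] at h1
  have h2 := Finset.sum_filter_add_sum_filter_not S (fun x => q + 1 ≤ x) (fun x => x)
  rw [show S.filter (fun x => ¬ q + 1 ≤ x) = S.filter (fun x => x < q + 1) by
    refine Finset.filter_congr fun x _ => ?_; exact not_le] at h2
  have h3 : ∑ x ∈ S.filter (fun x => q + 1 ≤ x), (2 * q + 1 - x) +
      ∑ t ∈ (S.filter fun x => q + 1 ≤ x).image (fun x => x - (q + 1)), (2 * t + 1) =
      ∑ x ∈ S.filter (fun x => q + 1 ≤ x), x := by
    rw [Finset.sum_image hinj2, ← Finset.sum_add_distrib]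
    refine Finset.sum_congr rfl fun x hx => ?_
    obtain ⟨hx, hxq⟩ := Finset.mem_filter.mp hx
    have := Finset.mem_range.mp (hS hx)
    omega
  rw [hcard]
  omega

end CfsgLib.SymBlocks
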