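import Cfsg.Agent.SymBlocks.Irr
import Cfsg.Agent.SymBlocks.Reflect

/-!
Tensoring with the sign character reflects and complements the exponent vector.
-/

set_option autoImplicit false
set_option linter.unusedSectionVars false

namespace CfsgLib.SymBlocks

open Finset Equiv Equiv.Perm
open Cfsg (IrrCharacter classInner)

variable {n N : ℕ}

/-- The staircase of beads followed by the reflected staircase of holes. -/
def base (N : ℕ) : Fin N ⊕ Fin N → ℕ :=
  Sum.elim (fun i => (i : ℕ)) fun j => 2 * N - 1 - (j : ℕ)

/-- Reflection of a vector. -/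
def rev (N : ℕ) (b : Fin N → ℕ) : Fin N → ℕ := fun j => 2 * N - 1 - b j

theorem base_lt (z : Fin N ⊕ Fin N) : base N z < 2 * N := by
  rcases z with i | j
  · have := i.2; simp only [base, Sum.elim_inl]; omega
  · have := j.2; simp only [base, Sum.elim_inr]; omega

theorem base_injective : Function.Injective (base N) := by
  rintro (i | i) (j | j) h <;> have := i.2 <;> have := j.2 <;>
    simp only [base, Sum.elim_inl, Sum.elim_inr] at h
  · rw [Fin.val_injective h]
  · omega
  · omega
  · rw [Fin.val_injective (show (i : ℕ) = j by omega)]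

theorem exists_base_eq {v : ℕ} (hv : v < 2 * N) : ∃ z, base N z = v := by
  by_cases h : v < N
  · exact ⟨Sum.inl ⟨v, h⟩, rfl⟩
  · exact ⟨Sum.inr ⟨2 * N - 1 - v, by omega⟩, by simp only [base, Sum.elim_inr]; omega⟩

/-- Beads and holes are a permutation of the two staircases. -/
theorem exists_perm_base {a b : Fin N → ℕ} (hinj : Function.Injective (Sum.elim a b))
    (hlt : ∀ z, Sum.elim a b z < 2 * N) :
    ∃ π : Perm (Fin N ⊕ Fin N), ∀ z, Sum.elim a b z = base N (π z) := by
  choose f hf using fun z => exists_base_eq (hlt z)
  have hfinj : Function.Injective f := fun x y h => hinj (by rw [← hf x, ← hf y, h])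
  exact ⟨Equiv.ofBijective f hfinj.bijective_of_finite, fun z => (hf z).symm⟩

theorem conj_zero_eq {a b : Fin N → ℕ} {π : Perm (Fin N ⊕ Fin N)}
    (h : ∀ z, Sum.elim a b z = base N (π z)) :
    frob 0 a = ((Perm.sign π : ℤ)) * frob 0 (rev N b) := by
  rw [frob_zero, frob_zero]
  by_cases ha : ∀ i, a i < N
  · have ha' : ∀ i, ∃ k, π (Sum.inl i) = Sum.inl k := by
      intro i
      rcases he : π (Sum.inl i) with k | k
      · exact ⟨k, rfl⟩
      · have h1 := h (Sum.inl i)
        rw [he] at h1
        have h' := ha i
        have := k.2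
        simp only [base, Sum.elim_inl, Sum.elim_inr] at h1
        omega
    choose f hf using ha'
    have hfb : Function.Bijective f := (Function.Injective.bijective_of_finite fun x y e =>
      Sum.inl_injective (π.injective (by rw [hf, hf, e])))
    have hb' : ∀ j, ∃ k, π (Sum.inr j) = Sum.inr k := by
      intro j
      rcases he : π (Sum.inr j) with k | k
      · obtain ⟨i, rfl⟩ := hfb.2 k
        rw [← hf i] at he
        exact absurd (π.injective he) (by simp)
      · exact ⟨k, rfl⟩
    choose g hg using hb'
    have hgb : Function.Bijective g := (Function.Injective.bijective_of_finite fun x y e =>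
      Sum.inr_injective (π.injective (by rw [hg, hg, e])))
    have hπ : π = Equiv.Perm.sumCongr (Equiv.ofBijective f hfb) (Equiv.ofBijective g hgb) := by
      ext (i | j)
      · simp [hf]
      · simp [hg]
    have ea : a = (fun i : Fin N => (i : ℕ)) ∘ ⇑(Equiv.ofBijective f hfb) := funext fun i => by
      simpa [base, hf] using h (Sum.inl i)
    have eb : rev N b = (fun i : Fin N => (i : ℕ)) ∘ ⇑(Equiv.ofBijective g hgb) := funext fun j => by
      have := h (Sum.inr j)
      have := (g j).2
      simp only [base, hg, Sum.elim_inr, rev] at *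
      simp only [Function.comp_apply, Equiv.ofBijective_apply]
      omega
    rw [ea, eb, dlt_comp, dlt_comp, dlt_self Fin.val_injective, hπ, Equiv.Perm.sign_sumCongr,
      Units.val_mul, mul_one, mul_one, mul_assoc, Int.units_coe_mul_self, mul_one]
  · push Not at ha
    obtain ⟨i, hi⟩ := ha
    rw [dlt_eq_zero fun σ e => by
      have := congrFun e (σ.symm i)
      have := (σ.symm i).2
      simp only [Function.comp_apply, Equiv.apply_symm_apply] at *
      omega, dlt_eq_zero fun σ e => ?_, mul_zero]
    -- the beads at or above `N` leave a hole below `N`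
    obtain ⟨z, hz⟩ : ∃ z, base N (π (Sum.inl i)) = base N z := ⟨_, rfl⟩
    have hlt : ∀ j, rev N b j < N := fun j => by
      have := congrFun e (σ.symm j)
      have := (σ.symm j).2
      simp only [Function.comp_apply, Equiv.apply_symm_apply] at *
      omega
    have hb' : ∀ j, ∃ k, π (Sum.inr j) = Sum.inr k := by
      intro j
      rcases he : π (Sum.inr j) with k | k
      · have h1 := h (Sum.inr j)
        have := hlt j
        have := k.2
        rw [he] at h1
        simp only [base, Sum.elim_inr, Sum.elim_inl, rev] at *
        omega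
      · exact ⟨k, rfl⟩
    choose g hg using hb'
    have hgb : Function.Bijective g := (Function.Injective.bijective_of_finite fun x y e =>
      Sum.inr_injective (π.injective (by rw [hg, hg, e])))
    rcases he : π (Sum.inl i) with k | k
    · have h1 := h (Sum.inl i)
      rw [he] at h1
      simp only [base, Sum.elim_inl] at h1
      have := k.2
      omega
    · obtain ⟨j, rfl⟩ := hgb.2 k
      rw [← hg j] at he
      exact absurd (π.injective he) (by simp)

/-- The effect of moving a bead into a hole. -/
theorem elim_swap {a b : Fin N → ℕ} {i j : Fin N} {m : ℕ} (h : a i = b j + m) (z : Fin N ⊕ Fin N) :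
    Sum.elim (lower a i m) (raise b j m) z =
      Sum.elim a b (Equiv.swap (Sum.inl i) (Sum.inr j) z) := by
  rcases z with k | k
  · by_cases hk : k = i
    · subst hk
      rw [Equiv.swap_apply_left, Sum.elim_inl, Sum.elim_inr, lower_self]
      omega
    · rw [Equiv.swap_apply_of_ne_of_ne (fun e => hk (Sum.inl_injective e)) Sum.inl_ne_inr,
        Sum.elim_inl, Sum.elim_inl, lower_ne _ hk]
  · by_cases hk : k = j
    · subst hk
      rw [Equiv.swap_apply_right, Sum.elim_inl, Sum.elim_inr, raise_self]
      omega
    · rw [Equiv.swap_apply_of_ne_of_ne Sum.inr_ne_inl (fun e => hk (Sum.inr_injective e)),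
        Sum.elim_inr, Sum.elim_inr, raise_ne _ hk]

/-- **Conjugation.** -/
theorem frob_rev : ∀ (L : Multiset ℕ), (∀ m ∈ L, 1 ≤ m) → ∀ (a b : Fin N → ℕ)
    (π : Perm (Fin N ⊕ Fin N)), (∀ z, Sum.elim a b z = base N (π z)) →
    frob L a = (-1) ^ Multiset.card L * (Perm.sign π : ℤ) * frob L (rev N b) := by
  intro L
  induction L using Multiset.induction_on with
  | empty =>
    intro _ a b π h
    simpa using conj_zero_eq h
  | cons m L ih =>
    intro hL a b π h
    have hm : 1 ≤ m := hL m (Multiset.mem_cons_self _ _)
    have hinj : Function.Injective (Sum.elim a b) := fun x y e =>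
      π.injective (base_injective (by rw [← h, ← h, e]))
    have hcov : ∀ v < 2 * N, (∃ i, a i = v) ∨ ∃ j, b j = v := by
      intro v hv
      obtain ⟨z, hz⟩ := exists_base_eq hv
      rcases he : π.symm z with i | j
      · refine Or.inl ⟨i, ?_⟩
        have h' := h (Sum.inl i)
        rw [← he, Equiv.apply_symm_apply, hz, he] at h'
        exact h'
      · refine Or.inr ⟨j, ?_⟩
        have h' := h (Sum.inr j)
        rw [← he, Equiv.apply_symm_apply, hz, he] at h'
        exact h'
    have halt : ∀ z, Sum.elim a b z < 2 * N := fun z => h z ▸ base_lt _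
    have ha : Function.Injective a := fun x y e => Sum.inl_injective (hinj (a₁ := Sum.inl x)
      (a₂ := Sum.inl y) e)
    have hb : Function.Injective b := fun x y e => Sum.inr_injective (hinj (a₁ := Sum.inr x)
      (a₂ := Sum.inr y) e)
    have hab : ∀ i j, a i ≠ b j := fun i j e => Sum.inl_ne_inr (hinj (a₁ := Sum.inl i)
      (a₂ := Sum.inr j) e)
    have hl : ∀ i, (if m ≤ a i then frob L (lower a i m) else 0) =
        ∑ j, if a i = b j + m then frob L (lower a i m) else 0 := by
      intro i
      by_cases hmi : m ≤ a i
      swap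
      · rw [if_neg hmi, Finset.sum_eq_zero fun j _ => if_neg (by omega)]
      rw [if_pos hmi]
      rcases hcov (a i - m) (by have := halt (Sum.inl i); simp only [Sum.elim_inl] at this; omega)
        with ⟨k, hk⟩ | ⟨j, hj⟩
      · have hki : k ≠ i := fun e => by subst e; omega
        rw [Finset.sum_eq_zero fun j _ => if_neg fun e => hab k j (by omega),
          (frob_alternating L).repeated _ k i hki (by rw [lower_self, lower_ne _ hki, hk])]
      · rw [Finset.sum_eq_single j (fun j' _ hj' => if_neg fun e => hj' (hb (by omega))) (by simp),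
          if_pos (by omega)]
    have hr : ∀ j, (if m ≤ rev N b j then frob L (lower (rev N b) j m) else 0) =
        ∑ i, if a i = b j + m then frob L (lower (rev N b) j m) else 0 := by
      intro j
      by_cases hmj : m ≤ rev N b j
      swap
      · rw [if_neg hmj, Finset.sum_eq_zero fun i _ => if_neg fun e => hmj (by
          have := halt (Sum.inl i); simp only [Sum.elim_inl] at this; simp only [rev]; omega)]
      rw [if_pos hmj]
      simp only [rev] at hmj
      rcases hcov (b j + m) (by omega) with ⟨i, hi⟩ | ⟨k, hk⟩
      · rw [Finset.sum_eq_single i (fun i' _ hi' => if_neg fun e => hi' (ha (by omega))) (by simp),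
          if_pos (by omega)]
      · have hkj : k ≠ j := fun e => by subst e; omega
        rw [Finset.sum_eq_zero fun i _ => if_neg fun e => hab i k (by omega),
          (frob_alternating L).repeated _ k j hkj (by
            rw [lower_self, lower_ne _ hkj]; simp only [rev]; omega)]
    rw [frob_cons, frob_cons, Finset.sum_congr rfl fun i _ => hl i,
      Finset.sum_congr rfl fun j _ => hr j, Finset.sum_comm, Finset.mul_sum]
    refine Finset.sum_congr rfl fun j _ => ?_
    rw [Finset.mul_sum]
    refine Finset.sum_congr rfl fun i _ => ?_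
    split_ifs with hij
    · have hstep : ∀ z, Sum.elim (lower a i m) (raise b j m) z =
          base N ((π * Equiv.swap (Sum.inl i) (Sum.inr j)) z) := fun z => by
        rw [elim_swap hij, h, Perm.mul_apply]
      rw [ih (fun x hx => hL x (Multiset.mem_cons_of_mem hx)) _ _ _ hstep, map_mul,
        Perm.sign_swap Sum.inl_ne_inr, Multiset.card_cons, pow_succ]
      have e : rev N (raise b j m) = lower (rev N b) j m := by
        funext k
        by_cases hk : k = j
        · subst hk; simp only [rev, raise_self, lower_self]; omega
        · simp only [rev, raise_ne _ hk, lower_ne _ hk]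
      rw [e]
      simp
    · simp

theorem sign_eq_parts (σ : Perm (Fin n)) :
    ((-1 : ℤ) ^ Multiset.card σ.partition.parts) = (-1) ^ n * (Perm.sign σ : ℤ) := by
  rw [Equiv.Perm.parts_partition, Multiset.card_add, Multiset.card_replicate, ← sum_cycleType,
    Fintype.card_fin, Equiv.Perm.sign_of_cycleType]
  have hle := σ.sum_cycleType_le
  rw [Fintype.card_fin] at hle
  push_cast
  rw [← pow_add]
  rw [show n + (σ.cycleType.sum + Multiset.card σ.cycleType) =
    (Multiset.card σ.cycleType + (n - σ.cycleType.sum)) + 2 * σ.cycleType.sum by omega, pow_add]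
  rw [pow_add, pow_add, pow_mul (-1 : ℤ) 2, neg_one_sq, one_pow, mul_one]

/-- The set of entries. -/
def entries (a : Fin N → ℕ) : Finset ℕ := Finset.univ.image a

theorem card_entries {a : Fin N → ℕ} (ha : Function.Injective a) : (entries a).card = N := by
  rw [entries, Finset.card_image_of_injective _ ha, Finset.card_univ, Fintype.card_fin]

theorem entries_subset (hN : n ≤ N) {a : Fin N → ℕ} (hs : ∑ i, a i = n + N.choose 2)
    (ha : Function.Injective a) : entries a ⊆ Finset.range (2 * N) := by
  intro x hx
  have h := lt_of_mem_of_sum_le (w := n) hx (by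
    rw [card_entries ha, entries, Finset.sum_image fun i _ j _ h => ha h]
    omega)
  rw [card_entries ha] at h
  exact Finset.mem_range.mpr (by omega)

/-- **The associated character.** -/
theorem exists_conjugate (hN : n ≤ N) {a : Fin N → ℕ} (hs : ∑ i, a i = n + N.choose 2)
    (ha : Function.Injective a) :
    ∃ a' : Fin N → ℕ, (∑ i, a' i = n + N.choose 2) ∧ Function.Injective a' ∧
      entries a' = refl (2 * N) (entries a) ∧
      ∃ δ : ℂ, (δ = 1 ∨ δ = -1) ∧ ∀ σ : Perm (Fin n),
        chi (n := n) a' σ = δ * ((Perm.sign σ : ℤ) : ℂ) * chi (n := n) a σ := by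
  classical
  have hsub := entries_subset hN hs ha
  have hholes : (Finset.range (2 * N) \ entries a).card = N := by
    have := Finset.card_sdiff_add_card_eq_card hsub
    rw [card_entries ha, Finset.card_range] at this
    omega
  let b : Fin N → ℕ := fun j => (Finset.range (2 * N) \ entries a).orderEmbOfFin hholes j
  have hbim : Finset.univ.image b = Finset.range (2 * N) \ entries a :=
    Finset.image_orderEmbOfFin_univ _ hholes
  have hbmem : ∀ j, b j < 2 * N ∧ b j ∉ entries a := fun j => by
    have := Finset.mem_sdiff.mp (Finset.orderEmbOfFin_mem _ hholes j)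
    exact ⟨Finset.mem_range.mp this.1, this.2⟩
  have hbinj : Function.Injective b := fun x y e => ((Finset.range (2 * N) \ entries a).orderEmbOfFin
    hholes).injective e
  have hinj : Function.Injective (Sum.elim a b) := by
    rintro (x | x) (y | y) e <;> simp only [Sum.elim_inl, Sum.elim_inr] at e
    · rw [ha e]
    · exact absurd (e ▸ Finset.mem_image_of_mem a (Finset.mem_univ x)) (hbmem y).2
    · exact absurd (e.symm ▸ Finset.mem_image_of_mem a (Finset.mem_univ y)) (hbmem x).2
    · rw [hbinj e]
  have hlt : ∀ z, Sum.elim a b z < 2 * N := by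
    rintro (x | x)
    · exact Finset.mem_range.mp (hsub (Finset.mem_image_of_mem a (Finset.mem_univ x)))
    · exact (hbmem x).1
  obtain ⟨π, hπ⟩ := exists_perm_base hinj hlt
  have hrinj : Function.Injective (rev N b) := fun x y e => hbinj (by
    have := (hbmem x).1
    have := (hbmem y).1
    simp only [rev] at e
    omega)
  have hchi : ∀ σ : Perm (Fin n), chi (n := n) (rev N b) σ =
      (((-1 : ℤ) ^ n * (Perm.sign π : ℤ) : ℤ) : ℂ) * ((Perm.sign σ : ℤ) : ℂ) *
        chi (n := n) a σ := by
    intro σ
    have h := frob_rev σ.partition.parts (fun m hm => σ.partition.parts_pos hm) a b π hπ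
    rw [sign_eq_parts] at h
    have h1 : ((Perm.sign σ : ℤ)) * (Perm.sign σ : ℤ) = 1 := Int.units_coe_mul_self _
    have h2 : ((Perm.sign π : ℤ)) * (Perm.sign π : ℤ) = 1 := Int.units_coe_mul_self _
    have h3 : ((-1 : ℤ) ^ n) * (-1) ^ n = 1 := by rw [← mul_pow]; simp
    simp only [chi, ← Int.cast_mul]
    rw [h]
    congr 1
    linear_combination -((Perm.sign σ : ℤ) * (Perm.sign σ : ℤ) * (Perm.sign π : ℤ) *
      (Perm.sign π : ℤ) * frob σ.partition.parts (rev N b)) * h3
      - ((Perm.sign π : ℤ) * (Perm.sign π : ℤ) * frob σ.partition.parts (rev N b)) * h1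
      - frob σ.partition.parts (rev N b) * h2
  refine ⟨rev N b, ?_, hrinj, ?_, _, ?_, hchi⟩
  · by_contra hne
    have h1 := hchi 1
    rw [show chi (n := n) (rev N b) 1 = 0 by
      rw [chi, frob_eq_zero_of_sum (by rwa [sum_parts]), Int.cast_zero]] at h1
    exact mul_ne_zero (mul_ne_zero (Int.cast_ne_zero.mpr (mul_ne_zero (pow_ne_zero _ (by norm_num))
      (Units.ne_zero _))) (Int.cast_ne_zero.mpr (Units.ne_zero _))) (chi_one_ne_zero hs ha) h1.symm
  · rw [refl, ← hbim, Finset.image_image]
    rfl
  · rcases neg_one_pow_eq_or ℤ n with e | e <;>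
      rcases Int.units_eq_one_or (Perm.sign π) with e' | e' <;> simp [e, e']

end CfsgLib.SymBlocks
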