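import Cfsg.Agent.SymBlocks.Irr
import Cfsg.Agent.SymBlocks.Count
import Cfsg.Agent.SymBlocks.Reflect
import Cfsg.Agent.SymBlocks.Rank
import Cfsg.Agent.Blocks.Height
import Mathlib.LinearAlgebra.Vandermonde

/-!
Degrees of irreducible characters of symmetric groups, and their `p`-parts runner by runner.
-/

set_option autoImplicit false
set_option linter.unusedSectionVars false
set_option linter.style.haveILetI false

namespace CfsgLib.SymBlocks

open Finset
open Cfsg (IrrCharacter)
open scoped Nat

variable {n N p : ℕ}

theorem pcoeff_ones : ∀ (n : ℕ) (c : Fin N → ℕ), ∑ i, c i = n →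
    pcoeff (Multiset.replicate n 1) c * ∏ i, ((c i)! : ℤ) = (n ! : ℤ) := by
  intro n
  induction n with
  | zero =>
    intro c hc
    have h : c = 0 := funext fun i => Finset.sum_eq_zero_iff.mp hc i (Finset.mem_univ i)
    subst h
    simp [pcoeff_zero]
  | succ n ih =>
    intro c hc
    rw [Multiset.replicate_succ, pcoeff_cons, Finset.sum_mul]
    have key : ∀ i, (if 1 ≤ c i then pcoeff (Multiset.replicate n 1) (lower c i 1) else 0) *
        ∏ k, ((c k)! : ℤ) = (c i : ℤ) * (n ! : ℤ) := by
      intro i
      split_ifs with h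
      · have e : ∏ k, ((c k)! : ℤ) = (c i : ℤ) * ∏ k, ((lower c i 1 k)! : ℤ) := by
          rw [← Finset.mul_prod_erase _ _ (Finset.mem_univ i),
            ← Finset.mul_prod_erase (s := univ) (fun k => ((lower c i 1 k)! : ℤ)) (Finset.mem_univ i),
            lower_self, ← mul_assoc]
          congr 1
          · obtain ⟨d, hd⟩ : ∃ d, c i = d + 1 := ⟨c i - 1, by omega⟩
            rw [hd, Nat.factorial_succ, Nat.add_sub_cancel]
            push_cast
            ring
          · exact Finset.prod_congr rfl fun k hk => by rw [lower_ne _ (Finset.ne_of_mem_erase hk)]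
        rw [e, mul_left_comm, ih _ (by have := sum_lower c h; omega)]
      · rw [show c i = 0 by omega]
        simp
    rw [Finset.sum_congr rfl fun i _ => key i, ← Finset.sum_mul, ← Nat.cast_sum, hc,
      Nat.factorial_succ]
    push_cast
    ring

/-- **The degree formula.** -/
theorem frob_ones_mul (a : Fin N → ℕ) (ha : ∑ i, a i = n + N.choose 2) :
    frob (Multiset.replicate n 1) a * ∏ i, ((a i)! : ℤ) =
      (n ! : ℤ) * (Matrix.vandermonde fun i => (a i : ℤ)).det := by
  classical
  rw [Matrix.det_eval_matrixOfPolynomials_eq_det_vandermonde _ (fun j : Fin N => descPochhammer ℤ j)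
      (fun j => descPochhammer_natDegree ℤ j) (fun j => monic_descPochhammer ℤ j),
    ← Matrix.det_transpose, Matrix.det_apply', frob, Finset.sum_mul, Finset.mul_sum]
  refine Finset.sum_congr rfl fun π _ => ?_
  simp only [Matrix.transpose_apply, Matrix.of_apply, descPochhammer_eval_eq_descFactorial]
  rw [mul_assoc, mul_left_comm (n ! : ℤ)]
  congr 1
  by_cases h : ∀ k, stair π k ≤ a k
  · rw [if_pos h]
    have hs : ∑ i, (a - stair π) i = n := by
      have hst : ∑ i, stair π i = N.choose 2 := by
        simp only [stair]
        rw [Equiv.sum_comp π (fun i : Fin N => (i : ℕ)), Fin.sum_univ_eq_sum_range (fun x => x),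
          Finset.sum_range_id, Nat.choose_two_right]
      have : ∑ i, ((a - stair π) i + stair π i) = ∑ i, a i :=
        Finset.sum_congr rfl fun i _ => by have := h i; simp only [Pi.sub_apply]; omega
      rw [Finset.sum_add_distrib, hst, ha] at this
      omega
    have e : ∏ i, ((a i)! : ℤ) = (∏ i, (((a - stair π) i)! : ℤ)) *
        ∏ i, ((a i).descFactorial (π i : ℕ) : ℤ) := by
      rw [← Finset.prod_mul_distrib]
      refine Finset.prod_congr rfl fun i _ => ?_
      rw [← Nat.cast_mul]
      congr 1
      exact (Nat.factorial_mul_descFactorial (h i)).symm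
    rw [e, ← mul_assoc, pcoeff_ones n _ hs]
  · rw [if_neg h, zero_mul]
    push Not at h
    obtain ⟨k, hk⟩ := h
    rw [Finset.prod_eq_zero (Finset.mem_univ k), mul_zero]
    rw [Nat.descFactorial_eq_zero_iff_lt.mpr (show a k < (π k : ℕ) from hk), Nat.cast_zero]

/-- The product of the differences of a set of numbers. -/
def delta (S : Finset ℕ) : ℕ := ∏ x ∈ S, ∏ y ∈ S.filter (x < ·), (y - x)

/-- The product of the factorials of a set of numbers. -/
def facts (S : Finset ℕ) : ℕ := ∏ x ∈ S, x !

/-- The excess of a set of numbers over an initial segment. -/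
def excess (S : Finset ℕ) : ℕ := ∑ x ∈ S, x - S.card.choose 2

/-- The degree belonging to a set of numbers. -/
noncomputable def shapeDeg (S : Finset ℕ) : ℕ :=
  (frob (Multiset.replicate (excess S) 1) (S.orderEmbOfFin rfl)).natAbs

theorem sum_eq_excess_add (S : Finset ℕ) : ∑ x ∈ S, x = excess S + S.card.choose 2 := by
  have := choose_card_le_sum S
  rw [excess]
  omega

theorem map_orderEmbOfFin {S : Finset ℕ} {k : ℕ} (h : S.card = k) :
    (univ : Finset (Fin k)).map (S.orderEmbOfFin h).toEmbedding = S :=
  Finset.map_orderEmbOfFin_univ S h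

theorem sum_orderEmbOfFin {S : Finset ℕ} {k : ℕ} (h : S.card = k) :
    ∑ i, S.orderEmbOfFin h i = excess S + k.choose 2 := by
  have e := sum_eq_excess_add S
  rw [h] at e
  rw [← e]
  conv_rhs => rw [← map_orderEmbOfFin h, Finset.sum_map]
  rfl

theorem shapeDeg_eq {S : Finset ℕ} {k : ℕ} (h : S.card = k) :
    shapeDeg S = (frob (Multiset.replicate (excess S) 1) (S.orderEmbOfFin h)).natAbs := by
  subst h; rfl

/-- The degree formula for sets. -/
theorem shapeDeg_mul (S : Finset ℕ) : shapeDeg S * facts S = (excess S)! * delta S := by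
  set a := S.orderEmbOfFin (rfl : S.card = S.card) with hadef
  have h := frob_ones_mul (n := excess S) a (sum_orderEmbOfFin rfl)
  have h1 : ∏ i, ((a i)! : ℤ) = (facts S : ℤ) := by
    rw [facts, Nat.cast_prod]
    conv_rhs => rw [← map_orderEmbOfFin (rfl : S.card = S.card), Finset.prod_map]
    rfl
  have h2 : (Matrix.vandermonde fun i => (a i : ℤ)).det = (delta S : ℤ) := by
    rw [Matrix.det_vandermonde, delta, Nat.cast_prod]
    conv_rhs => rw [← map_orderEmbOfFin (rfl : S.card = S.card), Finset.prod_map]
    refine Finset.prod_congr rfl fun i _ => ?_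
    rw [Nat.cast_prod, Finset.filter_map, Finset.prod_map]
    refine Finset.prod_congr ?_ fun j hj => ?_
    · ext j
      simp
    · show _ = (((a j - a i : ℕ) : ℕ) : ℤ)
      have : a i < a j := by simpa [hadef] using hj
      rw [Nat.cast_sub this.le]
  rw [h1, h2] at h
  have h' := congrArg Int.natAbs h
  rwa [Int.natAbs_mul, Int.natAbs_mul, Int.natAbs_natCast, Int.natAbs_natCast, Int.natAbs_natCast,
    ← shapeDeg_eq] at h'

/-- A character with vector `a` has the degree of the set of entries. -/
theorem natAbs_frob_ones {a : Fin N → ℕ} (ha : ∑ i, a i = n + N.choose 2)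
    (hinj : Function.Injective a) :
    excess (univ.image a) = n ∧
      (frob (Multiset.replicate n 1) a).natAbs = shapeDeg (univ.image a) := by
  have hcard : (univ.image a).card = N := by
    rw [Finset.card_image_of_injective _ hinj, Finset.card_univ, Fintype.card_fin]
  have hexc : excess (univ.image a) = n := by
    rw [excess, hcard, Finset.sum_image hinj.injOn, ha]
    omega
  refine ⟨hexc, ?_⟩
  obtain ⟨π, hπ⟩ : ∃ π : Equiv.Perm (Fin N), a = (univ.image a).orderEmbOfFin hcard ∘ π := by
    refine exists_perm_of_image_subset hinj fun i => ?_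
    have : a i ∈ Set.range ((univ.image a).orderEmbOfFin hcard) := by
      rw [Finset.range_orderEmbOfFin, Finset.mem_coe]
      exact Finset.mem_image_of_mem a (Finset.mem_univ i)
    exact this
  rw [shapeDeg_eq hcard, hexc]
  conv_lhs => rw [hπ, frob_comp, Int.natAbs_mul, Int.units_natAbs]
  rw [one_mul]

theorem charDegree_eq {a : Fin N → ℕ} (ha : ∑ i, a i = n + N.choose 2)
    (hinj : Function.Injective a) {χ : IrrCharacter (Equiv.Perm (Fin n))} {ε : ℂ}
    (hε : ε = 1 ∨ ε = -1) (he : chi (n := n) a = ε • (χ : Equiv.Perm (Fin n) → ℂ)) :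
    Cfsg.charDegree (χ : Equiv.Perm (Fin n) → ℂ) = shapeDeg (univ.image a) := by
  have h := congrFun he 1
  rw [chi, parts_one, Pi.smul_apply, smul_eq_mul, ← Blocks.charDegree_cast χ] at h
  rw [← (natAbs_frob_ones ha hinj).2]
  rcases hε with rfl | rfl
  · rw [one_mul] at h
    rw [show frob (Multiset.replicate n 1) a = ((Cfsg.charDegree (χ : Equiv.Perm (Fin n) → ℂ) : ℕ) : ℤ)
      by exact_mod_cast h]
    simp
  · rw [neg_one_mul] at h
    rw [show frob (Multiset.replicate n 1) a = -((Cfsg.charDegree (χ : Equiv.Perm (Fin n) → ℂ) : ℕ) : ℤ)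
      by exact_mod_cast h]
    simp

theorem charDegree_sq_le {G : Type*} [Group G] [Fintype G] (χ : IrrCharacter G) :
    Cfsg.charDegree (χ : G → ℂ) * Cfsg.charDegree (χ : G → ℂ) ≤ Nat.card G := by
  classical
  have h := Characters.sum_degree_sq (G := G)
  simp only [← Blocks.charDegree_cast, ← Nat.cast_pow, ← Nat.cast_sum, Nat.cast_inj] at h
  rw [← h, ← sq]
  exact Finset.single_le_sum (f := fun ψ : IrrCharacter G => Cfsg.charDegree (ψ : G → ℂ) ^ 2)
    (fun ψ _ => Nat.zero_le _) (Finset.mem_univ χ)

theorem shapeDeg_spec (S : Finset ℕ) :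
    0 < shapeDeg S ∧ shapeDeg S ∣ (excess S)! ∧ shapeDeg S * shapeDeg S ≤ (excess S)! := by
  have hs := sum_orderEmbOfFin (rfl : S.card = S.card)
  have hinj := (S.orderEmbOfFin (rfl : S.card = S.card)).injective
  obtain ⟨θ, ε, hε, he⟩ := exists_irr_chi hs hinj
  have hd := charDegree_eq hs hinj hε he
  rw [Finset.image_orderEmbOfFin_univ] at hd
  have hcard : Nat.card (Equiv.Perm (Fin (excess S))) = (excess S)! := by
    rw [Nat.card_perm, Nat.card_fin]
  rw [← hd, ← hcard]
  exact ⟨Nat.pos_of_ne_zero (Blocks.charDegree_ne_zero θ), Blocks.charDegree_dvd_card θ,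
    charDegree_sq_le θ⟩

theorem facts_pos (S : Finset ℕ) : 0 < facts S := Finset.prod_pos fun x _ => Nat.factorial_pos x

theorem delta_pos (S : Finset ℕ) : 0 < delta S :=
  Finset.prod_pos fun x _ => Finset.prod_pos fun y hy => by
    have := (Finset.mem_filter.mp hy).2
    omega

theorem val_shapeDeg (S : Finset ℕ) :
    (shapeDeg S).factorization p + (facts S).factorization p =
      ((excess S)!).factorization p + (delta S).factorization p := by
  have h := congrArg (fun x : ℕ => x.factorization p) (shapeDeg_mul S)
  simp only [Nat.factorization_mul (shapeDeg_spec S).1.ne' (facts_pos S).ne',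
    Nat.factorization_mul (Nat.factorial_pos _).ne' (delta_pos S).ne', Finsupp.add_apply] at h
  exact h

theorem val_factorial_div (hp : p.Prime) (y : ℕ) :
    (y !).factorization p = y / p + ((y / p)!).factorization p := by
  haveI := Fact.mk hp
  conv_lhs => rw [← Nat.div_add_mod y p]
  rw [Nat.factorization_def _ hp, Nat.factorization_def _ hp,
    padicValNat_factorial_mul_add (p := p) _ (Nat.mod_lt y hp.pos), padicValNat_factorial_mul,
    add_comm]

theorem sum_by_residue (hp : 0 < p) (S : Finset ℕ) (f : ℕ → ℕ) :
    ∑ y ∈ S, f y = ∑ r ∈ Finset.range p, ∑ x ∈ runner p r S, f (r + p * x) := by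
  rw [← Finset.sum_fiberwise_of_maps_to (g := fun y => y % p) (t := Finset.range p)
    fun y _ => Finset.mem_range.mpr (Nat.mod_lt _ hp)]
  refine Finset.sum_congr rfl fun r _ => ?_
  rw [runner, Finset.sum_image]
  · refine Finset.sum_congr rfl fun y hy => ?_
    rw [← (Finset.mem_filter.mp hy).2, Nat.mod_add_div]
  · intro y hy z hz h
    simp only [Finset.coe_filter, Set.mem_ofPred_eq] at hy hz
    exact eq_of_mod_div (hy.2.trans hz.2.symm) h

theorem sum_card_above (S : Finset ℕ) :
    ∑ x ∈ S, (S.filter (x < ·)).card = S.card.choose 2 := by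
  induction S using Finset.induction_on_min with
  | empty => simp
  | insert a s ha ih =>
    have hnot : a ∉ s := fun h => lt_irrefl a (ha a h)
    rw [Finset.sum_insert hnot, Finset.card_insert_of_notMem hnot, Nat.choose_succ_succ,
      Nat.choose_one_right]
    congr 1
    · rw [Finset.filter_insert, if_neg (lt_irrefl a), Finset.filter_true_of_mem ha]
    · exact (Finset.sum_congr rfl fun x hx => by
        rw [Finset.filter_insert, if_neg (by have := ha x hx; omega)]).trans ih

theorem val_delta_runners (hp : p.Prime) (S : Finset ℕ) :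
    (delta S).factorization p = ∑ r ∈ Finset.range p,
      ((runner p r S).card.choose 2 + (delta (runner p r S)).factorization p) := by
  have hval : ∀ T : Finset ℕ, (delta T).factorization p =
      ∑ x ∈ T, ∑ y ∈ T, if x < y then (y - x).factorization p else 0 := fun T => by
    have hne : ∀ x, ∀ y ∈ T.filter (x < ·), y - x ≠ 0 := fun x y hy => by
      have := (Finset.mem_filter.mp hy).2; omega
    rw [delta, Nat.factorization_prod fun x _ => Finset.prod_ne_zero_iff.mpr (hne x),
      Finsupp.finsetSum_apply]
    refine Finset.sum_congr rfl fun x _ => ?_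
    rw [Nat.factorization_prod (hne x), Finsupp.finsetSum_apply, Finset.sum_filter]
  rw [hval, sum_by_residue hp.pos]
  refine Finset.sum_congr rfl fun r hr => ?_
  have hr := Finset.mem_range.mp hr
  rw [← sum_card_above, hval, ← Finset.sum_add_distrib]
  refine Finset.sum_congr rfl fun x _ => ?_
  rw [sum_by_residue hp.pos, Finset.sum_eq_single r, Finset.card_filter, ← Finset.sum_add_distrib]
  · refine Finset.sum_congr rfl fun z _ => ?_
    have hmono : r + p * x < r + p * z ↔ x < z := by
      rw [Nat.add_lt_add_iff_left]; exact Nat.mul_lt_mul_left hp.pos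
    by_cases h : x < z
    · rw [if_pos (hmono.mpr h), if_pos h, if_pos h, show r + p * z - (r + p * x) = p * (z - x) by
        rw [Nat.mul_sub]; omega, Nat.factorization_mul hp.ne_zero (by omega), Finsupp.add_apply,
        hp.factorization_self]
    · rw [if_neg (mt hmono.mp h), if_neg h, if_neg h]
  · intro t ht htr
    refine Finset.sum_eq_zero fun z _ => ?_
    split_ifs with h
    · refine Nat.factorization_eq_zero_of_not_dvd fun hd => htr ?_
      have h1 := (Nat.modEq_iff_dvd' h.le).mpr hd
      have ht := Finset.mem_range.mp ht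
      simpa [Nat.ModEq, Nat.add_mul_mod_self_left, Nat.mod_eq_of_lt hr, Nat.mod_eq_of_lt ht] using h1.symm
    · rfl
  · intro h; exact absurd (Finset.mem_range.mpr hr) h

/-- **The `p`-part of a degree, runner by runner.** -/
theorem val_shapeDeg_runners (hp : p.Prime) (S : Finset ℕ) :
    (shapeDeg S).factorization p +
        ∑ r ∈ Finset.range p, (excess (runner p r S) + ((excess (runner p r S))!).factorization p) =
      ((excess S)!).factorization p +
        ∑ r ∈ Finset.range p, (shapeDeg (runner p r S)).factorization p := by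
  have h := val_shapeDeg (p := p) S
  rw [val_delta_runners hp, facts, Nat.factorization_prod fun x _ => (Nat.factorial_pos x).ne',
    Finsupp.finsetSum_apply, sum_by_residue hp.pos] at h
  have key : ∀ r ∈ Finset.range p,
      ∑ x ∈ runner p r S, ((r + p * x)!).factorization p + (shapeDeg (runner p r S)).factorization p =
      (excess (runner p r S) + ((excess (runner p r S))!).factorization p) +
        ((runner p r S).card.choose 2 + (delta (runner p r S)).factorization p) := by
    intro r hr
    have hr := Finset.mem_range.mp hr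
    have e := val_shapeDeg (p := p) (runner p r S)
    rw [facts, Nat.factorization_prod fun x _ => (Nat.factorial_pos x).ne',
      Finsupp.finsetSum_apply] at e
    have e1 : ∑ x ∈ runner p r S, ((r + p * x)!).factorization p =
        ∑ x ∈ runner p r S, x + ∑ x ∈ runner p r S, (x !).factorization p := by
      rw [← Finset.sum_add_distrib]
      refine Finset.sum_congr rfl fun x _ => ?_
      rw [val_factorial_div hp, Nat.add_mul_div_left _ _ hp.pos, Nat.div_eq_of_lt hr, zero_add]
    rw [e1, sum_eq_excess_add]
    omega
  have hsum := Finset.sum_congr rfl key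
  rw [Finset.sum_add_distrib, Finset.sum_add_distrib] at hsum
  omega

end CfsgLib.SymBlocks
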