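import Cfsg.Agent.SymBlocks.Moves

/-!
Frobenius' alternant coefficients: the values of the characters of symmetric groups at a multiset
of cycle lengths, indexed by exponent vectors.
-/

set_option autoImplicit false
set_option linter.unusedSectionVars false

namespace CfsgLib.SymBlocks

open Finset MvPolynomial

variable {N : ℕ}

/-- The power sum of degree `m` in `N` variables. -/
noncomputable def powerSum (N m : ℕ) : MvPolynomial (Fin N) ℤ := ∑ i, X i ^ m

/-- The coefficient of a monomial in a product of power sums. -/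
noncomputable def pcoeff (L : Multiset ℕ) (c : Fin N → ℕ) : ℤ :=
  coeff (Finsupp.equivFunOnFinite.symm c) (L.map (powerSum N)).prod

/-- The staircase exponents in the order prescribed by a permutation. -/
def stair (π : Equiv.Perm (Fin N)) : Fin N → ℕ := fun i => (π i : ℕ)

/-- The alternant coefficient: the character indexed by `a` at cycle lengths `L`. -/
noncomputable def frob (L : Multiset ℕ) (a : Fin N → ℕ) : ℤ :=
  ∑ π : Equiv.Perm (Fin N), (Equiv.Perm.sign π : ℤ) *
    if (∀ k, stair π k ≤ a k) then pcoeff L (a - stair π) else 0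

/-- The alternating delta of two exponent vectors. -/
noncomputable def dlt (a b : Fin N → ℕ) : ℤ :=
  ∑ π : Equiv.Perm (Fin N), (Equiv.Perm.sign π : ℤ) * if b = a ∘ π then 1 else 0

theorem pcoeff_zero (c : Fin N → ℕ) : pcoeff 0 c = if c = 0 then 1 else 0 := by
  simp only [pcoeff, Multiset.map_zero, Multiset.prod_zero, coeff_one]
  refine if_congr ?_ rfl rfl
  rw [eq_comm, Finsupp.ext_iff, funext_iff]
  simp

theorem pcoeff_cons (m : ℕ) (L : Multiset ℕ) (c : Fin N → ℕ) :
    pcoeff (m ::ₘ L) c = ∑ i, if m ≤ c i then pcoeff L (lower c i m) else 0 := by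
  simp only [pcoeff, Multiset.map_cons, Multiset.prod_cons, powerSum, Finset.sum_mul, coeff_sum]
  refine Finset.sum_congr rfl fun i _ => ?_
  rw [X_pow_eq_monomial, coeff_monomial_mul', one_mul]
  refine if_congr ?_ ?_ rfl
  · rw [Finsupp.single_le_iff, Finsupp.equivFunOnFinite_symm_apply_apply]
  · congr 1
    ext k
    rw [Finsupp.tsub_apply, Finsupp.equivFunOnFinite_symm_apply_apply,
      Finsupp.equivFunOnFinite_symm_apply_apply]
    by_cases hk : k = i
    · subst hk; rw [Finsupp.single_eq_same, lower_self]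
    · rw [Finsupp.single_eq_of_ne hk, lower_ne _ hk, Nat.sub_zero]

theorem pcoeff_eq_zero : ∀ (L : Multiset ℕ) (c : Fin N → ℕ), ∑ i, c i ≠ L.sum → pcoeff L c = 0 := by
  intro L
  induction L using Multiset.induction_on with
  | empty =>
    intro c hc
    rw [pcoeff_zero, if_neg]
    rintro rfl
    simp at hc
  | cons m L ih =>
    intro c hc
    rw [pcoeff_cons]
    refine Finset.sum_eq_zero fun i _ => ?_
    split_ifs with h
    · refine ih _ fun e => hc ?_
      rw [Multiset.sum_cons, ← e, ← sum_lower c h, add_comm]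
    · rfl

theorem stair_le_lower {π : Equiv.Perm (Fin N)} {a : Fin N → ℕ} {i : Fin N} {m : ℕ} :
    (m ≤ a i ∧ ∀ k, stair π k ≤ lower a i m k) ↔ ((∀ k, stair π k ≤ a k) ∧ m ≤ (a - stair π) i) := by
  simp only [Pi.sub_apply, stair]
  constructor
  · rintro ⟨h, h'⟩
    refine ⟨fun k => ?_, ?_⟩
    · by_cases hk : k = i
      · subst hk; have := h' k; rw [lower_self] at this; omega
      · have := h' k; rwa [lower_ne _ hk] at this
    · have := h' i; rw [lower_self] at this; omega
  · rintro ⟨h, h'⟩
    have hi := h i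
    refine ⟨by omega, fun k => ?_⟩
    by_cases hk : k = i
    · subst hk; rw [lower_self]; omega
    · rw [lower_ne _ hk]; exact h k

theorem lower_sub_stair {π : Equiv.Perm (Fin N)} (a : Fin N → ℕ) (i : Fin N) (m : ℕ) :
    lower a i m - stair π = lower (a - stair π) i m := by
  funext k
  by_cases hk : k = i
  · subst hk; simp only [Pi.sub_apply, lower_self]; omega
  · simp only [Pi.sub_apply, lower_ne _ hk]

/-- The Murnaghan–Nakayama rule. -/
theorem frob_cons (m : ℕ) (L : Multiset ℕ) (a : Fin N → ℕ) :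
    frob (m ::ₘ L) a = ∑ i, if m ≤ a i then frob L (lower a i m) else 0 := by
  have h : ∀ (i : Fin N), (if m ≤ a i then frob L (lower a i m) else 0) =
      ∑ π : Equiv.Perm (Fin N), (Equiv.Perm.sign π : ℤ) *
        if (∀ k, stair π k ≤ a k) then (if m ≤ (a - stair π) i then pcoeff L (lower (a - stair π) i m) else 0)
        else 0 := by
    intro i
    by_cases hi : m ≤ a i
    · rw [if_pos hi, frob]
      refine Finset.sum_congr rfl fun π _ => ?_
      congr 1
      rw [lower_sub_stair, ← ite_and]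
      exact if_congr ⟨fun h => stair_le_lower.mp ⟨hi, h⟩, fun h => (stair_le_lower.mpr h).2⟩ rfl rfl
    · rw [if_neg hi]
      refine (Finset.sum_eq_zero fun π _ => ?_).symm
      rw [← ite_and, if_neg fun h => hi (stair_le_lower.mpr h).1, mul_zero]
  simp only [h]
  rw [Finset.sum_comm, frob]
  refine Finset.sum_congr rfl fun π _ => ?_
  rw [← Finset.mul_sum]
  congr 1
  by_cases hπ : ∀ k, stair π k ≤ a k
  · simp only [if_pos hπ, pcoeff_cons]
  · simp only [if_neg hπ, Finset.sum_const_zero]

theorem frob_eq_zero_of_sum {L : Multiset ℕ} {a : Fin N → ℕ}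
    (h : ∑ i, a i ≠ L.sum + N.choose 2) : frob L a = 0 := by
  refine Finset.sum_eq_zero fun π _ => ?_
  split_ifs with hπ
  · rw [pcoeff_eq_zero, mul_zero]
    intro e
    apply h
    have hs : ∑ i, stair π i = N.choose 2 := by
      simp only [stair]
      rw [Equiv.sum_comp π (fun i : Fin N => (i : ℕ)), Fin.sum_univ_eq_sum_range (fun x => x),
        Finset.sum_range_id, Nat.choose_two_right]
    rw [← e, ← hs, ← Finset.sum_add_distrib]
    exact Finset.sum_congr rfl fun i _ => by
      have := hπ i; simp only [Pi.sub_apply]; omega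
  · rw [mul_zero]

theorem comp_swap_of_eq {α : Type*} {a : Fin N → α} {i j : Fin N} (he : a i = a j) :
    a ∘ Equiv.swap i j = a := by
  funext k
  simp only [Function.comp_apply]
  by_cases h1 : k = i
  · subst h1; rw [Equiv.swap_apply_left, he]
  by_cases h2 : k = j
  · subst h2; rw [Equiv.swap_apply_right, he]
  rw [Equiv.swap_apply_of_ne_of_ne h1 h2]

theorem alternating_of_comp (Φ : (Fin N → ℕ) → ℤ)
    (h : ∀ a (σ : Equiv.Perm (Fin N)), Φ (a ∘ σ) = (Equiv.Perm.sign σ : ℤ) * Φ a) :
    Alternating Φ where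
  swap a i j hij := by rw [h, Equiv.Perm.sign_swap hij]; simp
  repeated a i j hij he := by
    have h1 := h a (Equiv.swap i j)
    rw [comp_swap_of_eq he, Equiv.Perm.sign_swap hij] at h1
    simp at h1
    omega

theorem pcoeff_comp (σ : Equiv.Perm (Fin N)) : ∀ (L : Multiset ℕ) (c : Fin N → ℕ),
    pcoeff L (c ∘ σ) = pcoeff L c := by
  intro L
  induction L using Multiset.induction_on with
  | empty =>
    intro c
    rw [pcoeff_zero, pcoeff_zero]
    exact if_congr ⟨fun h => funext fun k => by simpa using congrFun h (σ.symm k),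
      fun h => by subst h; rfl⟩ rfl rfl
  | cons m L ih =>
    intro c
    rw [pcoeff_cons, pcoeff_cons, ← Equiv.sum_comp σ (fun i => if m ≤ c i then pcoeff L (lower c i m) else 0)]
    refine Finset.sum_congr rfl fun i _ => ?_
    refine if_congr Iff.rfl ?_ rfl
    rw [← ih (lower c (σ i) m)]
    congr 1
    funext k
    by_cases hk : k = i
    · subst hk; simp [lower_self]
    · simp [lower_ne _ hk, lower_ne _ (σ.injective.ne hk)]

theorem frob_comp (L : Multiset ℕ) (a : Fin N → ℕ) (σ : Equiv.Perm (Fin N)) :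
    frob L (a ∘ σ) = (Equiv.Perm.sign σ : ℤ) * frob L a := by
  rw [frob, frob, Finset.mul_sum, ← Equiv.sum_comp (Equiv.mulRight σ)]
  refine Finset.sum_congr rfl fun π _ => ?_
  have hst : stair (π * σ) = stair π ∘ σ := rfl
  simp only [Equiv.coe_mulRight, map_mul, Units.val_mul, hst]
  rw [show a ∘ σ - stair π ∘ σ = (a - stair π) ∘ σ from rfl, pcoeff_comp,
    if_congr (show (∀ k, (stair π ∘ σ) k ≤ (a ∘ σ) k) ↔ ∀ k, stair π k ≤ a k from
      ⟨fun h k => by simpa using h (σ.symm k), fun h k => h (σ k)⟩) rfl rfl]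
  ring

theorem frob_alternating (L : Multiset ℕ) : Alternating (frob (N := N) L) :=
  alternating_of_comp _ fun a σ => frob_comp L a σ

theorem frob_zero (a : Fin N → ℕ) :
    frob 0 a = dlt a (fun i => (i : ℕ)) := by
  rw [frob, dlt, ← Equiv.sum_comp (Equiv.inv (Equiv.Perm (Fin N)))]
  refine Finset.sum_congr rfl fun π _ => ?_
  simp only [Equiv.inv_apply, map_inv, Int.units_inv_eq_self, pcoeff_zero]
  congr 1
  rw [← ite_and]
  refine if_congr ⟨fun h => ?_, fun h => ?_⟩ rfl rfl
  · funext k
    have h1 := congrFun h.2 (π k)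
    have h2 := h.1 (π k)
    simp only [Pi.sub_apply, Pi.zero_apply, stair, Equiv.Perm.coe_inv, Equiv.symm_apply_apply,
      Function.comp_apply] at h1 h2 ⊢
    omega
  · have : ∀ k, stair π⁻¹ k = a k := fun k => by
      have := congrFun h (π⁻¹ k)
      simpa [stair] using this
    exact ⟨fun k => (this k).le, funext fun k => by simp [this k]⟩

theorem dlt_comp (a b : Fin N → ℕ) (σ : Equiv.Perm (Fin N)) :
    dlt (a ∘ σ) b = (Equiv.Perm.sign σ : ℤ) * dlt a b := by
  rw [dlt, dlt, Finset.mul_sum, ← Equiv.sum_comp (Equiv.mulLeft σ⁻¹)]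
  refine Finset.sum_congr rfl fun π _ => ?_
  simp only [Equiv.coe_mulLeft, map_mul, map_inv, Int.units_inv_eq_self, Units.val_mul]
  rw [mul_assoc]
  congr 2
  refine if_congr ?_ rfl rfl
  rw [show (a ∘ σ) ∘ ⇑(σ⁻¹ * π) = a ∘ π from funext fun k => by simp]

theorem dlt_alternating (b : Fin N → ℕ) : Alternating (fun a : Fin N → ℕ => dlt a b) :=
  alternating_of_comp _ fun a σ => dlt_comp a b σ

theorem dlt_eq_zero {a b : Fin N → ℕ} (h : ∀ σ : Equiv.Perm (Fin N), b ≠ a ∘ σ) : dlt a b = 0 :=
  Finset.sum_eq_zero fun π _ => by rw [if_neg (h π), mul_zero]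

theorem dlt_self {a : Fin N → ℕ} (h : Function.Injective a) : dlt a a = 1 := by
  rw [dlt, Finset.sum_eq_single 1]
  · simp
  · intro π _ hπ
    rw [if_neg, mul_zero]
    intro e
    exact hπ (Equiv.ext fun k => h (congrFun e k).symm)
  · simp

theorem dlt_eq_zero_of_sum {a b : Fin N → ℕ} (h : ∑ i, a i ≠ ∑ i, b i) : dlt a b = 0 :=
  dlt_eq_zero fun σ e => h (by rw [e]; exact (Equiv.sum_comp σ a).symm)

end CfsgLib.SymBlocks
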