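import Cfsg.Agent.SymBlocks.Degree
import Cfsg.Agent.SymBlocks.AltRank

/-!
Heights of irreducible characters of symmetric groups, and configurations of height one.
-/

set_option autoImplicit false
set_option linter.unusedSectionVars false
set_option linter.style.haveILetI false

namespace CfsgLib.SymBlocks

open Finset
open scoped Nat

variable {n N p : ℕ}

/-- The total excess on the runners. -/
def runnersExcess (p : ℕ) (S : Finset ℕ) : ℕ := ∑ r ∈ Finset.range p, excess (runner p r S)

/-- The height belonging to a configuration. -/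
noncomputable def symHeight (p : ℕ) (S : Finset ℕ) : ℕ :=
  ((runnersExcess p S)!).factorization p +
      ∑ r ∈ Finset.range p, (shapeDeg (runner p r S)).factorization p -
    ∑ r ∈ Finset.range p, ((excess (runner p r S))!).factorization p

theorem sum_val_le_val_factorial {ι : Type*} (s : Finset ι) (e : ι → ℕ) :
    ∑ r ∈ s, ((e r)!).factorization p ≤ ((∑ r ∈ s, e r)!).factorization p := by
  have h := Nat.prod_factorial_dvd_factorial_sum s e
  have h' := (Nat.factorization_le_iff_dvd (Finset.prod_ne_zero_iff.mpr fun r _ => (Nat.factorial_pos _).ne')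
    (Nat.factorial_pos _).ne').mpr h p
  rwa [Nat.factorization_prod fun r _ => (Nat.factorial_pos _).ne', Finsupp.finsetSum_apply] at h'

/-- The `p`-part of a degree in terms of the height. -/
theorem val_shapeDeg_height (hp : p.Prime) (S : Finset ℕ) :
    (shapeDeg S).factorization p + ((p * runnersExcess p S)!).factorization p =
      ((excess S)!).factorization p + symHeight p S := by
  have h := val_shapeDeg_runners hp S
  have h2 := sum_val_le_val_factorial (p := p) (Finset.range p) fun r => excess (runner p r S)
  rw [val_factorial_div hp, Nat.mul_div_cancel_left _ hp.pos, symHeight]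
  rw [Finset.sum_add_distrib] at h
  simp only [runnersExcess] at *
  omega

theorem symHeight_eq_zero_of_lt {S : Finset ℕ} (hp : p.Prime) (h : runnersExcess p S < p) :
    symHeight p S = 0 := by
  have h1 : ((runnersExcess p S)!).factorization p = 0 :=
    Nat.factorization_eq_zero_of_not_dvd fun hd => absurd ((hp.dvd_factorial).mp hd) (not_le.mpr h)
  have h2 : ∀ r ∈ Finset.range p, (shapeDeg (runner p r S)).factorization p = 0 := fun r hr => by
    refine Nat.factorization_eq_zero_of_not_dvd fun hd => ?_
    have := (hp.dvd_factorial).mp (hd.trans (shapeDeg_spec _).2.1)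
    have : excess (runner p r S) ≤ runnersExcess p S :=
      Finset.single_le_sum (f := fun r => excess (runner p r S)) (fun _ _ => Nat.zero_le _) hr
    omega
  rw [symHeight, h1, Finset.sum_eq_zero h2]
  simp

theorem runnersExcess_entries (hp : 0 < p) (hN : n ≤ N) {a : Fin N → ℕ}
    (hs : ∑ i, a i = n + N.choose 2) (ha : Function.Injective a) :
    runnersExcess p (entries a) = weight p a := by
  have h := (shape_entries hp hN hs ha).sum
  have e : ∀ r ∈ Finset.range p, ∑ x ∈ runner p r (entries a), x =
      excess (runner p r (entries a)) + ((resid p a).count r).choose 2 := fun r hr => by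
    rw [sum_eq_excess_add, card_runner_entries ha]
  rw [Finset.sum_congr rfl e, Finset.sum_add_distrib] at h
  rw [runnersExcess]
  omega

/-! ### Configurations with prescribed runners -/

theorem exists_of_runners (hp : 0 < p) (hN : n ≤ N) {a : Fin N → ℕ}
    (hs : ∑ i, a i = n + N.choose 2) (ha : Function.Injective a) (X : ℕ → Finset ℕ)
    (hcard : ∀ r < p, (X r).card = (resid p a).count r)
    (hexc : ∑ r ∈ Finset.range p, excess (X r) = weight p a) :
    ∃ b : Fin N → ℕ, (∑ i, b i = n + N.choose 2) ∧ Function.Injective b ∧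
      resid p b = resid p a ∧ ∀ r < p, runner p r (entries b) = X r := by
  classical
  set S := (Finset.range p).biUnion fun r => (X r).image fun x => r + p * x with hS
  have hrun : ∀ r < p, runner p r S = X r := by
    intro r hr
    ext x
    simp only [mem_runner hr, hS, Finset.mem_biUnion, Finset.mem_range, Finset.mem_image]
    constructor
    · rintro ⟨t, ht, y, hy, e⟩
      have h1 := congrArg (· % p) e
      simp only [Nat.add_mul_mod_self_left, Nat.mod_eq_of_lt hr, Nat.mod_eq_of_lt ht] at h1
      subst h1
      rwa [← Nat.eq_of_mul_eq_mul_left hp (Nat.add_left_cancel e)]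
    · exact fun hx => ⟨r, hr, x, hx, rfl⟩
  have hcardS : S.card = N := by
    have h1 : S.card = ∑ r ∈ Finset.range p, (runner p r S).card := by
      rw [Finset.card_eq_sum_ones, sum_by_residue hp]
      simp
    have h2 : (entries a).card = ∑ r ∈ Finset.range p, (runner p r (entries a)).card := by
      rw [Finset.card_eq_sum_ones, sum_by_residue hp]
      simp
    rw [card_entries ha] at h2
    rw [h1, h2]
    exact Finset.sum_congr rfl fun r hr => by
      rw [hrun r (Finset.mem_range.mp hr), hcard r (Finset.mem_range.mp hr), card_runner_entries ha]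
  have hsum : ∑ y ∈ S, y = ∑ y ∈ entries a, y := by
    rw [sum_by_residue hp, sum_by_residue hp (entries a)]
    have e : ∀ T : ℕ → Finset ℕ, ∑ r ∈ Finset.range p, ∑ x ∈ T r, (r + p * x) =
        ∑ r ∈ Finset.range p, (T r).card * r + p * ∑ r ∈ Finset.range p, ∑ x ∈ T r, x := fun T => by
      rw [Finset.mul_sum, ← Finset.sum_add_distrib]
      exact Finset.sum_congr rfl fun r _ => by
        rw [Finset.sum_add_distrib, Finset.sum_const, smul_eq_mul, Finset.mul_sum]
    rw [e, e]
    congr 1
    · exact Finset.sum_congr rfl fun r hr => by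
        rw [hrun r (Finset.mem_range.mp hr), hcard r (Finset.mem_range.mp hr), card_runner_entries ha]
    · congr 1
      rw [(shape_entries hp hN hs ha).sum, ← hexc, ← Finset.sum_add_distrib]
      exact Finset.sum_congr rfl fun r hr => by
        rw [hrun r (Finset.mem_range.mp hr), sum_eq_excess_add, hcard r (Finset.mem_range.mp hr),
          add_comm]
  refine ⟨S.orderEmbOfFin hcardS, ?_, (S.orderEmbOfFin hcardS).injective, ?_, fun r hr => ?_⟩
  · rw [← hs, show ∑ i, S.orderEmbOfFin hcardS i = ∑ y ∈ S, y by
      conv_rhs => rw [← map_orderEmbOfFin hcardS, Finset.sum_map]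
      rfl, hsum, entries, Finset.sum_image ha.injOn]
  · refine Multiset.ext.mpr fun r => ?_
    rcases lt_or_ge r p with hr | hr
    · rw [← card_runner_entries (S.orderEmbOfFin hcardS).injective, entries,
        Finset.image_orderEmbOfFin_univ, hrun r hr, hcard r hr]
    · rw [count_resid_eq_zero hp _ hr, count_resid_eq_zero hp _ hr]
  · rw [entries, Finset.image_orderEmbOfFin_univ, hrun r hr]

/-- With enough variables every runner carries two beads. -/
theorem two_le_count (hp : 0 < p) (hN : n + 2 * p ≤ N) {a : Fin N → ℕ}
    (hs : ∑ i, a i = n + N.choose 2) (ha : Function.Injective a) {r : ℕ} (hr : r < p) :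
    2 ≤ (resid p a).count r := by
  rw [← card_runner_entries ha]
  have hmem : ∀ x < 2 * p, x ∈ entries a := by
    intro x hx
    by_contra hne
    have h := choose_card_le_sum (insert x (entries a))
    rw [Finset.card_insert_of_notMem hne, card_entries ha, Finset.sum_insert hne, entries,
      Finset.sum_image ha.injOn, hs, Nat.choose_succ_succ, Nat.choose_one_right] at h
    change N + N.choose 2 ≤ _ at h
    omega
  have h1 : ({0, 1} : Finset ℕ) ⊆ runner p r (entries a) := by
    intro x hx
    rw [mem_runner hr]
    refine hmem _ ?_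
    rcases Finset.mem_insert.mp hx with rfl | hx
    · omega
    · rw [Finset.mem_singleton.mp hx]; omega
  simpa using Finset.card_le_card h1

/-! ### The rows -/

theorem delta_insert {X : Finset ℕ} {z : ℕ} (h : ∀ y ∈ X, y < z) :
    delta (insert z X) = delta X * ∏ y ∈ X, (z - y) := by
  have hz : z ∉ X := fun hz => lt_irrefl z (h z hz)
  have h0 : (insert z X).filter (z < ·) = ∅ := Finset.filter_eq_empty_iff.mpr fun y hy => by
    rcases Finset.mem_insert.mp hy with rfl | hy
    · exact lt_irrefl _
    · exact not_lt.mpr (h y hy).le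
  rw [delta, Finset.prod_insert hz, h0, Finset.prod_empty, one_mul, delta, ← Finset.prod_mul_distrib]
  refine Finset.prod_congr rfl fun x hx => ?_
  rw [Finset.filter_insert, if_pos (h x hx),
    Finset.prod_insert (fun hh => hz (Finset.mem_filter.mp hh).1), mul_comm]

theorem prod_sub_mul_factorial (m : ℕ) :
    ∀ k, (∏ y ∈ Finset.range k, (k + m - y)) * m ! = (k + m)! := by
  intro k
  induction k with
  | zero => simp
  | succ k ih =>
    rw [Finset.prod_range_succ', Finset.prod_congr rfl fun y _ =>
      (show k + 1 + m - (y + 1) = k + m - y by omega), Nat.sub_zero, mul_right_comm, ih,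
      show k + 1 + m = (k + m) + 1 by omega, Nat.factorial_succ, mul_comm]

theorem delta_range : ∀ k, delta (Finset.range k) = facts (Finset.range k) := by
  intro k
  induction k with
  | zero => simp [delta, facts]
  | succ k ih =>
    have h := prod_sub_mul_factorial 0 k
    simp only [Nat.factorial_zero, mul_one, add_zero] at h
    rw [Finset.range_add_one, delta_insert fun y hy => Finset.mem_range.mp hy, ih, h, facts, facts,
      Finset.prod_insert Finset.notMem_range_self, mul_comm]

/-- A row: the top bead of an initial segment moved up by `m`. -/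
def row (k m : ℕ) : Finset ℕ := insert (k + m) (Finset.range k)

theorem card_row (k m : ℕ) : (row k m).card = k + 1 := by
  rw [row, Finset.card_insert_of_notMem (by simp), Finset.card_range]

theorem excess_row (k m : ℕ) : excess (row k m) = m := by
  rw [excess, card_row, row, Finset.sum_insert (by simp), Finset.sum_range_id,
    ← Nat.choose_two_right, Nat.choose_succ_succ, Nat.choose_one_right]
  change k + m + k.choose 2 - (k + k.choose 2) = m
  omega

theorem shapeDeg_row (k m : ℕ) : shapeDeg (row k m) = 1 := by
  have h := shapeDeg_mul (row k m)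
  rw [excess_row, row, delta_insert fun y hy => by have := Finset.mem_range.mp hy; omega,
    delta_range, facts, Finset.prod_insert (by simp)] at h
  have e := prod_sub_mul_factorial m k
  refine Nat.eq_of_mul_eq_mul_right (Nat.mul_pos (Nat.factorial_pos (k + m))
    (facts_pos (Finset.range k))) ?_
  rw [one_mul]
  conv_rhs => rw [← e]
  rw [row]
  simp only [facts] at h ⊢
  rw [h]
  ring

theorem excess_range (c : ℕ) : excess (Finset.range c) = 0 := by
  rw [excess, Finset.card_range, Finset.sum_range_id, ← Nat.choose_two_right, Nat.sub_self]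

theorem shapeDeg_range (c : ℕ) : shapeDeg (Finset.range c) = 1 := by
  have h := (shapeDeg_spec (Finset.range c)).2.1
  rwa [excess_range, Nat.factorial_zero, Nat.dvd_one] at h

/-- The hook of two and one boxes. -/
def hookThree (k : ℕ) : Finset ℕ := insert (k + 3) (row k 1)

theorem hookThree_spec (k : ℕ) :
    (hookThree k).card = k + 2 ∧ excess (hookThree k) = 3 ∧ shapeDeg (hookThree k) = 2 := by
  have hlt : ∀ y ∈ row k 1, y < k + 3 := fun y hy => by
    rcases Finset.mem_insert.mp hy with rfl | hy
    · omega
    · have := Finset.mem_range.mp hy; omega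
  have hz : k + 3 ∉ row k 1 := fun h => lt_irrefl _ (hlt _ h)
  have hcard : (hookThree k).card = k + 2 := by
    rw [hookThree, Finset.card_insert_of_notMem hz, card_row]
  have hexc : excess (hookThree k) = 3 := by
    have e := sum_eq_excess_add (row k 1)
    rw [excess_row, card_row] at e
    rw [excess, hcard, hookThree, Finset.sum_insert hz, e, Nat.choose_succ_succ (k + 1),
      Nat.choose_one_right]
    change k + 3 + (1 + (k + 1).choose 2) - (k + 1 + (k + 1).choose 2) = 3
    omega
  refine ⟨hcard, hexc, ?_⟩
  have h := shapeDeg_mul (hookThree k)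
  have h1 := shapeDeg_mul (row k 1)
  rw [shapeDeg_row, excess_row, one_mul, Nat.factorial_one, one_mul] at h1
  rw [hexc, hookThree, delta_insert hlt, facts, Finset.prod_insert hz, ← h1] at h
  have e := prod_sub_mul_factorial 3 k
  have e2 : ∏ y ∈ row k 1, (k + 3 - y) = 2 * ∏ y ∈ Finset.range k, (k + 3 - y) := by
    rw [row, Finset.prod_insert (by simp)]
    congr 1
    omega
  rw [e2] at h
  refine Nat.eq_of_mul_eq_mul_right (Nat.mul_pos (Nat.factorial_pos (k + 3))
    (facts_pos (row k 1))) ?_
  rw [hookThree]
  conv_rhs => rw [← e]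
  simp only [facts] at h ⊢
  rw [h, show (3 : ℕ)! = 6 from rfl]
  ring

/-! ### Carries -/

theorem val_step (hp : p.Prime) {w y q : ℕ} (hw : w / p = q + 1) (hy : y / p = q)
    (hq : ¬ p ∣ q + 1) : (w !).factorization p = (y !).factorization p + 1 := by
  rw [val_factorial_div hp, hw, val_factorial_div hp y, hy, Nat.factorial_succ,
    Nat.factorization_mul (show q + 1 ≠ 0 by omega) (Nat.factorial_pos q).ne', Finsupp.add_apply,
    Nat.factorization_eq_zero_of_not_dvd hq]
  omega

theorem val_power_step (hp : p.Prime) {u : ℕ} (hu : ¬ p ∣ u) : ∀ j : ℕ,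
    ((p ^ (j + 1) * u)!).factorization p =
      ((p ^ (j + 1) * u - p ^ j)!).factorization p + ((p ^ j)!).factorization p + 1 := by
  have hu0 : 0 < u := Nat.pos_of_ne_zero fun h => hu (h ▸ dvd_zero p)
  intro j
  induction j with
  | zero =>
    have hpos : 0 < p * u := Nat.mul_pos hp.pos hu0
    obtain ⟨x, hx⟩ : ∃ x, p * u = x + 1 := ⟨p * u - 1, by omega⟩
    simp only [zero_add, pow_one, pow_zero, Nat.factorial_one, Nat.factorization_one,
      Finsupp.coe_zero, Pi.zero_apply, add_zero]
    rw [hx, Nat.add_sub_cancel, Nat.factorial_succ,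
      Nat.factorization_mul (show x + 1 ≠ 0 by omega) (Nat.factorial_pos x).ne', Finsupp.add_apply, ← hx,
      Nat.factorization_mul hp.ne_zero hu0.ne', Finsupp.add_apply, hp.factorization_self,
      Nat.factorization_eq_zero_of_not_dvd hu]
    omega
  | succ j ih =>
    rw [pow_succ' p (j + 1), mul_assoc, pow_succ' p j, ← Nat.mul_sub, val_factorial_div hp,
      val_factorial_div hp (p * (p * p ^ j * u - p ^ j)), val_factorial_div hp (p * p ^ j),
      Nat.mul_div_cancel_left _ hp.pos, Nat.mul_div_cancel_left _ hp.pos,
      Nat.mul_div_cancel_left _ hp.pos, ← pow_succ']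
    have : p ^ j ≤ p ^ (j + 1) * u := by
      rw [pow_succ, mul_assoc]; exact Nat.le_mul_of_pos_right _ (Nat.mul_pos hp.pos hu0)
    omega

/-- A splitting with exactly one carry. -/
theorem exists_one_carry (hp : p.Prime) {w : ℕ} (hq : 0 < w / p) (hd : p ∣ w / p) :
    ∃ m, 2 ≤ m ∧ m ≤ w ∧
      (w !).factorization p = ((w - m)!).factorization p + (m !).factorization p + 1 := by
  obtain ⟨t, u, hu, hwu⟩ := Nat.exists_eq_pow_mul_and_not_dvd hq.ne' p hp.ne_one
  obtain ⟨j, rfl⟩ : ∃ j, t = j + 1 := ⟨t - 1, by
    rcases t with _ | t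
    · rw [pow_zero, one_mul] at hwu; exact absurd (hwu ▸ hd) hu
    · simp⟩
  have h := val_power_step hp hu j
  rw [← hwu] at h
  have hle : p ^ j ≤ w / p := by
    rw [hwu, pow_succ, mul_assoc]
    exact Nat.le_mul_of_pos_right _ (Nat.mul_pos hp.pos (Nat.pos_of_ne_zero fun h0 => hu (h0 ▸ dvd_zero p)))
  have hlt := Nat.mod_lt w hp.pos
  have hdm := Nat.div_add_mod w p
  have hmul := Nat.mul_le_mul_left p hle
  have hdiv : (w - p * p ^ j) / p = w / p - p ^ j := Nat.sub_mul_div_of_le _ _ _ (by omega)
  refine ⟨p * p ^ j, hp.two_le.trans (Nat.le_mul_of_pos_right _ (Nat.pow_pos hp.pos)), by omega, ?_⟩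
  rw [val_factorial_div hp, val_factorial_div hp (w - p * p ^ j), hdiv, val_factorial_div hp (p * _),
    Nat.mul_div_cancel_left _ hp.pos]
  omega

/-- Beads of excess one are placed uniquely. -/
theorem eq_of_excess_le_one {S T : Finset ℕ} (hc : S.card = T.card) (he : excess S = excess T)
    (h1 : excess S ≤ 1) : S = T := by
  have key : ∀ U : Finset ℕ, U.card = S.card → excess U = excess S →
      ∃ y, y ≤ S.card ∧ U = (Finset.range (S.card + 1)).erase y ∧ y + excess S = S.card := by
    intro U hU hUe
    have hsum := sum_eq_excess_add U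
    rw [hU, hUe] at hsum
    have hsub : U ⊆ Finset.range (S.card + 1) := fun x hx => by
      have := lt_of_mem_of_sum_le (w := 1) hx (by rw [hU]; omega)
      rw [hU] at this
      exact Finset.mem_range.mpr this
    obtain ⟨y, hy⟩ := Finset.card_eq_one.mp (show (Finset.range (S.card + 1) \ U).card = 1 by
      rw [Finset.card_sdiff_of_subset hsub, Finset.card_range, hU]; omega)
    have hymem : y ∈ Finset.range (S.card + 1) \ U := hy ▸ Finset.mem_singleton_self y
    have h2 := Finset.sum_sdiff (f := fun x => x) hsub
    rw [hy, Finset.sum_singleton, Finset.sum_range_id, ← Nat.choose_two_right, hsum,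
      Nat.choose_succ_succ, Nat.choose_one_right] at h2
    change y + _ = S.card + S.card.choose 2 at h2
    refine ⟨y, Nat.lt_succ_iff.mp (Finset.mem_range.mp (Finset.mem_sdiff.mp hymem).1), ?_, by omega⟩
    rw [← Finset.sdiff_singleton_eq_erase, ← hy, Finset.sdiff_sdiff_eq_self hsub]
  obtain ⟨y, -, e1, e1'⟩ := key S rfl rfl
  obtain ⟨z, -, e2, e2'⟩ := key T hc.symm he.symm
  rw [e1, e2, show y = z by omega]

/-! ### Self-conjugate configurations for two -/

theorem runner_one_of_refl (hN : 0 < N) (S : Finset ℕ) :
    runner 2 1 (refl (2 * N) S) = refl N (runner 2 0 S) ∧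
      runner 2 0 (refl (2 * N) S) = refl N (runner 2 1 S) :=
  ⟨runner_refl (by omega) (by omega) hN (by omega) S, runner_refl (by omega) (by omega) hN (by omega) S⟩

theorem excess_eq_of_selfConj (hN : 0 < N) {S : Finset ℕ} (hsub : S ⊆ Finset.range (2 * N))
    (hsym : refl (2 * N) S = S) : excess (runner 2 1 S) = excess (runner 2 0 S) := by
  have e := (runner_one_of_refl hN S).1
  rw [hsym] at e
  have hr := runner_subset (p := 2) (r := 0) (L := N) (by omega) (n := 2 * N) (by omega) hsub
  have h1 := sum_refl hr
  rw [← e, sum_eq_excess_add, sum_eq_excess_add] at h1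
  omega

theorem selfConj_of_excess_one (hN : 0 < N) {S : Finset ℕ} (hsub : S ⊆ Finset.range (2 * N))
    (hcard : (runner 2 0 S).card + (runner 2 1 S).card = N)
    (h0 : excess (runner 2 0 S) ≤ 1) (h1 : excess (runner 2 1 S) = excess (runner 2 0 S)) :
    refl (2 * N) S = S := by
  have hsubr : ∀ r < 2, runner 2 r S ⊆ Finset.range N := fun r hr =>
    runner_subset hr (n := 2 * N) (by omega) hsub
  have key : ∀ X Y : Finset ℕ, X ⊆ Finset.range N → X.card + Y.card = N → excess Y ≤ 1 →
      excess X = excess Y → refl N X = Y := by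
    intro X Y hX hc hY he
    have hcr := card_refl hX
    have hs := sum_refl hX
    rw [sum_eq_excess_add, sum_eq_excess_add] at hs
    exact eq_of_excess_le_one (by omega) (by omega) (by omega)
  refine eq_of_runner (p := 2) (by omega) fun r hr => ?_
  rcases (show r = 0 ∨ r = 1 by omega) with rfl | rfl
  · rw [(runner_one_of_refl hN S).2]
    exact key _ _ (hsubr 1 (by omega)) (by omega) h0 h1
  · rw [(runner_one_of_refl hN S).1]
    exact key _ _ (hsubr 0 (by omega)) hcard (by omega) h1.symm

theorem row_ne_refl_row {k l m : ℕ} (hk : k + 1 + (l + 1) = N) (hm : 2 ≤ m) :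
    refl N (row k m) ≠ row l m := by
  intro h
  have hmem : l + m ∈ refl N (row k m) := h ▸ Finset.mem_insert_self _ _
  rw [mem_refl] at hmem
  exact hmem.2 (Finset.mem_insert_of_mem (Finset.mem_range.mpr (by omega)))

theorem one_le_symHeight_of_selfConj (hN : 0 < N) {S : Finset ℕ}
    (hsub : S ⊆ Finset.range (2 * N)) (hsym : refl (2 * N) S = S)
    (hw : 0 < runnersExcess 2 S) : 1 ≤ symHeight 2 S := by
  have he := excess_eq_of_selfConj hN hsub hsym
  set m := excess (runner 2 0 S) with hm
  have hwm : runnersExcess 2 S = 2 * m := by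
    rw [runnersExcess, Finset.sum_range_succ, Finset.sum_range_one, he]; omega
  have hev : 2 ∣ (2 * m).choose m := by
    obtain ⟨j, hj⟩ : ∃ j, m = j + 1 := ⟨m - 1, by omega⟩
    rw [hj]
    exact Nat.two_dvd_centralBinom_succ j
  have h := congrArg (fun x : ℕ => x.factorization 2)
    (Nat.choose_mul_factorial_mul_factorial (show m ≤ 2 * m by omega))
  simp only [Nat.factorization_mul (mul_ne_zero (Nat.choose_pos (show m ≤ 2 * m by omega)).ne'
      (Nat.factorial_pos m).ne') (Nat.factorial_pos _).ne',
    Nat.factorization_mul (Nat.choose_pos (show m ≤ 2 * m by omega)).ne' (Nat.factorial_pos m).ne',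
    Finsupp.add_apply, show 2 * m - m = m by omega] at h
  have h1 := (Nat.prime_two.dvd_iff_one_le_factorization (Nat.choose_pos (show m ≤ 2 * m by omega)).ne').mp hev
  rw [symHeight, hwm, Finset.sum_range_succ (f := fun r => ((excess (runner 2 r S))!).factorization 2),
    Finset.sum_range_one, he, ← hm]
  omega

/-! ### Existence of height one -/

theorem sum_three {f : ℕ → ℕ} (hp : 3 ≤ p) (h : ∀ r, 3 ≤ r → f r = 0) :
    ∑ r ∈ Finset.range p, f r = f 0 + f 1 + f 2 := by
  rw [← Finset.sum_subset (Finset.range_mono hp) fun r _ hr => h r (by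
    rw [Finset.mem_range] at hr; omega)]
  simp [Finset.sum_range_succ]

theorem symHeight_eq {S : Finset ℕ} {X : ℕ → Finset ℕ} (h : ∀ r < p, runner p r S = X r) :
    symHeight p S = ((∑ r ∈ Finset.range p, excess (X r))!).factorization p +
      ∑ r ∈ Finset.range p, (shapeDeg (X r)).factorization p -
        ∑ r ∈ Finset.range p, ((excess (X r))!).factorization p := by
  have e : ∀ g : Finset ℕ → ℕ, ∑ r ∈ Finset.range p, g (runner p r S) = ∑ r ∈ Finset.range p, g (X r) :=
    fun g => Finset.sum_congr rfl fun r hr => by rw [h r (Finset.mem_range.mp hr)]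
  rw [symHeight, runnersExcess, e excess, e fun T => (shapeDeg T).factorization p,
    e fun T => ((excess T)!).factorization p]

theorem exists_height_one_odd (hp : p.Prime) (h2 : p ≠ 2) (hN : n + 2 * p ≤ N) {a : Fin N → ℕ}
    (hs : ∑ i, a i = n + N.choose 2) (ha : Function.Injective a) (hw : p ≤ weight p a) :
    ∃ b : Fin N → ℕ, (∑ i, b i = n + N.choose 2) ∧ Function.Injective b ∧
      resid p b = resid p a ∧ symHeight p (entries b) = 1 := by
  have hp3 : 3 ≤ p := by have := hp.two_le; omega
  set c := resid p a
  have hc : ∀ r < p, c.count r - 1 + 1 = c.count r := fun r hr => by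
    have := two_le_count hp.pos hN hs ha hr
    change 2 ≤ c.count r at this
    omega
  set w := weight p a
  obtain ⟨e0, e1, e2, hsum, hval⟩ : ∃ e0 e1 e2 : ℕ, e0 + e1 + e2 = w ∧
      (w !).factorization p =
        (e0 !).factorization p + (e1 !).factorization p + (e2 !).factorization p + 1 := by
    have hq : 0 < w / p := Nat.div_pos hw hp.pos
    by_cases hd : p ∣ w / p
    · obtain ⟨m, -, hm, hv⟩ := exists_one_carry hp hq hd
      exact ⟨w - m, m, 0, by omega, by simpa using hv⟩
    · refine ⟨w - p, p - 1, 1, by omega, ?_⟩
      have hy : (w - p) / p = w / p - 1 := by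
        rw [Nat.div_eq_sub_div hp.pos hw, Nat.add_sub_cancel]
      rw [val_step hp (y := w - p) (q := w / p - 1) (by omega) hy
        (by rwa [Nat.sub_add_cancel hq]),
        Nat.factorization_eq_zero_of_not_dvd (show ¬ p ∣ (p - 1)! from fun h => by
          have := hp.dvd_factorial.mp h; omega), Nat.factorial_one, Nat.factorization_one]
      simp
  set X : ℕ → Finset ℕ := fun r => if r = 0 then row (c.count 0 - 1) e0 else
    if r = 1 then row (c.count 1 - 1) e1 else
    if r = 2 then row (c.count 2 - 1) e2 else Finset.range (c.count r)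
  have hrest : ∀ r, 3 ≤ r → X r = Finset.range (c.count r) := fun r hr => by
    simp only [X]
    rw [if_neg (by omega), if_neg (by omega), if_neg (by omega)]
  have hX : ∀ r, shapeDeg (X r) = 1 := fun r => by
    simp only [X]; split_ifs <;> simp [shapeDeg_row, shapeDeg_range]
  have hsumX : ∀ g : ℕ → ℕ, g 0 = 0 → ∑ r ∈ Finset.range p, g (excess (X r)) = g e0 + g e1 + g e2 :=
    fun g hg => by
      rw [sum_three hp3 fun r hr => by rw [hrest r hr, excess_range, hg]]
      simp [X, excess_row]
  obtain ⟨b, hbs, hb, hres, hrun⟩ := exists_of_runners hp.pos (by omega) hs ha X (fun r hr => by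
    simp only [X]
    split_ifs with h h' h''
    · subst h; rw [card_row]; exact hc 0 hr
    · subst h'; rw [card_row]; exact hc 1 hr
    · subst h''; rw [card_row]; exact hc 2 hr
    · exact Finset.card_range _) ((hsumX id rfl).trans hsum)
  refine ⟨b, hbs, hb, hres, ?_⟩
  have h1 : ∑ r ∈ Finset.range p, (shapeDeg (X r)).factorization p = 0 :=
    Finset.sum_eq_zero fun r _ => by rw [hX]; simp
  have h2 := hsumX (fun e => (e !).factorization p) (by simp)
  have h3 := (hsumX id rfl).trans hsum
  simp only [id] at h3
  rw [symHeight_eq hrun, h1, h2, h3, hval]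
  omega

theorem exists_height_one_two (hN : n + 4 ≤ N) {a : Fin N → ℕ}
    (hs : ∑ i, a i = n + N.choose 2) (ha : Function.Injective a) (hw : 3 ≤ weight 2 a) :
    ∃ b : Fin N → ℕ, (∑ i, b i = n + N.choose 2) ∧ Function.Injective b ∧
      resid 2 b = resid 2 a ∧ symHeight 2 (entries b) = 1 ∧
      refl (2 * N) (entries b) ≠ entries b := by
  have hp := Nat.prime_two
  set c := resid 2 a
  have hc : ∀ r < 2, 2 ≤ c.count r := fun r hr => two_le_count two_pos hN hs ha hr
  have hcN : c.count 0 + c.count 1 = N := by
    have h := card_entries ha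
    rw [Finset.card_eq_sum_ones, sum_by_residue two_pos] at h
    simp only [Finset.sum_const, smul_eq_mul, mul_one, card_runner_entries ha] at h
    exact h
  set w := weight 2 a
  obtain ⟨Y, Z, hY, hZ, hsum, hval, hne⟩ : ∃ Y Z : Finset ℕ, Y.card = c.count 0 ∧
      Z.card = c.count 1 ∧ excess Y + excess Z = w ∧
      (w !).factorization 2 + ((shapeDeg Y).factorization 2 + (shapeDeg Z).factorization 2) =
        ((excess Y)!).factorization 2 + ((excess Z)!).factorization 2 + 1 ∧
      (excess Z ≠ excess Y ∨ refl N Y ≠ Z) := by
    have h0 := hc 0 (by omega)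
    have h1 := hc 1 (by omega)
    by_cases hd : 2 ∣ w / 2
    · obtain ⟨m, hm2, hm, hv⟩ := exists_one_carry hp (w := w) (by omega) hd
      refine ⟨row (c.count 0 - 1) (w - m), row (c.count 1 - 1) m, by rw [card_row]; omega,
        by rw [card_row]; omega, by rw [excess_row, excess_row]; omega, ?_, ?_⟩
      · simp only [shapeDeg_row, excess_row, Nat.factorization_one, Finsupp.coe_zero, Pi.zero_apply,
          add_zero]
        omega
      · by_cases he : w - m = m
        · exact Or.inr (by rw [he]; exact row_ne_refl_row (by omega) hm2)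
        · exact Or.inl (by rw [excess_row, excess_row]; exact Ne.symm he)
    · by_cases hodd : 2 ∣ w
      · refine ⟨row (c.count 0 - 1) (w - 1), row (c.count 1 - 1) 1, by rw [card_row]; omega,
          by rw [card_row]; omega, by rw [excess_row, excess_row]; omega, ?_, Or.inl ?_⟩
        · simp only [shapeDeg_row, excess_row, Nat.factorial_one, Nat.factorization_one,
            Finsupp.coe_zero, Pi.zero_apply, add_zero]
          exact val_step hp (q := w / 2 - 1) (by omega) (by omega)
            (by rwa [show w / 2 - 1 + 1 = w / 2 by omega])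
        · rw [excess_row, excess_row]; omega
      · obtain ⟨hk, hke, hkd⟩ := hookThree_spec (c.count 0 - 2)
        refine ⟨hookThree (c.count 0 - 2), row (c.count 1 - 1) (w - 3), by rw [hk]; omega,
          by rw [card_row]; omega, by rw [hke, excess_row]; omega, ?_, Or.inl ?_⟩
        · have h3 : ((3 : ℕ)!).factorization 2 = 1 := by
            rw [show (3 : ℕ)! = 2 * 3 from rfl, Nat.factorization_mul two_ne_zero (by omega),
              Finsupp.add_apply, hp.factorization_self,
              Nat.factorization_eq_zero_of_not_dvd (by omega)]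
          have hstep := val_step hp (w := w) (y := w - 3) (q := w / 2 - 1) (by omega) (by omega)
            (by rwa [show w / 2 - 1 + 1 = w / 2 by omega])
          simp only [shapeDeg_row, excess_row, hke, hkd, h3, hp.factorization_self,
            Nat.factorization_one, Finsupp.coe_zero, Pi.zero_apply, add_zero]
          omega
        · rw [excess_row, hke]; omega
  set X : ℕ → Finset ℕ := fun r => if r = 0 then Y else Z
  have hX2 : ∀ g : Finset ℕ → ℕ, ∑ r ∈ Finset.range 2, g (X r) = g Y + g Z := fun g => by
    simp [Finset.sum_range_succ, X]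
  obtain ⟨b, hbs, hb, hres, hrun⟩ := exists_of_runners two_pos (by omega) hs ha X (fun r hr => by
    rcases (show r = 0 ∨ r = 1 by omega) with rfl | rfl
    · simpa [X] using hY
    · simpa [X] using hZ) ((hX2 excess).trans hsum)
  refine ⟨b, hbs, hb, hres, ?_, ?_⟩
  · rw [symHeight_eq hrun, hX2 excess, hX2 fun T => (shapeDeg T).factorization 2,
      hX2 fun T => ((excess T)!).factorization 2, hsum]
    omega
  · intro hsym
    have r0 : runner 2 0 (entries b) = Y := by simpa [X] using hrun 0 (by omega)
    have r1 : runner 2 1 (entries b) = Z := by simpa [X] using hrun 1 (by omega)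
    rcases hne with hne | hne
    · refine hne ?_
      have e := excess_eq_of_selfConj (by omega) (entries_subset (by omega) hbs hb) hsym
      rwa [r0, r1] at e
    · refine hne ?_
      have e := (runner_one_of_refl (N := N) (by omega) (entries b)).1
      rw [hsym, r0, r1] at e
      exact e.symm

end CfsgLib.SymBlocks
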