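import Cfsg.Agent.SymBlocks.Orth

/-!
Linear relations among the alternant coefficients at cycle lengths avoiding a given length, and
the orthogonality they give between two multisets of cycle lengths.
-/

set_option autoImplicit false
set_option linter.unusedSectionVars false

namespace CfsgLib.SymBlocks

open Finset

variable {N : ℕ}

theorem Alternating.eq_zero_of_not_injective {ι V : Type*} [DecidableEq ι] [AddCommGroup V]
    {Φ : (ι → ℕ) → V} (hΦ : Alternating Φ) {a : ι → ℕ} (h : ¬ Function.Injective a) : Φ a = 0 := by
  obtain ⟨x, y, hxy, hne⟩ := Function.not_injective_iff.mp h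
  exact hΦ.repeated _ x y hne hxy

/-- A vector of small excess attains every small value. -/
theorem exists_eq_of_sum_le {b : Fin N → ℕ} (hinj : Function.Injective b) {k v : ℕ}
    (h : ∑ i, b i ≤ k + N.choose 2) (hv : v + k < N) : ∃ i, b i = v := by
  by_contra hne
  push Not at hne
  set c : Fin N → ℕ := fun i => if b i < v then b i else b i - 1 with hc
  have hcinj : Function.Injective c := by
    intro i j hij
    apply hinj
    have := hne i; have := hne j
    simp only [hc] at hij
    split_ifs at hij <;> omega
  have hsum : ∑ i, b i = ∑ i, c i + (univ.filter fun i => ¬ b i < v).card := by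
    rw [Finset.card_filter, ← Finset.sum_add_distrib]
    refine Finset.sum_congr rfl fun i _ => ?_
    have := hne i
    simp only [hc]
    split_ifs <;> omega
  have hcard : (univ.filter fun i => b i < v).card ≤ v := by
    have := Finset.card_le_card_of_injOn (s := univ.filter fun i => b i < v) (t := Finset.range v) b
      (fun i hi => Finset.mem_range.mpr (Finset.mem_filter.mp hi).2) hinj.injOn
    simpa using this
  have hsplit := Finset.card_filter_add_card_filter_not (s := (univ : Finset (Fin N)))
    (p := fun i => b i < v)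
  rw [Finset.card_univ, Fintype.card_fin] at hsplit
  have := choose_add_le_sum hcinj
  omega

theorem sum_raise_eq_zero_of_not_injective {V : Type*} [AddCommGroup V] {Φ : (Fin N → ℕ) → V}
    (hΦ : Alternating Φ) {b : Fin N → ℕ} (hb : ¬ Function.Injective b) (m : ℕ) :
    ∑ i, Φ (raise b i m) = 0 := by
  obtain ⟨x, y, hxy, hne⟩ := Function.not_injective_iff.mp hb
  rw [Finset.sum_eq_add x y hne (fun k _ hk => hΦ.repeated _ x y hne (by
      rw [raise_ne _ (Ne.symm hk.1), raise_ne _ (Ne.symm hk.2), hxy]))
    (fun h => absurd (Finset.mem_univ _) h) (fun h => absurd (Finset.mem_univ _) h)]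
  have e : raise b y m = raise b x m ∘ Equiv.swap x y := by
    funext k
    simp only [Function.comp_apply]
    by_cases h1 : k = x
    · subst h1; rw [Equiv.swap_apply_left, raise_ne _ hne, raise_ne _ hne.symm, hxy]
    by_cases h2 : k = y
    · subst h2; rw [Equiv.swap_apply_right, raise_self, raise_self, hxy]
    rw [Equiv.swap_apply_of_ne_of_ne h1 h2, raise_ne _ h2, raise_ne _ h1]
  rw [e, hΦ.swap _ x y hne, add_neg_cancel]

theorem lower_raise_comm (b : Fin N → ℕ) {i k : Fin N} (h : k ≠ i) (m m' : ℕ) :
    lower (raise b i m') k m = raise (lower b k m) i m' := by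
  funext l
  by_cases hlk : l = k
  · subst hlk; rw [lower_self, raise_ne _ h, raise_ne _ h, lower_self]
  · rw [lower_ne _ hlk]
    by_cases hli : l = i
    · subst hli; rw [raise_self, raise_self, lower_ne _ hlk]
    · rw [raise_ne _ hli, raise_ne _ hli, lower_ne _ hlk]

/-- **The relation.** At cycle lengths avoiding `M`, the coefficients of the vectors obtained by
raising one entry by `M` sum to zero. -/
theorem sum_frob_raise_eq_zero (M : ℕ) (hM : 1 ≤ M) : ∀ (L : Multiset ℕ), M ∉ L → L.sum ≤ N →
    ∀ b : Fin N → ℕ, ∑ i, b i + M = L.sum + N.choose 2 → ∑ i, frob L (raise b i M) = 0 := by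
  intro L
  induction L using Multiset.induction_on with
  | empty =>
    intro _ _ b hb
    by_cases hinj : Function.Injective b
    · have := choose_add_le_sum hinj
      simp only [Multiset.sum_zero] at hb
      omega
    · exact sum_raise_eq_zero_of_not_injective (frob_alternating _) hinj M
  | cons m L ih =>
    intro hML hN b hb
    by_cases hinj : Function.Injective b
    swap
    · exact sum_raise_eq_zero_of_not_injective (frob_alternating _) hinj M
    rw [Multiset.mem_cons, not_or] at hML
    rw [Multiset.sum_cons] at hN hb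
    have hrhs : ∑ k, (if m ≤ b k then ∑ i, frob L (raise (lower b k m) i M) else 0) = 0 := by
      refine Finset.sum_eq_zero fun k _ => ?_
      split_ifs with hk
      · exact ih hML.2 (by omega) _ (by have := sum_lower b hk; omega)
      · rfl
    rw [← hrhs]
    simp only [frob_cons]
    rw [Finset.sum_comm]
    refine Finset.sum_congr rfl fun k _ => ?_
    rw [show (if m ≤ b k then ∑ i, frob L (raise (lower b k m) i M) else 0) =
      ∑ i, if m ≤ b k then frob L (raise (lower b k m) i M) else 0 by split_ifs <;> simp]
    refine Finset.sum_congr rfl fun i _ => ?_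
    by_cases hki : k = i
    swap
    · rw [raise_ne _ hki, lower_raise_comm b hki]
    subst hki
    rw [raise_self]
    by_cases h1 : m ≤ b k
    · rw [if_pos (show m ≤ b k + M by omega), if_pos h1]
      congr 1
      funext l
      by_cases hl : l = k
      · subst hl; rw [lower_self, raise_self, raise_self, lower_self]; omega
      · rw [lower_ne _ hl, raise_ne _ hl, raise_ne _ hl, lower_ne _ hl]
    rw [if_neg h1]
    by_cases h2 : m ≤ b k + M
    swap
    · rw [if_neg h2]
    rw [if_pos h2]
    have hsum := choose_add_le_sum hinj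
    obtain ⟨j, hj⟩ := exists_eq_of_sum_le hinj (k := m + L.sum - M) (v := b k + M - m)
      (by omega) (by omega)
    have hjk : j ≠ k := by rintro rfl; exact hML.1 (by omega)
    refine (frob_alternating L).repeated _ j k hjk ?_
    rw [lower_self, lower_ne _ hjk, raise_ne _ hjk, raise_self, hj]

/-- **Orthogonality of columns.** Over a set of vectors closed under moves by `M`, the columns of a
multiset avoiding `M` and of one containing `M` are orthogonal. -/
theorem sum_frob_mul_frob_eq_zero (P : (Fin N → ℕ) → Prop) [DecidablePred P] {L L' : Multiset ℕ}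
    {M : ℕ} (hM : 1 ≤ M) (hML : M ∉ L) (hML' : M ∈ L') (hs : L.sum = L'.sum) (hN : L.sum ≤ N)
    (hP : ∀ (b : Fin N → ℕ) i j, P (raise b i M) → P (raise b j M)) :
    ∑ a ∈ (piAntidiag univ (L.sum + N.choose 2)).filter P, frob L a * frob L' a = 0 := by
  obtain ⟨L'', rfl⟩ := Multiset.exists_cons_of_mem hML'
  rw [Multiset.sum_cons] at hs
  simp only [frob_cons, Finset.mul_sum, mul_ite, mul_zero]
  rw [← Finset.sum_product', ← Finset.sum_filter]
  have hb : ∀ b ∈ piAntidiag (univ : Finset (Fin N)) (L''.sum + N.choose 2),
      ∑ i, (if P (raise b i M) then frob L (raise b i M) * frob L'' b else 0) = 0 := by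
    intro b hb
    rw [Finset.mem_piAntidiag] at hb
    have hbs : ∑ i, b i = L''.sum + N.choose 2 := hb.1
    have h0 := sum_frob_raise_eq_zero M hM L hML hN b (by omega)
    by_cases h : ∃ i, P (raise b i M)
    · obtain ⟨i0, hi0⟩ := h
      rw [Finset.sum_congr rfl fun i _ => if_pos (hP b i0 i hi0), ← Finset.sum_mul, h0, zero_mul]
    · exact Finset.sum_eq_zero fun i _ => if_neg fun hi => h ⟨i, hi⟩
  rw [← Finset.sum_eq_zero hb, ← Finset.sum_product', ← Finset.sum_filter]
  refine Finset.sum_nbij' (fun z => (lower z.1 z.2 M, z.2)) (fun z => (raise z.1 z.2 M, z.2))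
    ?_ ?_ ?_ ?_ ?_
  · rintro ⟨a, i⟩ h
    simp only [Finset.coe_filter, Set.mem_ofPred_eq, Finset.mem_product, Finset.mem_filter,
      Finset.mem_piAntidiag, Finset.mem_univ, and_true, implies_true] at h ⊢
    obtain ⟨⟨ha, hPa⟩, hi⟩ := h
    replace ha : ∑ k, a k = L.sum + N.choose 2 := ha
    have := sum_lower a hi
    refine ⟨show ∑ k, lower a i M k = L''.sum + N.choose 2 by omega, ?_⟩
    rwa [raise_lower_self a hi]
  · rintro ⟨b, i⟩ h
    simp only [Finset.coe_filter, Set.mem_ofPred_eq, Finset.mem_product, Finset.mem_filter,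
      Finset.mem_piAntidiag, Finset.mem_univ, and_true, implies_true] at h ⊢
    obtain ⟨hb', hPb⟩ := h
    replace hb' : ∑ k, b k = L''.sum + N.choose 2 := hb'
    refine ⟨⟨show ∑ k, raise b i M k = L.sum + N.choose 2 by rw [sum_raise]; omega, hPb⟩, ?_⟩
    rw [raise_self]; omega
  · rintro ⟨a, i⟩ h
    simp only [Finset.mem_filter, Finset.mem_coe] at h
    simp only [raise_lower_self a h.2]
  · rintro ⟨b, i⟩ _
    simp only [lower_raise_self]
  · rintro ⟨a, i⟩ h
    simp only [Finset.mem_filter] at h
    simp only [raise_lower_self a h.2]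

end CfsgLib.SymBlocks
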