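import Cfsg.Agent.SymBlocks.Colour
import Cfsg.Agent.SymBlocks.Relation

/-!
The alternant coefficients give all irreducible characters of a symmetric group, up to sign.
-/

set_option autoImplicit false
set_option linter.unusedSectionVars false

namespace CfsgLib.SymBlocks

open Finset Equiv Equiv.Perm
open Cfsg (IrrCharacter classInner)
open scoped ComplexConjugate Nat

variable {n N : ℕ}

/-- The cycle lengths of a permutation as a partition of `n`. -/
def ptn (σ : Perm (Fin n)) : Nat.Partition n where
  parts := σ.partition.parts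
  parts_pos h := σ.partition.parts_pos h
  parts_sum := by rw [σ.partition.parts_sum, Fintype.card_fin]

theorem zed_add_replicate {L : Multiset ℕ} (h : (1 : ℕ) ∉ L) (k : ℕ) :
    zed (L + Multiset.replicate k 1) = zed L * k ! := by
  induction k with
  | zero => simp
  | succ k ih =>
    rw [Multiset.replicate_succ, Multiset.add_cons, zed_cons, ih, Multiset.count_add,
      Multiset.count_eq_zero.mpr h, Multiset.count_replicate_self, Nat.factorial_succ]
    ring

/-- The size of a class, by cycle lengths. -/
theorem card_ptn_mul_zed (l : Nat.Partition n) :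
    ((Finset.univ : Finset (Perm (Fin n))).filter fun σ => ptn σ = l).card * zed l.parts = n ! := by
  classical
  have hsplit : l.parts.filter (2 ≤ ·) +
      Multiset.replicate (n - (l.parts.filter (2 ≤ ·)).sum) 1 = l.parts := by
    have h1 := Multiset.filter_add_not (2 ≤ ·) l.parts
    have h2 : l.parts.filter (fun d => ¬ 2 ≤ d) =
        Multiset.replicate (l.parts.filter (fun d => ¬ 2 ≤ d)).card 1 :=
      Multiset.eq_replicate_card.mpr fun d hd => by
        obtain ⟨hd1, hd2⟩ := Multiset.mem_filter.mp hd
        have := l.parts_pos hd1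
        omega
    have h3 := congrArg Multiset.sum h1
    rw [Multiset.sum_add, l.parts_sum, h2, Multiset.sum_replicate, smul_eq_mul, mul_one] at h3
    conv_rhs => rw [← h1, h2]
    rw [show n - (l.parts.filter (2 ≤ ·)).sum = (l.parts.filter (fun d => ¬ 2 ≤ d)).card by omega]
  obtain ⟨g, hg⟩ : ∃ g : Perm (Fin n), g.cycleType = l.parts.filter (2 ≤ ·) := by
    refine (exists_with_cycleType_iff (Fin n)).mpr ⟨?_, fun a ha => (Multiset.mem_filter.mp ha).2⟩
    rw [Fintype.card_fin]
    have := congrArg Multiset.sum hsplit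
    rw [Multiset.sum_add, l.parts_sum] at this
    omega
  have hgp : g.partition.parts = l.parts := by
    rw [Equiv.Perm.parts_partition, ← sum_cycleType, Fintype.card_fin, hg, hsplit]
  have hset : {h : Perm (Fin n) | IsConj g h} = {σ | ptn σ = l} := by
    ext σ
    simp only [Set.mem_ofPred_eq]
    rw [Nat.Partition.ext_iff, partition_eq_of_isConj, Nat.Partition.ext_iff]
    show _ ↔ σ.partition.parts = _
    rw [← hgp, eq_comm]
  have hcard : Nat.card {h : Perm (Fin n) | IsConj g h} =
      ((Finset.univ : Finset (Perm (Fin n))).filter fun σ => ptn σ = l).card := by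
    rw [hset, Nat.card_eq_fintype_card, Fintype.card_ofFinset]
    simp
  have hzed : zed l.parts =
      (n - g.cycleType.sum) ! * g.cycleType.prod * ∏ d ∈ g.cycleType.toFinset, (g.cycleType.count d) ! := by
    conv_lhs => rw [← hsplit]
    rw [zed_add_replicate (fun h => absurd (Multiset.mem_filter.mp h).2 (by omega)), hg, zed]
    ring
  have := card_isConj_mul_eq g
  rw [hcard, Fintype.card_fin, ← hzed] at this
  exact this

/-- Class inner products of integral functions of the cycle lengths are pairings. -/
theorem classInner_parts (f g : Multiset ℕ → ℤ) :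
    classInner (fun σ : Perm (Fin n) => (f σ.partition.parts : ℂ))
      (fun σ => (g σ.partition.parts : ℂ)) = (pairing n f g : ℂ) := by
  classical
  rw [classInner, pairing]
  simp only [map_intCast, ← Int.cast_mul]
  rw [← Finset.sum_fiberwise (Finset.univ : Finset (Perm (Fin n))) ptn, Finset.mul_sum, Rat.cast_sum]
  refine Finset.sum_congr rfl fun l _ => ?_
  rw [Finset.sum_congr rfl (g := fun _ => ((f l.parts * g l.parts : ℤ) : ℂ)) fun σ hσ => by
      rw [← (Finset.mem_filter.mp hσ).2]; rfl,
    Finset.sum_const, nsmul_eq_mul]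
  have hcard : (Nat.card (Perm (Fin n)) : ℂ) =
      ((((Finset.univ : Finset (Perm (Fin n))).filter fun σ => ptn σ = l).card : ℂ)) * zed l.parts := by
    rw [← Nat.cast_mul, card_ptn_mul_zed, Nat.card_eq_fintype_card, Fintype.card_perm, Fintype.card_fin]
  have hz : (zed l.parts : ℂ) ≠ 0 := Nat.cast_ne_zero.mpr (zed_pos fun m hm => l.parts_pos hm).ne'
  have hne : ((((Finset.univ : Finset (Perm (Fin n))).filter fun σ => ptn σ = l).card : ℂ)) ≠ 0 := by
    intro h0
    rw [h0, zero_mul] at hcard
    exact Nat.card_pos.ne' (Nat.cast_eq_zero.mp hcard)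
  rw [hcard, Rat.cast_div, Rat.cast_natCast, Rat.cast_intCast]
  field_simp

theorem classInner_chi {a b : Fin N → ℕ} (ha : ∑ i, a i = n + N.choose 2) :
    classInner (chi (n := n) a) (chi (n := n) b) = (dlt a b : ℂ) := by
  rw [show chi (n := n) a = (fun σ : Perm (Fin n) => ((fun L => frob L a) σ.partition.parts : ℂ))
    from rfl]
  erw [classInner_parts (fun L => frob L a) (fun L => frob L b), pairing_frob n a b ha]
  norm_num

theorem chi_eq_zero {a : Fin N → ℕ} (h : ¬ Function.Injective a) : chi (n := n) a = 0 :=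
  funext fun σ => by rw [chi, (frob_alternating _).eq_zero_of_not_injective h]; simp

theorem exists_perm_of_dlt_ne_zero {a b : Fin N → ℕ} (h : dlt a b ≠ 0) :
    ∃ π : Perm (Fin N), b = a ∘ π := by
  by_contra hne
  exact h (dlt_eq_zero fun π e => hne ⟨π, e⟩)

/-- Each coefficient vector with distinct entries gives an irreducible character up to sign. -/
theorem exists_irr_chi {a : Fin N → ℕ} (ha : ∑ i, a i = n + N.choose 2) (hinj : Function.Injective a) :
    ∃ (θ : IrrCharacter (Perm (Fin n))) (ε : ℂ), (ε = 1 ∨ ε = -1) ∧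
      chi (n := n) a = ε • (θ : Perm (Fin n) → ℂ) := by
  have h1 : classInner (chi (n := n) a) (chi (n := n) a) = 1 := by
    rw [classInner_chi ha, dlt_self hinj, Int.cast_one]
  rcases Characters.gen_norm_one (isGen_chi a) h1 with h | h
  · exact ⟨⟨_, h⟩, 1, Or.inl rfl, (one_smul _ _).symm⟩
  · exact ⟨⟨_, h⟩, -1, Or.inr rfl, by simp⟩

theorem chi_one_ne_zero {a : Fin N → ℕ} (ha : ∑ i, a i = n + N.choose 2)
    (hinj : Function.Injective a) : chi (n := n) a 1 ≠ 0 := by
  obtain ⟨θ, ε, hε, e⟩ := exists_irr_chi ha hinj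
  obtain ⟨d, hd, hd'⟩ := Characters.exists_degree_pos θ.2
  rw [e, Pi.smul_apply, smul_eq_mul, hd']
  exact mul_ne_zero (by rcases hε with rfl | rfl <;> norm_num) (Nat.cast_ne_zero.mpr (by omega))

theorem parts_one : (1 : Perm (Fin n)).partition.parts = Multiset.replicate n 1 := by
  rw [Equiv.Perm.parts_partition]; simp

theorem exists_two_le_mem_parts {σ : Perm (Fin n)} (h : σ ≠ 1) :
    ∃ m ∈ σ.partition.parts, 2 ≤ m := by
  obtain ⟨m, hm⟩ := Multiset.exists_mem_of_ne_zero fun h0 => h (cycleType_eq_zero.mp h0)
  exact ⟨m, by rw [Equiv.Perm.parts_partition]; exact Multiset.mem_add.mpr (Or.inl hm),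
    two_le_of_mem_cycleType hm⟩

theorem sum_parts (σ : Perm (Fin n)) : σ.partition.parts.sum = n := by
  rw [σ.partition.parts_sum, Fintype.card_fin]

theorem chi_conj (a : Fin N → ℕ) (σ : Perm (Fin n)) : conj (chi a σ) = chi a σ := by
  simp [chi]

/-- A vector of the right sum with distinct entries. -/
theorem exists_injective_sum (hN : n ≤ N) :
    ∃ a : Fin N → ℕ, (∑ i, a i = n + N.choose 2) ∧ Function.Injective a := by
  rcases N with _ | N
  · exact ⟨fun i => i, by simp; omega, Fin.val_injective⟩
  · refine ⟨raise (fun i : Fin (N + 1) => (i : ℕ)) (Fin.last N) n, ?_, ?_⟩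
    · rw [sum_raise, Fin.sum_univ_eq_sum_range (fun x => x), Finset.sum_range_id,
        ← Nat.choose_two_right]
      omega
    · intro i j h
      by_cases hi : i = Fin.last N <;> by_cases hj : j = Fin.last N
      · rw [hi, hj]
      · subst hi
        rw [raise_self, raise_ne _ hj] at h
        have := Fin.val_lt_last hj
        simp only [Fin.val_last] at h
        omega
      · subst hj
        rw [raise_self, raise_ne _ hi] at h
        have := Fin.val_lt_last hi
        simp only [Fin.val_last] at h
        omega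
      · rw [raise_ne _ hi, raise_ne _ hj] at h
        exact Fin.val_injective h

/-- The coefficient vectors of `n` in `N` entries. -/
noncomputable def tuples (n N : ℕ) : Finset (Fin N → ℕ) :=
  piAntidiag univ (n + N.choose 2)

theorem mem_tuples {a : Fin N → ℕ} : a ∈ tuples n N ↔ ∑ i, a i = n + N.choose 2 := by
  simp [tuples]

/-- **Every irreducible character of a symmetric group occurs.** -/
theorem exists_chi (hN : n ≤ N) (ψ : IrrCharacter (Perm (Fin n))) :
    ∃ (a : Fin N → ℕ), (∑ i, a i = n + N.choose 2) ∧ Function.Injective a ∧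
      ∃ ε : ℂ, (ε = 1 ∨ ε = -1) ∧ chi (n := n) a = ε • (ψ : Perm (Fin n) → ℂ) := by
  classical
  set F : Perm (Fin n) → ℂ := ∑ a ∈ tuples n N, chi (n := n) a 1 • chi (n := n) a with hF
  have hF1 : F 1 ≠ 0 := by
    obtain ⟨a0, ha0, hinj0⟩ := exists_injective_sum hN
    have e : F 1 = ((∑ a ∈ tuples n N, frob (1 : Perm (Fin n)).partition.parts a *
        frob (1 : Perm (Fin n)).partition.parts a : ℤ) : ℂ) := by
      simp [hF, chi]
    rw [e, Ne, Int.cast_eq_zero,
      Finset.sum_eq_zero_iff_of_nonneg fun a _ => mul_self_nonneg _]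
    intro h
    have := h a0 (mem_tuples.mpr ha0)
    exact chi_one_ne_zero ha0 hinj0 (by simp [chi, mul_self_eq_zero.mp this])
  have hF0 : ∀ g, g ≠ 1 → F g = 0 := by
    intro g hg
    obtain ⟨m, hm, hm2⟩ := exists_two_le_mem_parts hg
    have h := sum_frob_mul_frob_eq_zero (N := N) (fun _ => True)
      (L := (1 : Perm (Fin n)).partition.parts) (L' := g.partition.parts) (M := m) (by omega)
      (fun h => by rw [parts_one] at h; have := Multiset.eq_of_mem_replicate h; omega)
      hm (by rw [sum_parts, sum_parts]) (by rw [sum_parts]; exact hN) (fun _ _ _ _ => trivial)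
    rw [Finset.filter_true, sum_parts] at h
    have h' := congrArg (fun z : ℤ => (z : ℂ)) h
    simp only [Int.cast_sum, Int.cast_mul, Int.cast_zero] at h'
    simpa [hF, chi, tuples] using h'
  have hne : classInner F (ψ : Perm (Fin n) → ℂ) ≠ 0 := by
    obtain ⟨d, hd, hd'⟩ := Characters.exists_degree_pos ψ.2
    rw [classInner, Finset.sum_eq_single 1 (fun g _ hg => by rw [hF0 g hg, zero_mul]) (by simp), hd',
      map_natCast]
    exact mul_ne_zero (inv_ne_zero (Nat.cast_ne_zero.mpr Nat.card_pos.ne'))
      (mul_ne_zero hF1 (Nat.cast_ne_zero.mpr (by omega)))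
  rw [hF, Characters.classInner_sum_left] at hne
  obtain ⟨a, ha, hne'⟩ := Finset.exists_ne_zero_of_sum_ne_zero hne
  rw [Characters.classInner_smul_left] at hne'
  have hinj : Function.Injective a := by
    by_contra h
    rw [chi_eq_zero h] at hne'
    simp at hne'
  obtain ⟨θ, ε, hε, e⟩ := exists_irr_chi (mem_tuples.mp ha) hinj
  refine ⟨a, mem_tuples.mp ha, hinj, ε, hε, ?_⟩
  rw [e, Characters.classInner_smul_left, Characters.classInner_irr] at hne'
  split_ifs at hne' with h
  · rw [e, h]
  · simp at hne'

/-- Sums over coefficient vectors are sums over irreducible characters. -/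
theorem sum_chi_mul (P : (Fin N → ℕ) → Prop) [DecidablePred P]
    (hP : ∀ a (π : Perm (Fin N)), P a → P (a ∘ π))
    (U : Set (IrrCharacter (Perm (Fin n)))) [DecidablePred (· ∈ U)]
    (hU : ∀ θ, θ ∈ U ↔ ∃ a ∈ (tuples n N).filter P,
      classInner (chi (n := n) a) (θ : Perm (Fin n) → ℂ) ≠ 0) (x y : Perm (Fin n)) :
    ∑ a ∈ (tuples n N).filter P, chi (n := n) a x * chi (n := n) a y =
      (N ! : ℂ) * ∑ θ : IrrCharacter (Perm (Fin n)),
        if θ ∈ U then (θ : Perm (Fin n) → ℂ) x * conj ((θ : Perm (Fin n) → ℂ) y) else 0 := by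
  classical
  have hterm : ∀ a ∈ (tuples n N).filter P, chi (n := n) a x * chi (n := n) a y =
      ∑ θ : IrrCharacter (Perm (Fin n)),
        if classInner (chi (n := n) a) (θ : Perm (Fin n) → ℂ) ≠ 0 then
          (θ : Perm (Fin n) → ℂ) x * conj ((θ : Perm (Fin n) → ℂ) y) else 0 := by
    intro a ha
    have ha' := mem_tuples.mp (Finset.mem_filter.mp ha).1
    by_cases hinj : Function.Injective a
    swap
    · rw [chi_eq_zero hinj]
      simp [classInner]
    obtain ⟨θ, ε, hε, e⟩ := exists_irr_chi ha' hinj
    have hne : ε ≠ 0 := by rcases hε with rfl | rfl <;> norm_num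
    rw [Finset.sum_eq_single θ]
    · rw [if_pos]
      · rw [← chi_conj a y, e]
        rcases hε with rfl | rfl <;> simp
      · rw [e, Characters.classInner_smul_left, Characters.classInner_irr, if_pos rfl, mul_one]
        exact hne
    · intro ψ _ hψ
      rw [if_neg]
      rw [e, Characters.classInner_smul_left, Characters.classInner_irr, if_neg (Ne.symm hψ)]
      simp
    · simp
  rw [Finset.sum_congr rfl hterm, Finset.sum_comm, Finset.mul_sum]
  refine Finset.sum_congr rfl fun θ _ => ?_
  rw [← Finset.sum_filter, Finset.sum_const, nsmul_eq_mul]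
  by_cases hθ : θ ∈ U
  swap
  · rw [if_neg hθ, mul_zero, Finset.filter_eq_empty_iff.mpr fun a ha h => hθ ((hU θ).mpr ⟨a, ha, h⟩)]
    simp
  rw [if_pos hθ]
  congr 2
  obtain ⟨a0, ha0, hne0⟩ := (hU θ).mp hθ
  obtain ⟨hs0, hP0⟩ := Finset.mem_filter.mp ha0
  rw [mem_tuples] at hs0
  have hinj0 : Function.Injective a0 := by
    by_contra h; rw [chi_eq_zero h] at hne0; simp [classInner] at hne0
  have himage : ((tuples n N).filter P).filter
      (fun a => classInner (chi (n := n) a) (θ : Perm (Fin n) → ℂ) ≠ 0) =
      (Finset.univ : Finset (Perm (Fin N))).image fun π : Perm (Fin N) => a0 ∘ π := by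
    ext a
    simp only [Finset.mem_filter, Finset.mem_image, Finset.mem_univ, true_and, mem_tuples]
    obtain ⟨θ0, ε0, hε0, e0⟩ := exists_irr_chi hs0 hinj0
    have hθ0 : θ0 = θ := by
      rw [e0, Characters.classInner_smul_left, Characters.classInner_irr] at hne0
      by_contra h; rw [if_neg h, mul_zero] at hne0; exact hne0 rfl
    constructor
    · rintro ⟨⟨hs, -⟩, hne⟩
      have hinj : Function.Injective a := by
        by_contra h; rw [chi_eq_zero h] at hne; simp [classInner] at hne
      obtain ⟨θ1, ε1, hε1, e1⟩ := exists_irr_chi hs hinj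
      have hθ1 : θ1 = θ := by
        rw [e1, Characters.classInner_smul_left, Characters.classInner_irr] at hne
        by_contra h; rw [if_neg h, mul_zero] at hne; exact hne rfl
      have hd := classInner_chi (n := n) (b := a) hs0
      rw [e0, e1, hθ0, hθ1, Characters.classInner_smul_left, Characters.classInner_smul_right,
        Characters.classInner_irr, if_pos rfl] at hd
      obtain ⟨π, hπ⟩ := exists_perm_of_dlt_ne_zero (a := a0) (b := a) (fun h0 => by
        rw [h0, Int.cast_zero] at hd
        rcases hε0 with rfl | rfl <;> rcases hε1 with rfl | rfl <;> simp at hd)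
      exact ⟨π, hπ.symm⟩
    · rintro ⟨π, rfl⟩
      refine ⟨⟨(Equiv.sum_comp π a0).trans hs0, hP _ _ hP0⟩, ?_⟩
      rw [show chi (n := n) (a0 ∘ π) = ((Perm.sign π : ℤ) : ℂ) • chi (n := n) a0 from
        funext fun σ => by simp [chi, frob_comp], Characters.classInner_smul_left]
      exact mul_ne_zero (Int.cast_ne_zero.mpr (Units.ne_zero _)) hne0
  rw [himage, Finset.card_image_of_injective _ (fun (π π' : Perm (Fin N)) (h : a0 ∘ π = a0 ∘ π') => Equiv.ext fun k =>
    hinj0 (congrFun h k)), Finset.card_univ, Fintype.card_perm, Fintype.card_fin]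

end CfsgLib.SymBlocks
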