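import Mathlib

/-!
Alternating functions of exponent vectors, and the collection identity for moves of boxes.
-/

set_option autoImplicit false
set_option linter.unusedSectionVars false

namespace CfsgLib.SymBlocks

open Finset

variable {ι : Type*} [Fintype ι] [DecidableEq ι] {V : Type*} [AddCommGroup V]

/-- Alternating function of an exponent vector. -/
structure Alternating (Φ : (ι → ℕ) → V) : Prop where
  swap : ∀ (a : ι → ℕ) (i j : ι), i ≠ j → Φ (a ∘ Equiv.swap i j) = - Φ a
  repeated : ∀ (a : ι → ℕ) (i j : ι), i ≠ j → a i = a j → Φ a = 0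

/-- Lower the entry at `i` by `m`. -/
def lower (a : ι → ℕ) (i : ι) (m : ℕ) : ι → ℕ := Function.update a i (a i - m)

/-- Raise the entry at `i` by `m`. -/
def raise (a : ι → ℕ) (i : ι) (m : ℕ) : ι → ℕ := Function.update a i (a i + m)

theorem lower_self (a : ι → ℕ) (i : ι) (m : ℕ) : lower a i m i = a i - m :=
  Function.update_self ..

theorem lower_ne (a : ι → ℕ) {i k : ι} (h : k ≠ i) (m : ℕ) : lower a i m k = a k :=
  Function.update_of_ne h ..

theorem raise_self (a : ι → ℕ) (i : ι) (m : ℕ) : raise a i m i = a i + m :=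
  Function.update_self ..

theorem raise_ne (a : ι → ℕ) {i k : ι} (h : k ≠ i) (m : ℕ) : raise a i m k = a k :=
  Function.update_of_ne h ..

theorem sum_lower (a : ι → ℕ) {i : ι} {m : ℕ} (h : m ≤ a i) :
    ∑ k, lower a i m k + m = ∑ k, a k := by
  rw [← Finset.add_sum_erase _ _ (mem_univ i), ← Finset.add_sum_erase (f := a) _ (mem_univ i),
    lower_self, Finset.sum_congr rfl fun k hk => lower_ne a (Finset.ne_of_mem_erase hk) m]
  have : ∑ k ∈ univ.erase i, a k = (univ.erase i).sum a := rfl
  omega

theorem sum_raise (a : ι → ℕ) (i : ι) (m : ℕ) : ∑ k, raise a i m k = ∑ k, a k + m := by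
  rw [← Finset.add_sum_erase _ _ (mem_univ i), ← Finset.add_sum_erase (f := a) _ (mem_univ i),
    raise_self, Finset.sum_congr rfl fun k hk => raise_ne a (Finset.ne_of_mem_erase hk) m]
  have : ∑ k ∈ univ.erase i, a k = (univ.erase i).sum a := rfl
  omega

theorem raise_lower_self (a : ι → ℕ) {i : ι} {m : ℕ} (h : m ≤ a i) :
    raise (lower a i m) i m = a := by
  funext k
  by_cases hk : k = i
  · subst hk; rw [raise_self, lower_self]; omega
  · rw [raise_ne _ hk, lower_ne _ hk]

theorem lower_raise_self (a : ι → ℕ) (i : ι) (m : ℕ) : lower (raise a i m) i m = a := by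
  funext k
  by_cases hk : k = i
  · subst hk; rw [lower_self, raise_self]; omega
  · rw [lower_ne _ hk, raise_ne _ hk]

/-- The vector with prescribed entries at two places. -/
def setPair (a : ι → ℕ) (i j : ι) (u v : ℕ) : ι → ℕ :=
  Function.update (Function.update a i u) j v

theorem setPair_swap (a : ι → ℕ) {i j : ι} (h : i ≠ j) (u v : ℕ) :
    setPair a i j u v ∘ Equiv.swap i j = setPair a i j v u := by
  funext k
  simp only [setPair, Function.comp_apply]
  by_cases hi : k = i
  · subst hi; simp [h]
  by_cases hj : k = j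
  · subst hj; simp [h]
  simp [Equiv.swap_apply_of_ne_of_ne hi hj, hi, hj]

theorem setPair_eq_self (a : ι → ℕ) {i j : ι} (_h : i ≠ j) : setPair a i j (a i) (a j) = a := by
  simp [setPair]

theorem setPair_comm (a : ι → ℕ) {i j : ι} (h : i ≠ j) (u v : ℕ) :
    setPair a j i v u = setPair a i j u v := by
  simp only [setPair]
  rw [Function.update_comm h]

theorem raise_lower_ne (a : ι → ℕ) {i j : ι} (h : i ≠ j) (m : ℕ) :
    raise (lower a i m) j m = setPair a i j (a i - m) (a j + m) := by
  rw [raise, lower_ne a h.symm, lower, setPair]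

/-- The moves between two places cancel, up to the vector itself. -/
theorem pair_moves [IsAddTorsionFree V] {Φ : (ι → ℕ) → V} (hΦ : Alternating Φ) (a : ι → ℕ)
    {i j : ι} (h : i ≠ j) :
    (∑ m ∈ Finset.range (a i), Φ (raise (lower a i (m + 1)) j (m + 1))) +
      (∑ m ∈ Finset.range (a j), Φ (raise (lower a j (m + 1)) i (m + 1))) = - Φ a := by
  let S := a i + a j
  let f : ℕ → V := fun s => Φ (setPair a i j s (S - s))
  have e1 : ∑ m ∈ Finset.range (a i), Φ (raise (lower a i (m + 1)) j (m + 1)) =
      ∑ s ∈ Finset.range (a i), f s := by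
    rw [← Finset.sum_range_reflect f]
    refine Finset.sum_congr rfl fun m hm => ?_
    rw [Finset.mem_range] at hm
    simp only [f, S]
    rw [raise_lower_ne a h, show a i - (m + 1) = a i - 1 - m by omega,
      show a i + a j - (a i - 1 - m) = a j + (m + 1) by omega]
  have e2 : ∑ m ∈ Finset.range (a j), Φ (raise (lower a j (m + 1)) i (m + 1)) =
      ∑ m ∈ Finset.range (a j), f (a i + 1 + m) := by
    refine Finset.sum_congr rfl fun m hm => ?_
    rw [Finset.mem_range] at hm
    simp only [f, S]
    rw [raise_lower_ne a h.symm, setPair_comm a h, show a i + a j - (a i + 1 + m) = a j - (m + 1) by omega,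
      show a i + 1 + m = a i + (m + 1) by omega]
  have e0 : ∑ s ∈ Finset.range (S + 1), f s = 0 := by
    have hneg : ∑ s ∈ Finset.range (S + 1), f s = -∑ s ∈ Finset.range (S + 1), f s := by
      conv_lhs => rw [← Finset.sum_range_reflect]
      rw [← Finset.sum_neg_distrib]
      refine Finset.sum_congr rfl fun s hs => ?_
      rw [Finset.mem_range] at hs
      simp only [f]
      rw [show S + 1 - 1 - s = S - s by omega, show S - (S - s) = s by omega,
        ← setPair_swap a h s (S - s), hΦ.swap _ i j h]
    exact self_eq_neg.mp hneg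
  have hfa : f (a i) = Φ a := by
    simp only [f, S]
    rw [Nat.add_sub_cancel_left, setPair_eq_self a h]
  rw [show S + 1 = a i + 1 + a j by omega, Finset.sum_range_add, Finset.sum_range_succ, hfa] at e0
  rw [e1, e2]
  linear_combination (norm := abel) e0

/-- **Collection identity**: all ways of moving `m` boxes down and `m` boxes up. -/
theorem collect [IsAddTorsionFree V] {Φ : (ι → ℕ) → V} (hΦ : Alternating Φ) (a : ι → ℕ) :
    ∑ i, ∑ m ∈ Finset.range (a i), ∑ j, Φ (raise (lower a i (m + 1)) j (m + 1)) =
      ((∑ i, a i : ℕ) : ℤ) • Φ a - ((Fintype.card ι).choose 2 : ℤ) • Φ a := by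
  let P : ι → ι → V := fun i j =>
    ∑ m ∈ Finset.range (a i), Φ (raise (lower a i (m + 1)) j (m + 1))
  have e : ∀ i, ∑ m ∈ Finset.range (a i), ∑ j, Φ (raise (lower a i (m + 1)) j (m + 1)) =
      P i i + ∑ j ∈ Finset.univ.erase i, P i j := fun i => by
    rw [Finset.sum_comm, ← Finset.add_sum_erase _ _ (mem_univ i)]
  have hdiag : ∀ i, P i i = a i • Φ a := fun i => by
    rw [← Finset.card_range (a i), ← Finset.sum_const]
    simp only [P]
    exact Finset.sum_congr rfl fun m hm => by
      rw [raise_lower_self a (Finset.mem_range.mp hm : m < a i)]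
  simp only [e, Finset.sum_add_distrib, hdiag]
  have hoff : (2 : ℕ) • ∑ i, ∑ j ∈ Finset.univ.erase i, P i j =
      (2 : ℕ) • -(((Fintype.card ι).choose 2 : ℤ) • Φ a) := by
    have hs : ∑ i, ∑ j ∈ Finset.univ.erase i, P i j = ∑ i, ∑ j ∈ Finset.univ.erase i, P j i := by
      refine Finset.sum_comm' ?_
      intro x y
      simp [ne_comm]
    calc (2 : ℕ) • ∑ i, ∑ j ∈ Finset.univ.erase i, P i j
        = ∑ i, ∑ j ∈ Finset.univ.erase i, (P i j + P j i) := by
          simp only [Finset.sum_add_distrib]
          rw [← hs, two_nsmul]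
      _ = ∑ i : ι, ∑ j ∈ Finset.univ.erase i, -Φ a :=
          Finset.sum_congr rfl fun i _ => Finset.sum_congr rfl fun j hj =>
            pair_moves hΦ a (Finset.ne_of_mem_erase hj).symm
      _ = (Fintype.card ι * (Fintype.card ι - 1)) • -Φ a := by
          simp [Finset.card_erase_of_mem, mul_nsmul']
      _ = (2 * (Fintype.card ι).choose 2) • -Φ a := by
          rw [Nat.choose_two_right, Nat.mul_div_cancel' (Nat.even_mul_pred_self _).two_dvd]
      _ = _ := by rw [mul_nsmul', smul_neg, smul_neg, natCast_zsmul, smul_neg]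
  rw [nsmul_right_injective two_ne_zero hoff, natCast_zsmul, natCast_zsmul, ← Finset.sum_smul]
  abel

end CfsgLib.SymBlocks
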