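import Cfsg.Agent.SymBlocks.Frob

/-!
Orthonormality of the alternant coefficients, and sums over a symmetric group by cycle lengths.
-/

set_option autoImplicit false
set_option linter.unusedSectionVars false

namespace CfsgLib.SymBlocks

open Finset

/-- The order of the centralizer of a permutation with the given cycle lengths. -/
def zed (L : Multiset ℕ) : ℕ := L.prod * ∏ d ∈ L.toFinset, (L.count d).factorial

theorem zed_cons (m : ℕ) (L : Multiset ℕ) : zed (m ::ₘ L) = m * (L.count m + 1) * zed L := by
  have h : ∀ (M : Multiset ℕ) (S : Finset ℕ), M.toFinset ⊆ S →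
      ∏ d ∈ S, (M.count d).factorial = ∏ d ∈ M.toFinset, (M.count d).factorial := fun M S hS =>
    (Finset.prod_subset hS fun d _ hd => by
      rw [Multiset.count_eq_zero.mpr (fun h => hd (Multiset.mem_toFinset.mpr h)), Nat.factorial_zero]).symm
  simp only [zed, Multiset.prod_cons]
  rw [← h (m ::ₘ L) (insert m L.toFinset) (by simp), ← h L (insert m L.toFinset) (Finset.subset_insert _ _),
    ← Finset.mul_prod_erase _ _ (Finset.mem_insert_self m L.toFinset),
    ← Finset.mul_prod_erase (f := fun d => (L.count d).factorial) _ (Finset.mem_insert_self m L.toFinset),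
    Multiset.count_cons_self, Nat.factorial_succ,
    Finset.prod_congr rfl fun d hd => by
      rw [Multiset.count_cons_of_ne (Finset.ne_of_mem_erase hd)]]
  ring

theorem zed_pos {L : Multiset ℕ} (h : ∀ m ∈ L, 0 < m) : 0 < zed L := by
  refine Nat.mul_pos (Nat.pos_of_ne_zero ?_) (Finset.prod_pos fun d _ => Nat.factorial_pos _)
  exact Multiset.prod_ne_zero fun h0 => (h 0 h0).ne' rfl

/-- Adding a part. -/
def addPart {n : ℕ} (m : ℕ) (hm : m < n) (μ : Nat.Partition (n - (m + 1))) : Nat.Partition n where
  parts := (m + 1) ::ₘ μ.parts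
  parts_pos {i} hi := by
    rcases Multiset.mem_cons.mp hi with rfl | hi
    · omega
    · exact μ.parts_pos hi
  parts_sum := by rw [Multiset.sum_cons, μ.parts_sum]; omega

/-- The pairing of functions of cycle lengths. -/
noncomputable def pairing (n : ℕ) (f g : Multiset ℕ → ℤ) : ℚ :=
  ∑ l : Nat.Partition n, ((f l.parts * g l.parts : ℤ) : ℚ) / zed l.parts

theorem pairing_rec (n : ℕ) (f g : Multiset ℕ → ℤ) :
    (n : ℚ) * pairing n f g = ∑ m ∈ Finset.range n,
      pairing (n - (m + 1)) (fun L => f ((m + 1) ::ₘ L)) (fun L => g ((m + 1) ::ₘ L)) := by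
  have hl : ∀ l : Nat.Partition n, (n : ℚ) * (((f l.parts * g l.parts : ℤ) : ℚ) / zed l.parts) =
      ∑ d ∈ l.parts.toFinset,
        ((d * l.parts.count d : ℕ) : ℚ) * (((f l.parts * g l.parts : ℤ) : ℚ) / zed l.parts) := by
    intro l
    rw [← Finset.sum_mul, ← Nat.cast_sum]
    congr 2
    conv_lhs => rw [← l.parts_sum, Finset.sum_multiset_count]
    exact Finset.sum_congr rfl fun d _ => by rw [smul_eq_mul, mul_comm]
  simp only [pairing, Finset.mul_sum, hl]
  rw [Finset.sum_sigma', Finset.sum_sigma']
  symm
  refine Finset.sum_bij (fun x hx => ⟨addPart x.1 (Finset.mem_range.mp (Finset.mem_sigma.mp hx).1) x.2,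
    x.1 + 1⟩) ?_ ?_ ?_ ?_
  · intro x _
    simp [addPart]
  · rintro ⟨m, μ⟩ _ ⟨m', μ'⟩ _ h
    have h2 := congrArg Sigma.snd h
    simp only at h2
    obtain rfl : m = m' := by omega
    have h1 := congrArg (fun z : (_ : Nat.Partition n) × ℕ => z.1.parts) h
    simp only [addPart, Multiset.cons_inj_right] at h1
    rw [Nat.Partition.ext h1]
  · rintro ⟨l, d⟩ hd
    simp only [Finset.mem_sigma, Finset.mem_univ, true_and, Multiset.mem_toFinset] at hd
    have hpos := l.parts_pos hd
    have hle : d ≤ n := l.parts_sum ▸ Multiset.le_sum_of_mem hd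
    have hsum : (l.parts.erase d).sum = n - (d - 1 + 1) := by
      have := Multiset.sum_cons d (l.parts.erase d)
      rw [Multiset.cons_erase hd, l.parts_sum] at this
      omega
    refine ⟨⟨d - 1, ⟨l.parts.erase d, fun hi => l.parts_pos (Multiset.mem_of_mem_erase hi), hsum⟩⟩,
      Finset.mem_sigma.mpr ⟨Finset.mem_range.mpr (show d - 1 < n by omega), Finset.mem_univ _⟩, ?_⟩
    simp only [show d - 1 + 1 = d by omega, Sigma.mk.injEq, heq_eq_eq, and_true]
    apply Nat.Partition.ext
    simp only [addPart, show d - 1 + 1 = d by omega]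
    exact Multiset.cons_erase hd
  · rintro ⟨m, μ⟩ _
    simp only [addPart, Multiset.count_cons_self, zed_cons]
    have h1 : (((m + 1) * (μ.parts.count (m + 1) + 1) : ℕ) : ℚ) ≠ 0 := by positivity
    push_cast
    field_simp

variable {N : ℕ}

/-- A vector with distinct entries has at least the sum of the staircase, and more unless it is
below `N`. -/
theorem choose_add_le_sum {a : Fin N → ℕ} (hinj : Function.Injective a) :
    N.choose 2 + (Finset.univ.image a \ Finset.range N).card ≤ ∑ i, a i := by
  set S := Finset.univ.image a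
  have hS : S.card = N := by
    rw [Finset.card_image_of_injective _ hinj, Finset.card_univ, Fintype.card_fin]
  have hc : (Finset.range N \ S).card = (S \ Finset.range N).card := by
    have h1 := Finset.card_sdiff_add_card_inter (Finset.range N) S
    have h2 := Finset.card_sdiff_add_card_inter S (Finset.range N)
    rw [Finset.inter_comm, Finset.card_range] at h1
    omega
  have h1 : ∑ x ∈ Finset.range N \ S, x + (Finset.range N \ S).card ≤
      (Finset.range N \ S).card * N := by
    rw [Finset.card_eq_sum_ones, ← Finset.sum_add_distrib, Finset.sum_mul]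
    refine Finset.sum_le_sum fun x hx => ?_
    have := Finset.mem_range.mp (Finset.mem_sdiff.mp hx).1
    omega
  have h2 : (S \ Finset.range N).card * N ≤ ∑ x ∈ S \ Finset.range N, x := by
    rw [← smul_eq_mul]
    exact Finset.card_nsmul_le_sum _ _ _ fun x hx =>
      not_lt.mp fun h => (Finset.mem_sdiff.mp hx).2 (Finset.mem_range.mpr h)
  rw [hc] at h1
  have h3 := Finset.sum_inter_add_sum_sdiff (Finset.range N) S (fun x => x)
  have h4 := Finset.sum_inter_add_sum_sdiff S (Finset.range N) (fun x => x)
  rw [Finset.inter_comm, Finset.sum_range_id, ← Nat.choose_two_right] at h3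
  rw [Finset.sum_image fun x _ y _ h => hinj h] at h4
  omega

theorem dlt_lower_right (a' b : Fin N → ℕ) (m : ℕ) :
    ∑ j, (if m ≤ b j then dlt a' (lower b j m) else 0) = ∑ k, dlt (raise a' k m) b := by
  simp only [dlt]
  have h : ∀ j, (if m ≤ b j then ∑ π : Equiv.Perm (Fin N),
        (Equiv.Perm.sign π : ℤ) * (if lower b j m = a' ∘ π then 1 else 0) else 0) =
      ∑ π : Equiv.Perm (Fin N),
        (Equiv.Perm.sign π : ℤ) * (if b = raise a' (π j) m ∘ π then 1 else 0) := by
    intro j
    have key : ∀ π : Equiv.Perm (Fin N),
        (m ≤ b j ∧ lower b j m = a' ∘ π) ↔ b = raise a' (π j) m ∘ π := by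
      intro π
      constructor
      · rintro ⟨hj, e⟩
        funext k
        by_cases hk : k = j
        · subst hk
          have := congrFun e k
          rw [lower_self, Function.comp_apply] at this
          rw [Function.comp_apply, raise_self]; omega
        · have := congrFun e k
          rw [lower_ne _ hk, Function.comp_apply] at this
          rw [Function.comp_apply, raise_ne _ (π.injective.ne hk), this]
      · rintro rfl
        refine ⟨by simp [raise_self], funext fun k => ?_⟩
        by_cases hk : k = j
        · subst hk; simp [lower_self, raise_self]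
        · simp [lower_ne _ hk, raise_ne _ (π.injective.ne hk)]
    by_cases hj : m ≤ b j
    · rw [if_pos hj]
      exact Finset.sum_congr rfl fun π _ => congrArg _
        (if_congr ⟨fun h => (key π).mp ⟨hj, h⟩, fun h => ((key π).mpr h).2⟩ rfl rfl)
    · rw [if_neg hj]
      exact (Finset.sum_eq_zero fun π _ => by
        rw [if_neg fun h => hj ((key π).mpr h).1, mul_zero]).symm
  simp only [h]
  rw [Finset.sum_comm, Finset.sum_comm (γ := Fin N)]
  refine Finset.sum_congr rfl fun π _ => ?_
  exact Equiv.sum_comp π (fun k => (Equiv.Perm.sign π : ℤ) * if b = raise a' k m ∘ π then 1 else 0)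

theorem dlt_lower_eq_zero {a b : Fin N → ℕ} {i : Fin N} {m : ℕ} (hm : m ≤ a i)
    (h : ∑ k, a k < m + N.choose 2) : ∑ k, dlt (raise (lower a i m) k m) b = 0 := by
  rw [← dlt_lower_right]
  refine Finset.sum_eq_zero fun j _ => ?_
  split_ifs
  · have hni : ¬ Function.Injective (lower a i m) := fun hinj => by
      have := choose_add_le_sum hinj
      have := sum_lower a hm
      omega
    obtain ⟨x, y, hxy, hne⟩ := Function.not_injective_iff.mp hni
    exact (dlt_alternating _).repeated _ x y hne hxy
  · rfl


/-- **Orthonormality.** -/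
theorem pairing_frob : ∀ (n : ℕ) (a b : Fin N → ℕ), ∑ i, a i = n + N.choose 2 →
    pairing n (fun L => frob L a) (fun L => frob L b) = dlt a b := by
  intro n
  induction n using Nat.strong_induction_on with
  | _ n ih =>
  intro a b ha
  rcases Nat.eq_zero_or_pos n with rfl | hn
  · have hu : (Finset.univ : Finset (Nat.Partition 0)) = {⟨0, fun h => by simp at h, rfl⟩} := by
      refine Finset.eq_singleton_iff_unique_mem.mpr ⟨Finset.mem_univ _, fun l _ => ?_⟩
      apply Nat.Partition.ext
      exact Multiset.eq_zero_of_forall_notMem fun i hi => by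
        have := Multiset.le_sum_of_mem hi
        have := l.parts_sum
        have := l.parts_pos hi
        omega
    simp only [pairing, hu, Finset.sum_singleton, zed, Multiset.prod_zero, Multiset.toFinset_zero,
      Finset.prod_empty, mul_one, Nat.cast_one, div_one, frob_zero]
    congr 1
    by_cases hab : ∃ σ : Equiv.Perm (Fin N), a = (fun i : Fin N => (i : ℕ)) ∘ ⇑σ
    · obtain ⟨σ, rfl⟩ := hab
      rw [dlt_comp, dlt_comp, dlt_self Fin.val_injective, mul_one]
      by_cases hb : ∃ τ : Equiv.Perm (Fin N), b = (fun i : Fin N => (i : ℕ)) ∘ ⇑τ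
      · obtain ⟨τ, rfl⟩ := hb
        rw [dlt_comp, dlt_self Fin.val_injective, mul_one, dlt, Finset.sum_eq_single τ]
        · simp
        · intro π _ hπ
          rw [if_neg, mul_zero]
          exact fun e => hπ (Equiv.ext fun k => Fin.val_injective (congrFun e k).symm)
        · simp
      · rw [dlt_eq_zero fun π e => hb ⟨π⁻¹, funext fun k => by simpa using (congrFun e (π⁻¹ k)).symm⟩,
          dlt_eq_zero fun π e => hb ⟨π, e⟩]
    · have h0 : dlt a (fun i : Fin N => (i : ℕ)) = 0 :=
        dlt_eq_zero fun π e => hab ⟨π⁻¹, funext fun k => by simpa using (congrFun e (π⁻¹ k)).symm⟩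
      rw [h0, zero_mul]
      symm
      by_contra hne
      rw [dlt] at hne
      obtain ⟨π, -, hπ⟩ := Finset.exists_ne_zero_of_sum_ne_zero hne
      have hbπ : b = a ∘ π := by
        by_contra h; rw [if_neg h, mul_zero] at hπ; exact hπ rfl
      -- the sum of a vector with distinct entries is at least that of the staircase
      have hinj : Function.Injective a := by
        intro i j hij
        by_contra hne'
        exact hne ((dlt_alternating b).repeated a i j hne' hij)
      have hlt : ∀ i, a i < N := by
        intro i
        by_contra hi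
        have h1 := choose_add_le_sum hinj
        have h2 : 0 < (Finset.univ.image a \ Finset.range N).card :=
          Finset.card_pos.mpr ⟨a i, Finset.mem_sdiff.mpr ⟨Finset.mem_image_of_mem _ (Finset.mem_univ _),
            fun h => hi (Finset.mem_range.mp h)⟩⟩
        omega
      let f : Fin N → Fin N := fun i => ⟨a i, hlt i⟩
      have hf : Function.Injective f := fun i j h => hinj (congrArg Fin.val h)
      exact hab ⟨Equiv.ofBijective f hf.bijective_of_finite, rfl⟩
  · have hn' : (n : ℚ) ≠ 0 := by positivity
    refine mul_left_cancel₀ hn' ?_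
    rw [pairing_rec]
    have key : ∀ m ∈ Finset.range n,
        pairing (n - (m + 1)) (fun L => frob ((m + 1) ::ₘ L) a) (fun L => frob ((m + 1) ::ₘ L) b) =
          ((∑ i, if m + 1 ≤ a i then ∑ k, dlt (raise (lower a i (m + 1)) k (m + 1)) b else 0 : ℤ) : ℚ) := by
      intro m hm
      rw [Finset.mem_range] at hm
      push_cast
      simp only [pairing, frob_cons, Finset.sum_mul_sum, Int.cast_sum, Finset.sum_div]
      rw [Finset.sum_comm]
      refine Finset.sum_congr rfl fun i _ => ?_
      split_ifs with hi
      · have e := congrArg (fun z : ℤ => (z : ℚ)) (dlt_lower_right (lower a i (m + 1)) b (m + 1))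
        push_cast at e
        rw [← e, Finset.sum_comm]
        refine Finset.sum_congr rfl fun j _ => ?_
        by_cases hj : m + 1 ≤ b j
        · simp only [if_pos hj]
          rw [← ih (n - (m + 1)) (by omega) (lower a i (m + 1)) (lower b j (m + 1))
            (by have := sum_lower a hi; omega)]
          rfl
        · simp [show ¬ m < b j from hj]
      · simp
    rw [Finset.sum_congr rfl key, ← Int.cast_sum, Finset.sum_comm]
    have := collect (dlt_alternating (N := N) b) a
    rw [ha, Fintype.card_fin, ← sub_smul, smul_eq_mul] at this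
    have hsum : ∀ i, ∑ m ∈ Finset.range n,
        (if m + 1 ≤ a i then ∑ k, dlt (raise (lower a i (m + 1)) k (m + 1)) b else 0) =
        ∑ m ∈ Finset.range (a i), ∑ k, dlt (raise (lower a i (m + 1)) k (m + 1)) b := by
      intro i
      rw [← Finset.sum_filter]
      refine Finset.sum_subset (fun m hm => ?_) fun m hm hm' => ?_
      · simp only [Finset.mem_filter, Finset.mem_range] at hm ⊢; omega
      · simp only [Finset.mem_filter, Finset.mem_range, not_and] at hm hm'
        exact dlt_lower_eq_zero (by omega) (by
          by_contra h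
          exact hm' (by omega) (by omega))
    rw [Finset.sum_congr rfl fun i _ => hsum i, this]
    push_cast
    ring

end CfsgLib.SymBlocks
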